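import Groth.Agent.Lib.Depth.CM
import Groth.Agent.Lib.Goren.Basic
import Groth.Agent.Lib.VarDim.Alg
import Mathlib.RingTheory.Localization.LocalizationLocalization
import Mathlib.RingTheory.Jacobson.Ring

/-!
# Cohen–Macaulay quotients via depth at all maximal ideals
-/

namespace Groth.Agent.SMT

open CategoryTheory

universe u

variable {A : Type u} [CommRing A]

/-- `A ⧸ I` has depth at least `e` at every maximal ideal of `A`. -/
def AllDepth (I : Ideal A) (e : ℕ) : Prop :=
  ∀ m : Ideal A, m.IsMaximal → (e : ℕ∞) ≤ LocCoh.idealDepth m (A ⧸ I)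

theorem AllDepth.mono {I : Ideal A} {e e' : ℕ} (h : AllDepth I e) (he : e' ≤ e) : AllDepth I e' :=
  fun m hm => le_trans (Nat.cast_le.2 he) (h m hm)

theorem idealDepth_quotient_eq_top {I m : Ideal A} (h : m ⊔ I = ⊤) :
    LocCoh.idealDepth m (A ⧸ I) = ⊤ := by
  refine DepthLib.idealDepth_of_smul_top_eq_top ?_
  rw [eq_top_iff]
  rintro x -
  obtain ⟨a, rfl⟩ := Ideal.Quotient.mk_surjective x
  obtain ⟨u, hu, v, hv, huv⟩ := Submodule.mem_sup.1 (h.ge (Submodule.mem_top (x := (1 : A))))
  have : Ideal.Quotient.mk I a = u • Ideal.Quotient.mk I a := by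
    rw [show u • Ideal.Quotient.mk I a = Ideal.Quotient.mk I (u * a) from rfl, Ideal.Quotient.eq]
    have : a - u * a = v * a := by
      calc a - u * a = (u + v) * a - u * a := by rw [huv, one_mul]
        _ = v * a := by ring
    rw [this]
    exact I.mul_mem_right a hv
  rw [this]
  exact Submodule.smul_mem_smul hu trivial

variable [IsNoetherianRing A]

theorem idealDepth_inf {I J m : Ideal A} {e : ℕ} (hI : (e : ℕ∞) ≤ LocCoh.idealDepth m (A ⧸ I))
    (hJ : (e : ℕ∞) ≤ LocCoh.idealDepth m (A ⧸ J))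
    (hIJ : ((e - 1 : ℕ) : ℕ∞) ≤ LocCoh.idealDepth m (A ⧸ (I ⊔ J))) :
    (e : ℕ∞) ≤ LocCoh.idealDepth m (A ⧸ (I ⊓ J)) := by
  let f : (A ⧸ I ⊓ J) →ₗ[A] (A ⧸ I) × (A ⧸ J) :=
    (Submodule.factor (p := I ⊓ J) (p' := I) inf_le_left).prod (Submodule.factor (p := I ⊓ J) (p' := J) inf_le_right)
  let g : (A ⧸ I) × (A ⧸ J) →ₗ[A] A ⧸ I ⊔ J :=
    (Submodule.factor (p := I) (p' := I ⊔ J) le_sup_left).coprod
      (-(Submodule.factor (p := J) (p' := I ⊔ J) le_sup_right))
  have hfa : ∀ a : A, f (Submodule.Quotient.mk a) = (Submodule.Quotient.mk a, Submodule.Quotient.mk a) :=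
    fun a => rfl
  have hga : ∀ a b : A, g (Submodule.Quotient.mk a, Submodule.Quotient.mk b) = Submodule.Quotient.mk (a - b) :=
    fun a b => by
      show (Submodule.Quotient.mk a : A ⧸ I ⊔ J) + -(Submodule.Quotient.mk b : A ⧸ I ⊔ J) = _
      rw [Submodule.Quotient.mk_sub, sub_eq_add_neg]
  have hfg : g.comp f = 0 := Submodule.linearMap_qext _ (LinearMap.ext fun a => by
    show g (f (Submodule.Quotient.mk a)) = 0
    rw [hfa, hga, sub_self, Submodule.Quotient.mk_zero])
  let S : ShortComplex (ModuleCat.{u} A) :=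
    ShortComplex.mk (ModuleCat.ofHom f) (ModuleCat.ofHom g) (by ext1; exact hfg)
  have hS : S.ShortExact := by
    refine ShortComplex.ShortExact.mk' ?_ ?_ ?_
    · rw [ShortComplex.moduleCat_exact_iff]
      rintro ⟨x, y⟩ hxy
      obtain ⟨a, rfl⟩ := Submodule.Quotient.mk_surjective _ x
      obtain ⟨b, rfl⟩ := Submodule.Quotient.mk_surjective _ y
      have hab : a - b ∈ I ⊔ J := (Submodule.Quotient.mk_eq_zero _).1 ((hga a b).symm.trans hxy)
      obtain ⟨i, hi, j, hj, hij⟩ := Submodule.mem_sup.1 hab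
      refine ⟨Submodule.Quotient.mk (a - i), ?_⟩
      show f (Submodule.Quotient.mk (a - i)) = _
      rw [hfa]
      refine Prod.ext ((Submodule.Quotient.eq _).2 (by simpa using I.neg_mem hi))
        ((Submodule.Quotient.eq _).2 ?_)
      rw [show a - i - b = j by linear_combination -hij]
      exact hj
    · rw [ModuleCat.mono_iff_injective]
      show Function.Injective f
      rw [injective_iff_map_eq_zero]
      intro x hx
      obtain ⟨a, rfl⟩ := Submodule.Quotient.mk_surjective _ x
      rw [hfa, Prod.mk_eq_zero, Submodule.Quotient.mk_eq_zero, Submodule.Quotient.mk_eq_zero] at hx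
      exact (Submodule.Quotient.mk_eq_zero _).2 hx
    · rw [ModuleCat.epi_iff_surjective]
      intro x
      obtain ⟨a, rfl⟩ := Submodule.Quotient.mk_surjective _ x
      refine ⟨((Submodule.Quotient.mk a, Submodule.Quotient.mk 0) : (A ⧸ I) × (A ⧸ J)), ?_⟩
      show g _ = _
      rw [hga, sub_zero]
  let S' : ShortComplex (ModuleCat.{u} A) :=
    ShortComplex.mk (ModuleCat.ofHom (LinearMap.inl A (A ⧸ I) (A ⧸ J)))
      (ModuleCat.ofHom (LinearMap.snd A (A ⧸ I) (A ⧸ J))) (by ext; rfl)
  have hS' : S'.ShortExact := by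
    refine ShortComplex.ShortExact.mk' ?_ ?_ ?_
    · rw [ShortComplex.moduleCat_exact_iff]
      rintro ⟨x, y⟩ (hy : y = 0)
      subst hy
      exact ⟨x, rfl⟩
    · rw [ModuleCat.mono_iff_injective]; exact LinearMap.inl_injective
    · rw [ModuleCat.epi_iff_surjective]; exact LinearMap.snd_surjective
  haveI : Module.Finite A S.X₁ := inferInstanceAs (Module.Finite A (A ⧸ I ⊓ J))
  haveI : Module.Finite A S.X₂ := inferInstanceAs (Module.Finite A ((A ⧸ I) × (A ⧸ J)))
  haveI : Module.Finite A S.X₃ := inferInstanceAs (Module.Finite A (A ⧸ I ⊔ J))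
  haveI : Module.Finite A S'.X₁ := inferInstanceAs (Module.Finite A (A ⧸ I))
  haveI : Module.Finite A S'.X₂ := inferInstanceAs (Module.Finite A ((A ⧸ I) × (A ⧸ J)))
  haveI : Module.Finite A S'.X₃ := inferInstanceAs (Module.Finite A (A ⧸ J))
  have h2 : (e : ℕ∞) ≤ LocCoh.idealDepth m ((A ⧸ I) × (A ⧸ J)) :=
    (le_min hI hJ).trans (DepthLib.idealDepth_shortExact (I := m) hS').1
  refine le_trans (le_min h2 ?_) (DepthLib.idealDepth_shortExact (I := m) hS).2.2
  calc (e : ℕ∞) ≤ ((e - 1 + 1 : ℕ) : ℕ∞) := Nat.cast_le.2 (by omega)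
    _ = ((e - 1 : ℕ) : ℕ∞) + 1 := Nat.cast_succ _
    _ ≤ LocCoh.idealDepth m (A ⧸ I ⊔ J) + 1 := by gcongr

theorem AllDepth.inf {I J : Ideal A} {e : ℕ} (hI : AllDepth I e) (hJ : AllDepth J e)
    (hIJ : AllDepth (I ⊔ J) (e - 1)) : AllDepth (I ⊓ J) e :=
  fun m hm => idealDepth_inf (hI m hm) (hJ m hm) (hIJ m hm)

omit [IsNoetherianRing A] in
/-- Killing `p` in `A ⧸ I`. -/
noncomputable def quotSupEquiv (I : Ideal A) (p : A) :
    QuotSMulTop p (A ⧸ I) ≃ₗ[A] A ⧸ (I ⊔ Ideal.span {p}) :=
  Submodule.quotEquivOfEq _ _ (by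
      apply Submodule.ext
      intro x
      obtain ⟨a, rfl⟩ := Submodule.Quotient.mk_surjective _ x
      constructor
      · intro h
        obtain ⟨y, -, hy⟩ := (Submodule.mem_smul_pointwise_iff_exists _ _ _).1 h
        obtain ⟨b, rfl⟩ := Submodule.Quotient.mk_surjective _ y
        exact ⟨p * b, Submodule.mem_sup_right (Ideal.mem_span_singleton.2 (dvd_mul_right p b)), hy⟩
      · rintro ⟨y, hy, hxy⟩
        obtain ⟨i, hi, z, hz, rfl⟩ := Submodule.mem_sup.1 hy
        obtain ⟨b, rfl⟩ := Ideal.mem_span_singleton.1 hz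
        rw [← hxy]
        refine (Submodule.mem_smul_pointwise_iff_exists _ _ _).2 ⟨Submodule.Quotient.mk b, trivial, ?_⟩
        exact (Submodule.Quotient.eq _).2 (by simpa using I.neg_mem hi))
    ≪≫ₗ Submodule.quotientQuotientEquivQuotient I (I ⊔ Ideal.span {p}) le_sup_left

theorem idealDepth_sup_span_add_one {I m : Ideal A} {p : A} (hp : p ∈ m)
    (hreg : IsSMulRegular (A ⧸ I) p) :
    LocCoh.idealDepth m (A ⧸ (I ⊔ Ideal.span {p})) + 1 = LocCoh.idealDepth m (A ⧸ I) := by
  rw [← DepthLib.idealDepth_congr (quotSupEquiv I p), DepthLib.idealDepth_quotSMulTop_add_one hp hreg]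

theorem AllDepth.sup_span {I : Ideal A} {e : ℕ} {p : A} (hI : AllDepth I (e + 1))
    (hreg : IsSMulRegular (A ⧸ I) p) : AllDepth (I ⊔ Ideal.span {p}) e := by
  intro m hm
  by_cases hp : p ∈ m
  · have h := hI m hm
    rw [← idealDepth_sup_span_add_one hp hreg, Nat.cast_succ] at h
    exact (ENat.add_le_add_iff_right ENat.one_ne_top).1 h
  · rw [idealDepth_quotient_eq_top]
    · exact le_top
    · exact hm.1.2 _ (lt_of_le_of_ne le_sup_left fun h => hp
        (h.ge (Submodule.mem_sup_right (Submodule.mem_sup_right (Ideal.mem_span_singleton_self p)))))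

theorem depth_eq_of_ringEquiv {R S : Type u} [CommRing R] [CommRing S] [IsLocalRing R] [IsLocalRing S]
    (e : R ≃+* S) : LocCoh.depth S S = LocCoh.depth R R := by
  letI : Algebra R S := e.toRingHom.toAlgebra
  have hs : Function.Surjective (algebraMap R S) := e.surjective
  have hmap : (IsLocalRing.maximalIdeal R).map (algebraMap R S) = IsLocalRing.maximalIdeal S :=
    IsLocalRing.eq_maximalIdeal ((Ideal.isMaximal_map_iff_of_bijective (algebraMap R S) e.bijective).2 (IsLocalRing.maximalIdeal.isMaximal R))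
  rw [LocCoh.depth, ← hmap, GorenLib.idealDepth_map_of_surjective hs]
  exact DepthLib.idealDepth_congr (LinearEquiv.ofBijective (Algebra.linearMap R S) e.bijective).symm

theorem isCM_of_ringEquiv {R S : Type u} [CommRing R] [CommRing S] (e : R ≃+* S)
    (h : LocCoh.IsCohenMacaulayLocalRing R) : LocCoh.IsCohenMacaulayLocalRing S := by
  haveI := isNoetherianRing_of_ringEquiv R e
  haveI : IsLocalRing S := e.isLocalRing
  refine ⟨?_⟩
  rw [depth_eq_of_ringEquiv e, Module.supportDim_self_eq_ringKrullDim, ← ringKrullDim_eq_of_ringEquiv e,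
    ← Module.supportDim_self_eq_ringKrullDim]
  exact h.supportDim_eq_depth

/-- Localizing at a prime inside a prime with Cohen–Macaulay localization. -/
theorem isCM_localization_of_le {B : Type u} [CommRing B] [IsNoetherianRing B] {p q : Ideal B}
    [p.IsPrime] [q.IsPrime] (hpq : p ≤ q) (h : LocCoh.IsCohenMacaulayLocalRing (Localization.AtPrime q)) :
    LocCoh.IsCohenMacaulayLocalRing (Localization.AtPrime p) := by
  let P : Ideal (Localization.AtPrime q) := p.map (algebraMap B (Localization.AtPrime q))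
  have hd : Disjoint (q.primeCompl : Set B) (p : Set B) := Set.disjoint_left.2 fun x hx hxp => hx (hpq hxp)
  haveI hP : P.IsPrime := IsLocalization.isPrime_of_isPrime_disjoint q.primeCompl _ p inferInstance hd
  have hcomap : P.comap (algebraMap B (Localization.AtPrime q)) = p := by
    rw [← Ideal.under_def]
    exact IsLocalization.under_map_of_isPrime_disjoint q.primeCompl _ inferInstance hd
  have hCM := (DepthLib.isCohenMacaulayModule_localizedModule (M := Localization.AtPrime q)
    h.supportDim_eq_depth P (Module.mem_support_iff'.2 ⟨1, fun r hr h0 => hr (by simpa [show r = 0 by simpa using h0] using P.zero_mem)⟩)).1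
  have hP' : LocCoh.IsCohenMacaulayLocalRing (Localization.AtPrime P) := by
    refine ⟨?_⟩
    rw [Module.supportDim_self_eq_ringKrullDim, IsLocalization.AtPrime.ringKrullDim_eq_height P,
      ← DepthLib.supportDim_eq_ringKrullDim_of_isPrime P, hCM, DepthLib.depth_localizedModule_self]
  haveI : IsLocalization p.primeCompl (Localization.AtPrime P) := by
    have := IsLocalization.isLocalization_isLocalization_atPrime_isLocalization q.primeCompl
      (T := Localization.AtPrime P) P
    convert this using 2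
    exact hcomap.symm
  exact isCM_of_ringEquiv (IsLocalization.algEquiv p.primeCompl (Localization.AtPrime P)
    (Localization.AtPrime p)).toRingEquiv hP'

theorem isCM_ring_of_maximal {B : Type u} [CommRing B] [IsNoetherianRing B]
    (h : ∀ (m : Ideal B) [m.IsMaximal], LocCoh.IsCohenMacaulayLocalRing (Localization.AtPrime m)) :
    LocCoh.IsCohenMacaulayRing B := by
  refine @LocCoh.IsCohenMacaulayRing.mk B _ _ fun p hp => ?_
  obtain ⟨m, hm, hle⟩ := Ideal.exists_le_maximal p hp.ne_top
  exact isCM_localization_of_le hle (h m)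

theorem AllDepth.le_height {I : Ideal A} {e : ℕ} (h : AllDepth I e) (n : Ideal (A ⧸ I)) [hn : n.IsMaximal] :
    (e : ℕ∞) ≤ LocCoh.depth (Localization.AtPrime n) (Localization.AtPrime n) := by
  haveI := Ideal.comap_isMaximal_of_surjective (Ideal.Quotient.mk I) Ideal.Quotient.mk_surjective (K := n)
  have h1 : LocCoh.idealDepth n (A ⧸ I) = LocCoh.idealDepth (n.comap (Ideal.Quotient.mk I)) (A ⧸ I) := by
    rw [← GorenLib.idealDepth_map_of_surjective (A := A) (B := A ⧸ I) Ideal.Quotient.mk_surjective,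
      Ideal.Quotient.algebraMap_eq, Ideal.map_comap_of_surjective _ Ideal.Quotient.mk_surjective]
  have h2 := h _ this
  rw [← h1] at h2
  have h3 := (DepthLib.natCast_le_idealDepth_iff_forall_localized e).1 h2 ⟨n, hn.isPrime⟩ le_rfl
  rwa [DepthLib.depth_localizedModule_self] at h3

theorem AllDepth.isCM {I : Ideal A} {e : ℕ} (h : AllDepth I e)
    (hdim : ringKrullDim (A ⧸ I) ≤ (e : WithBot ℕ∞)) : LocCoh.IsCohenMacaulayRing (A ⧸ I) := by
  refine isCM_ring_of_maximal fun n _ => ⟨le_antisymm ?_ DepthLib.depth_le_supportDim⟩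
  rw [Module.supportDim_self_eq_ringKrullDim, IsLocalization.AtPrime.ringKrullDim_eq_height n]
  calc (n.height : WithBot ℕ∞) ≤ ringKrullDim (A ⧸ I) := Ideal.height_le_ringKrullDim_of_ne_top
        (Ideal.IsMaximal.ne_top inferInstance)
    _ ≤ (e : WithBot ℕ∞) := hdim
    _ ≤ _ := WithBot.coe_le_coe.2 (h.le_height n)

theorem AllDepth.le_ringKrullDim {I : Ideal A} {e : ℕ} (h : AllDepth I e) (hI : I ≠ ⊤) :
    (e : WithBot ℕ∞) ≤ ringKrullDim (A ⧸ I) := by
  haveI := Ideal.Quotient.nontrivial_iff.2 hI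
  obtain ⟨n, hn⟩ := Ideal.exists_maximal (A ⧸ I)
  refine le_trans (le_trans (WithBot.coe_le_coe.2 (h.le_height n)) DepthLib.depth_le_supportDim) ?_
  rw [Module.supportDim_self_eq_ringKrullDim, IsLocalization.AtPrime.ringKrullDim_eq_height n]
  exact Ideal.height_le_ringKrullDim_of_ne_top hn.ne_top

end Groth.Agent.SMT
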