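import Groth.Agent.Lib.SMT.Bitableaux

/-!
# The pairing `(U, W) ↦ U W`
-/

namespace Groth.Agent.SMT

open W4bk4grassmannian MvPolynomial

universe u

variable (K : Type u) [Field K] [Infinite K] {d r n : ℕ}

theorem det_mul_eq_zero_of_lt {R : Type*} [CommRing R] {k l : ℕ} (h : l < k) (U : Matrix (Fin k) (Fin l) R)
    (W : Matrix (Fin l) (Fin k) R) : (U * W).det = 0 := by
  let U' : Matrix (Fin k) (Fin k) R := Matrix.of fun i c => if hc : c.val < l then U i ⟨c.val, hc⟩ else 0
  let W' : Matrix (Fin k) (Fin k) R := Matrix.of fun c j => if hc : c.val < l then W ⟨c.val, hc⟩ j else 0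
  have e : U * W = U' * W' := by
    ext i j
    simp only [Matrix.mul_apply, U', W', Matrix.of_apply]
    refine Finset.sum_of_injOn (Fin.castLE h.le) (fun a _ b _ e => Fin.castLE_injective _ e) (by simp) ?_ ?_
    · intro c _ hc
      rw [dif_neg fun hc' => hc ⟨⟨c.val, hc'⟩, Finset.mem_univ _, Fin.ext rfl⟩, zero_mul]
    · intro a _
      simp
  rw [e, Matrix.det_mul, Matrix.det_eq_zero_of_column_eq_zero ⟨l, h⟩ (fun i => by simp [U']), zero_mul]

omit [Infinite K] in
theorem pairingMap_minorIdeal (m q : ℕ) {p : MvPolynomial (Fin m × Fin q) K}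
    (hp : p ∈ CAlgX.minorIdeal (genMatrix K m q) (n + 1)) : pairingMap K n m q p = 0 := by
  have hle : CAlgX.minorIdeal (genMatrix K m q) (n + 1) ≤ RingHom.ker (pairingMap K n m q).toRingHom := by
    refine Ideal.span_le.2 ?_
    rintro _ ⟨⟨f, g⟩, rfl⟩
    show pairingMap K n m q ((genMatrix K m q).submatrix f g).det = 0
    rw [AlgHom.map_det, show (pairingMap K n m q).mapMatrix ((genMatrix K m q).submatrix f g) =
      (Matrix.of fun i k => (X (Sum.inl (f i, k)) : PairRing K n m q)) *
        (Matrix.of fun k j => (X (Sum.inr (k, g j)) : PairRing K n m q)) by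
      ext i j; simp [genMatrix, pairingMap, Matrix.mul_apply]]
    exact det_mul_eq_zero_of_lt (Nat.lt_succ_self n) _ _
  exact hle hp

/-- On a Schubert variety inside the rank `≤ n` locus the normalised matrix factors through rank `n`. -/
theorem exists_factor {s : ℕ} (hs : s ≤ r) (hsn : s ≤ n) {φ : Idx d (d + r)} (hφ : φ ≤ wIdx d r s hs) :
    ∃ ψ : PairRing K n r d →ₐ[K] FractionRing (MatRing K d (d + r)),
      sigma K φ = ψ.comp (pairingMap K n r d) := by
  classical
  let U : Fin r → Fin n → FractionRing (MatRing K d (d + r)) := fun i l =>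
    if h : l.val < d then genL K φ (Fin.natAdd d i.rev) (Fin.rev ⟨l.val, h⟩) else 0
  let W : Fin n → Fin d → FractionRing (MatRing K d (d + r)) := fun l j =>
    if h : l.val < d then (topL K φ)⁻¹ (Fin.rev ⟨l.val, h⟩) j else 0
  refine ⟨MvPolynomial.aeval (Sum.elim (fun p => U p.1 p.2) (fun p => W p.1 p.2)),
    MvPolynomial.algHom_ext fun p => ?_⟩
  simp only [sigma, nrmL, aeval_X, AlgHom.comp_apply, pairingMap, map_sum, map_mul, Sum.elim_inl,
    Sum.elim_inr, Matrix.mul_apply]
  refine Finset.sum_bij_ne_zero (fun k _ hk => (⟨k.rev.val, ?_⟩ : Fin n)) (fun _ _ _ => Finset.mem_univ _)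
    (fun a _ _ b _ _ e => Fin.rev_injective (Fin.ext (by simpa [Fin.ext_iff] using e))) ?_ ?_
  · by_contra hge
    apply hk
    have hz : genL K φ (Fin.natAdd d p.1.rev) k = 0 := by
      have := Fin.le_def.1 (hφ k)
      simp only [Fin.val_rev] at hge
      simp only [wIdx, dif_pos (show k.val + s < d by omega)] at this
      rw [genL, Matrix.map_apply, echMatrix, Matrix.of_apply, if_neg, map_zero]
      rw [Fin.le_def]
      simp
      omega
    rw [hz, zero_mul]
  · intro l _ hl
    have hld : l.val < d := by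
      by_contra h
      simp [U, dif_neg h] at hl
    refine ⟨Fin.rev ⟨l.val, hld⟩, Finset.mem_univ _, ?_, Fin.ext (by simp [Fin.rev_rev])⟩
    simpa [U, W, dif_pos hld] using hl
  · intro k _ hk
    simp only [U, W]
    rw [dif_pos k.rev.2, dif_pos k.rev.2]
    have e : Fin.rev ⟨k.rev.val, k.rev.2⟩ = k := Fin.rev_rev k
    rw [e]

theorem minorIdeal_eq_bot {R : Type u} [CommRing R] {m q t : ℕ} (A : Matrix (Fin m) (Fin q) R)
    (h : m < t ∨ q < t) : CAlgX.minorIdeal A t = ⊥ := by
  rw [CAlgX.minorIdeal, Ideal.span_eq_bot]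
  rintro _ ⟨⟨f, g⟩, rfl⟩
  rcases h with h | h
  · obtain ⟨a, b, hne, e⟩ := Fintype.exists_ne_map_eq_of_card_lt f (by simpa)
    exact Matrix.det_zero_of_row_eq hne (funext fun j => by simp [e])
  · obtain ⟨a, b, hne, e⟩ := Fintype.exists_ne_map_eq_of_card_lt g (by simpa)
    exact Matrix.det_zero_of_column_eq hne (fun j => by simp [e])

theorem ker_pairingMap (m q : ℕ) :
    RingHom.ker (pairingMap K n m q).toRingHom = CAlgX.minorIdeal (genMatrix K m q) (n + 1) := by
  refine le_antisymm (fun p hp => ?_) fun p hp => pairingMap_minorIdeal K m q hp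
  rcases Nat.eq_zero_or_pos q with rfl | hq
  · have hz : p = C (p.coeff 0) := MvPolynomial.eq_C_of_isEmpty p
    have h0 : pairingMap K n m 0 p = 0 := hp
    rw [hz, show pairingMap K n m 0 (C (p.coeff 0)) = C (p.coeff 0) from (pairingMap K n m 0).commutes _,
      C_eq_zero] at h0
    rw [hz, h0, map_zero]
    exact zero_mem _
  · let s := min n m
    have hs : s ≤ m := min_le_right _ _
    have hI : CAlgX.minorIdeal (genMatrix K m q) (s + 1) ≤ CAlgX.minorIdeal (genMatrix K m q) (n + 1) := by
      by_cases h : n ≤ m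
      · rw [show s = n from min_eq_left h]
      · rw [minorIdeal_eq_bot (t := s + 1) _ (Or.inl (by simp only [s]; omega))]
        exact bot_le
    refine hI ?_
    rw [← ker_sigma K hq hs]
    obtain ⟨ψ, hψ⟩ := exists_factor K hs (n := n) (min_le_left _ _) (le_refl (wIdx q m s hs))
    show sigma K (wIdx q m s hs) p = 0
    rw [hψ, AlgHom.comp_apply, show pairingMap K n m q p = 0 from hp, map_zero]

end Groth.Agent.SMT
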