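import Mathlib.RingTheory.IntegralClosure.IntegrallyClosed
import Mathlib.RingTheory.UniqueFactorizationDomain.Ideal
import Mathlib.RingTheory.UniqueFactorizationDomain.Kaplansky
import Mathlib.RingTheory.Localization.Away.Basic
import Mathlib.RingTheory.Localization.Ideal
import Mathlib.RingTheory.Localization.FractionRing
import Mathlib.RingTheory.Localization.Integral
import Mathlib.RingTheory.Noetherian.UniqueFactorizationDomain

/-!
# Descending normality and factoriality from `R[1/p]`
-/

namespace Groth.Agent.SMT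

universe u v

variable {R : Type u} [CommRing R] [IsDomain R] (p : R)
variable {P : Type v} [CommRing P] [Algebra R P] [IsLocalization.Away p P]

theorem isIntegrallyClosed_of_away [IsDomain P] [IsIntegrallyClosed P] (hp0 : p ≠ 0)
    (hred : (Ideal.span {p}).IsRadical) : IsIntegrallyClosed R := by
  have hM : Submonoid.powers p ≤ nonZeroDivisors R := powers_le_nonZeroDivisors_of_noZeroDivisors hp0
  have hinj : Function.Injective (algebraMap R P) := IsLocalization.injective P hM
  let F := FractionRing R
  have hpu : IsUnit (algebraMap R F p) :=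
    (IsUnit.mk0 _ ((map_ne_zero_iff _ (IsFractionRing.injective R F)).2 hp0))
  letI : Algebra P F := (IsLocalization.Away.lift p hpu).toAlgebra
  haveI : IsScalarTower R P F :=
    IsScalarTower.of_algebraMap_eq fun x => (IsLocalization.Away.lift_eq p hpu x).symm
  haveI : IsFractionRing P F :=
    IsFractionRing.isFractionRing_of_isDomain_of_isLocalization (Submonoid.powers p) P F
  rw [isIntegrallyClosed_iff F]
  intro x hx
  obtain ⟨y, rfl⟩ := IsIntegrallyClosed.isIntegral_iff.1 (hx.tower_top (A := P))
  have hy : IsIntegral R y := (isIntegral_algebraMap_iff (IsFractionRing.injective P F)).1 hx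
  suffices h : ∃ r, algebraMap R P r = y by
    obtain ⟨r, rfl⟩ := h
    exact ⟨r, IsScalarTower.algebraMap_apply R P F r⟩
  classical
  have hex : ∃ k : ℕ, ∃ r, y * algebraMap R P p ^ k = algebraMap R P r := IsLocalization.Away.surj p y
  obtain ⟨r, hr⟩ := Nat.find_spec hex
  by_contra hne
  have hk : Nat.find hex ≠ 0 := fun h0 => hne ⟨r, by rw [h0, pow_zero, mul_one] at hr; exact hr.symm⟩
  obtain ⟨f, hf, hfy⟩ := hy
  -- clear denominators in the integral equation
  have hscale : Polynomial.eval₂ (algebraMap R P) (algebraMap R P r)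
      (f.scaleRoots (p ^ Nat.find hex)) = 0 := by
    have h := Polynomial.scaleRoots_eval₂_mul (p := f) (algebraMap R P) y (p ^ Nat.find hex)
    rw [hfy, mul_zero, map_pow, mul_comm, hr] at h
    exact h
  rw [Polynomial.eval₂_at_apply] at hscale
  have h0 : Polynomial.eval r (f.scaleRoots (p ^ Nat.find hex)) = 0 := hinj (by rw [map_zero]; exact hscale)
  rw [Polynomial.eval_eq_sum_range, Finset.sum_range_succ, Polynomial.natDegree_scaleRoots,
    Polynomial.coeff_scaleRoots, Nat.sub_self, pow_zero, mul_one, hf.coeff_natDegree, one_mul] at h0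
  have hmem : r ^ f.natDegree ∈ Ideal.span {p} := by
    rw [eq_neg_of_add_eq_zero_right h0]
    refine neg_mem (sum_mem fun i hi => ?_)
    have hi' := Finset.mem_range.1 hi
    rw [Polynomial.coeff_scaleRoots, mul_assoc]
    refine Ideal.mul_mem_left _ _ (Ideal.mul_mem_right _ _ ?_)
    rw [Ideal.mem_span_singleton, ← pow_mul]
    exact dvd_pow_self p (Nat.mul_pos (Nat.pos_of_ne_zero hk) (by omega)).ne'
  obtain ⟨q, rfl⟩ := Ideal.mem_span_singleton'.1 (hred ⟨_, hmem⟩)
  refine Nat.find_min hex (Nat.sub_lt (Nat.pos_of_ne_zero hk) one_pos) ⟨q, ?_⟩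
  have hu : IsUnit (algebraMap R P p) := IsLocalization.Away.algebraMap_isUnit p
  apply hu.mul_right_cancel
  rw [mul_assoc, ← pow_succ, Nat.sub_one_add_one hk, hr, map_mul]

theorem ufd_of_away [IsNoetherianRing R] [IsDomain P] [UniqueFactorizationMonoid P] (hp : Prime p) :
    UniqueFactorizationMonoid R := by
  have hM : Submonoid.powers p ≤ nonZeroDivisors R := powers_le_nonZeroDivisors_of_noZeroDivisors hp.ne_zero
  have hinj : Function.Injective (algebraMap R P) := IsLocalization.injective P hM
  refine UniqueFactorizationMonoid.iff_exists_prime_mem_of_isPrime.mpr fun I hI0 hI => ?_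
  by_cases hpI : p ∈ I
  · exact ⟨p, hpI, hp⟩
  have hdisj : Disjoint (Submonoid.powers p : Set R) (I : Set R) := by
    rw [Set.disjoint_left]
    rintro _ ⟨n, rfl⟩ hn
    exact hpI (hI.mem_of_pow_mem n hn)
  have hIP := IsLocalization.isPrime_of_isPrime_disjoint (Submonoid.powers p) P I hI hdisj
  have hne : Ideal.map (algebraMap R P) I ≠ ⊥ := fun h => hI0 ((Ideal.map_eq_bot_iff_of_injective hinj).1 h)
  obtain ⟨q, hqI, hq⟩ := hIP.exists_mem_prime_of_ne_bot hne
  obtain ⟨k, a, ha⟩ := IsLocalization.Away.surj p q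
  have hu : IsUnit (algebraMap R P p) := IsLocalization.Away.algebraMap_isUnit p
  have haq : Associated q (algebraMap R P a) := ⟨(hu.pow k).unit, by rw [IsUnit.unit_spec, ha]⟩
  have ha0 : a ≠ 0 := fun h => (haq.prime hq).ne_zero (by rw [h, map_zero])
  obtain ⟨m, r, hpr, rfl⟩ := WfDvdMonoid.max_power_factor ha0 hp.irreducible
  have hr : Prime (algebraMap R P r) := by
    refine Associated.prime ?_ (haq.prime hq)
    rw [map_mul, map_pow]
    exact (associated_isUnit_mul_left_iff (hu.pow m)).2 (Associated.refl _)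
  have hrI : r ∈ I := by
    have hmem : algebraMap R P r ∈ Ideal.map (algebraMap R P) I := by
      have h1 : algebraMap R P (p ^ m * r) ∈ Ideal.map (algebraMap R P) I := by
        rw [← ha]; exact Ideal.mul_mem_right _ _ hqI
      rw [map_mul, map_pow] at h1
      exact (Ideal.unit_mul_mem_iff_mem _ (hu.pow m)).1 h1
    rw [← Ideal.mem_comap, ← Ideal.under_def, IsLocalization.under_map_of_isPrime_disjoint (Submonoid.powers p) P hI hdisj] at hmem
    exact hmem
  refine ⟨r, hrI, fun h => hr.ne_zero (by rw [h, map_zero]), fun h => hr.not_isUnit (h.map _), fun a b hab => ?_⟩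
  have key : ∀ a : R, algebraMap R P r ∣ algebraMap R P a → r ∣ a := by
    rintro a ⟨w, hw⟩
    obtain ⟨l, c, hc⟩ := IsLocalization.Away.surj p w
    have h1 : p ^ l * a = r * c := hinj (by
      rw [map_mul, map_mul, map_pow, ← hc, hw]; ring)
    clear hc
    induction l generalizing c with
    | zero => exact ⟨c, by rw [← h1, pow_zero, one_mul]⟩
    | succ l ih =>
      obtain ⟨c', rfl⟩ : p ∣ c := (hp.dvd_or_dvd ⟨p ^ l * a, by rw [← h1]; ring⟩).resolve_left hpr
      exact ih c' (mul_left_cancel₀ hp.ne_zero (by linear_combination h1))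
  exact (hr.dvd_or_dvd (by rw [← map_mul]; exact map_dvd _ hab)).imp (key a) (key b)

end Groth.Agent.SMT
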