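import Groth.Agent.Lib.SMT.Expansion

/-!
# Echelon matrices with a lower bound: the intervals of `I(d,n)`
-/

namespace Groth.Agent.SMT

open W4bk4grassmannian MvPolynomial

universe u

variable {d n : ℕ} (K : Type u) [CommRing K]

/-- Kill the entries above the lower bound. -/
noncomputable def killMap (lo : Idx d n) : MatRing K d n →ₐ[K] MatRing K d n :=
  MvPolynomial.aeval fun p : Fin n × Fin d => if lo.1 p.2 ≤ p.1 then X p else 0

/-- Plücker polynomials on matrices in band shape. -/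
noncomputable def bandMap (lo hi : Idx d n) : PlRing K d n →ₐ[K] MatRing K d n :=
  (killMap K lo).comp (echMap K hi)

theorem killMap_monomial_of_le (lo : Idx d n) (x : Fin n × Fin d →₀ ℕ) (c : K)
    (h : ∀ p ∈ x.support, lo.1 p.2 ≤ p.1) : killMap K lo (monomial x c) = monomial x c := by
  rw [killMap, aeval_monomial, monomial_eq]
  congr 1
  exact Finset.prod_congr rfl fun p hp => by simp only; rw [if_pos (h p hp)]

theorem killMap_monomial_of_not (lo : Idx d n) (x : Fin n × Fin d →₀ ℕ) (c : K)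
    (h : ¬ ∀ p ∈ x.support, lo.1 p.2 ≤ p.1) : killMap K lo (monomial x c) = 0 := by
  push Not at h
  obtain ⟨p, hp, hlt⟩ := h
  rw [killMap, aeval_monomial, Finsupp.prod, Finset.prod_eq_zero hp, mul_zero]
  rw [if_neg (not_le.2 hlt), zero_pow (Finsupp.mem_support_iff.1 hp)]

theorem Top.kill {lo : Idx d n} {p : MatRing K d n} {m : Fin n × Fin d →₀ ℕ} (hp : Top wt p m)
    (hm : ∀ x ∈ m.support, lo.1 x.2 ≤ x.1) : Top wt (killMap K lo p) m := by
  classical
  obtain ⟨q, rfl, hq⟩ := hp
  refine ⟨killMap K lo q, by rw [map_add, killMap_monomial_of_le K lo m 1 hm], ?_⟩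
  rw [q.as_sum, map_sum]
  refine Below'.sum wt fun x hx => ?_
  intro y hy
  by_cases h : ∀ p ∈ x.support, lo.1 p.2 ≤ p.1
  · rw [killMap_monomial_of_le K lo x _ h] at hy
    obtain rfl : y = x := by simpa using support_monomial_subset hy
    exact hq y hx
  · rw [killMap_monomial_of_not K lo x _ h] at hy
    simp at hy

theorem bandMap_X_of_not_ge {lo hi θ : Idx d n} (h : ¬ lo ≤ θ) : bandMap K lo hi (X θ) = 0 := by
  classical
  rw [bandMap, AlgHom.comp_apply, echMap, aeval_X, AlgHom.map_det, Matrix.det_apply]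
  refine Finset.sum_eq_zero fun σ _ => ?_
  obtain ⟨t, ht'⟩ : ∃ t, ¬ lo.1 t ≤ θ.1 (σ t) := by
    by_contra hno
    push Not at hno
    refine h fun t₀ => ?_
    by_contra hlt
    have hmap : ∀ t ∈ Finset.Ici t₀, σ t ∈ Finset.Ioi t₀ := by
      intro t ht1
      rw [Finset.mem_Ici] at ht1
      rw [Finset.mem_Ioi]
      by_contra hge
      exact hlt ((lo.2.monotone ht1).trans ((hno t).trans (θ.2.monotone (not_lt.1 hge))))
    have := Finset.card_le_card_of_injOn _ hmap σ.injective.injOn
    rw [Fin.card_Ici, Fin.card_Ioi] at this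
    have := t₀.2
    omega
  rw [Finset.prod_eq_zero (Finset.mem_univ t) ?_, smul_zero]
  simp only [AlgHom.mapMatrix_apply, Matrix.map_apply, Matrix.submatrix_apply, echMatrix,
    Matrix.of_apply, id]
  split_ifs with h'
  · rw [killMap, aeval_X, if_neg ht']
  · exact map_zero _

theorem top_bandMap_X {lo hi θ : Idx d n} (h₁ : lo ≤ θ) (h₂ : θ ≤ hi) :
    Top wt (bandMap K lo hi (X θ)) (diag θ) := by
  classical
  refine (top_echMap_X K h₂).kill K fun x hx => ?_
  obtain ⟨t, -, ht'⟩ := Finset.mem_biUnion.1 (Finsupp.support_finsetSum hx)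
  obtain rfl := Finset.mem_singleton.1 (Finsupp.support_single_subset ht')
  exact h₁ t

theorem bandMap_eq_zero_of_mem [IsDomain K] [Infinite K] {lo hi : Idx d n} {p : PlRing K d n}
    (hp : p ∈ schubertVanishing K d n hi) : bandMap K lo hi p = 0 := by
  rw [bandMap, AlgHom.comp_apply, echMap_eq_zero_of_mem K hp, map_zero]

/-- The indices below the band form the ideal of its kernel. -/
theorem ker_bandMap [IsDomain K] [Infinite K] (hd : 0 < d) (lo hi : Idx d n) :
    RingHom.ker (bandMap K lo hi).toRingHom =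
      schubertVanishing K d n hi ⊔ Ideal.span (X '' {θ : Idx d n | ¬ lo ≤ θ}) := by
  classical
  have hge : schubertVanishing K d n hi ⊔ Ideal.span (X '' {θ : Idx d n | ¬ lo ≤ θ}) ≤
      RingHom.ker (bandMap K lo hi).toRingHom := by
    refine sup_le (fun p hp => bandMap_eq_zero_of_mem K hp) (Ideal.span_le.2 ?_)
    rintro _ ⟨θ, hθ, rfl⟩
    exact bandMap_X_of_not_ge K hθ
  refine le_antisymm (fun p hp => ?_) hge
  set J := schubertVanishing K d n hi ⊔ Ideal.span (X '' {θ : Idx d n | ¬ lo ≤ θ})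
  set l := (stdBasis K hd hi).repr (Ideal.Quotient.mk _ p)
  have hpl : p - l.sum (fun t c => c • mX K t.1) ∈ schubertVanishing K d n hi := by
    rw [← Ideal.Quotient.eq_zero_iff_mem, map_sub, sub_eq_zero, map_finsuppSum]
    conv_lhs => rw [← (stdBasis K hd hi).linearCombination_repr (Ideal.Quotient.mk _ p)]
    rw [Finsupp.linearCombination_apply]
    refine Finsupp.sum_congr fun t _ => ?_
    rw [stdBasis_apply]
    exact (map_smul (Ideal.Quotient.mkₐ K _) _ _).symm
  have hbad : ∀ t : CMS hi, ¬ (∀ a ∈ t.1, lo ≤ a) → mX K t.1 ∈ J := fun t h => by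
    push Not at h
    obtain ⟨a, ha, hla⟩ := h
    exact Ideal.mem_sup_right (Ideal.mem_of_dvd _ (Multiset.dvd_prod (Multiset.mem_map_of_mem _ ha))
      (Ideal.subset_span ⟨a, hla, rfl⟩))
  have h0 : bandMap K lo hi p = 0 := hp
  have hz := bandMap_eq_zero_of_mem K (lo := lo) hpl
  rw [map_sub, h0, zero_sub, neg_eq_zero, Finsupp.sum, map_sum,
    ← Finset.sum_filter_add_sum_filter_not l.support (fun t : CMS hi => ∀ a ∈ t.1, lo ≤ a),
    Finset.sum_eq_zero (s := l.support.filter fun t : CMS hi => ¬ ∀ a ∈ t.1, lo ≤ a), add_zero] at hz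
  swap
  · intro t ht'
    obtain ⟨a, ha, hla⟩ : ∃ a ∈ t.1, ¬ lo ≤ a := by simpa using (Finset.mem_filter.1 ht').2
    rw [map_smul, map_mX, Multiset.prod_eq_zero, smul_zero]
    exact Multiset.mem_map.2 ⟨a, ha, bandMap_X_of_not_ge K hla⟩
  simp only [map_smul] at hz
  have hli : LinearIndependent K (fun s : {s : CMS hi // ∀ a ∈ s.1, lo ≤ a} =>
      bandMap K lo hi (mX K s.1.1)) := by
    refine linearIndependent_of_top wt _ (fun s : {s : CMS hi // ∀ a ∈ s.1, lo ≤ a} => mdiag s.1.1)
      (fun s => ?_) (fun a b h => Subtype.ext (Subtype.ext (mdiag_injOn_chains hd a.1.2.1 b.1.2.1 h)))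
    rw [map_mX]
    exact Top.multiset_prod wt s.1.1 _ _ fun a ha => top_bandMap_X K (s.2 a ha) (s.1.2.2 a ha)
  have hzero : ∀ t : CMS hi, (∀ a ∈ t.1, lo ≤ a) → l t = 0 := fun t ht' => by
    by_contra hne
    exact hne (linearIndependent_iff'.1 hli (l.support.subtype fun s : CMS hi => ∀ a ∈ s.1, lo ≤ a)
      (fun s => l s.1) (by
        rw [Finset.sum_subtype_eq_sum_filter (f := fun s : CMS hi => l s • bandMap K lo hi (mX K s.1))]
        exact hz) ⟨t, ht'⟩ (Finset.mem_subtype.2 (Finsupp.mem_support_iff.2 hne)))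
  have hsum : l.sum (fun t c => c • mX K t.1) ∈ J := by
    refine Ideal.sum_mem _ fun t _ => ?_
    by_cases h : ∀ a ∈ t.1, lo ≤ a
    · simp [hzero t h]
    · exact Submodule.smul_of_tower_mem _ _ (hbad t h)
  simpa using add_mem (Ideal.mem_sup_left hpl : p - l.sum (fun t c => c • mX K t.1) ∈ J) hsum

end Groth.Agent.SMT
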