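import Groth.Agent.Lib.SMT.Idx
import Mathlib.LinearAlgebra.Alternating.DomCoprod
import Mathlib.LinearAlgebra.StdBasis
import Mathlib.Data.Fintype.Sort
import Mathlib.GroupTheory.Perm.Finite
import Mathlib.LinearAlgebra.Multilinear.Basis
import Mathlib.Algebra.BigOperators.Intervals

/-!
# The shuffle relations vanish on minors
-/

namespace Groth.Agent.SMT

open W4bk4grassmannian MvPolynomial

universe u

variable {R : Type*} [CommRing R] {d n : ℕ}

/-- The determinant as an alternating map in a subset of the rows, the others being frozen. -/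
noncomputable def detSome {p : ℕ} (pos : Fin p → Fin d) (hpos : Function.Injective pos)
    (C : Fin d → Fin d → R) : (Fin d → R) [⋀^Fin p]→ₗ[R] R :=
  letI row : (Fin p → Fin d → R) → Fin d → Fin d → R := fun w => Function.extend pos w C
  { toFun := fun w => Matrix.det (Matrix.of (row w))
    map_update_add' := by
      intro _ w i x y
      have h : ∀ z, row (Function.update w i z) = Function.update (row w) (pos i) z := fun z => by
        funext t
        by_cases ht : ∃ u, pos u = t
        · obtain ⟨u, rfl⟩ := ht
          simp only [row, hpos.extend_apply]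
          by_cases hu : u = i
          · subst hu; simp
          · rw [Function.update_of_ne hu, Function.update_of_ne fun h => hu (hpos h),
              hpos.extend_apply]
        · simp only [row, Function.extend_apply' _ _ _ ht]
          rw [Function.update_of_ne fun h => ht ⟨i, h.symm⟩, Function.extend_apply' _ _ _ ht]
      simp only [h]
      exact Matrix.det_updateRow_add (Matrix.of (row w)) (pos i) x y
    map_update_smul' := by
      intro _ w i c x
      have h : ∀ z, row (Function.update w i z) = Function.update (row w) (pos i) z := fun z => by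
        funext t
        by_cases ht : ∃ u, pos u = t
        · obtain ⟨u, rfl⟩ := ht
          simp only [row, hpos.extend_apply]
          by_cases hu : u = i
          · subst hu; simp
          · rw [Function.update_of_ne hu, Function.update_of_ne fun h => hu (hpos h),
              hpos.extend_apply]
        · simp only [row, Function.extend_apply' _ _ _ ht]
          rw [Function.update_of_ne fun h => ht ⟨i, h.symm⟩, Function.extend_apply' _ _ _ ht]
      simp only [h]
      exact Matrix.det_updateRow_smul (Matrix.of (row w)) (pos i) c x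
    map_eq_zero_of_eq' := fun w i j hij hne => by
      refine Matrix.det_zero_of_row_eq (fun h => hne (hpos h)) ?_
      show row w (pos i) = row w (pos j)
      simp only [row, hpos.extend_apply, hij] }

theorem detSome_apply {p : ℕ} (pos : Fin p → Fin d) (hpos : Function.Injective pos)
    (C : Fin d → Fin d → R) (w : Fin p → Fin d → R) :
    detSome pos hpos C w = Matrix.det (Matrix.of (Function.extend pos w C)) := rfl

/-- An alternating map in more arguments than the rank vanishes. -/
theorem alternating_eq_zero {ι N : Type*} [Fintype ι] [AddCommGroup N] [Module R N]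
    (F : (Fin d → R) [⋀^ι]→ₗ[R] N) (h : d < Fintype.card ι) : F = 0 := by
  refine (Pi.basisFun R (Fin d)).ext_alternating fun v hv => ?_
  have := Fintype.card_le_of_injective v hv
  simp at this
  omega

section shuffle

variable (r : Fin d)

/-- The positions of the moving rows: the first `r + 1`, and the last `d - r`. -/
def splitEquiv : Fin (r.val + 1) ⊕ Fin (d - r.val) ≃ Fin (d + 1) :=
  finSumFinEquiv.trans (finCongr (by have := r.isLt; omega))

theorem card_compl_of_card {A : Finset (Fin (d + 1))} (hA : A.card = r.val + 1) :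
    Aᶜ.card = d - r.val := by
  rw [Finset.card_compl, hA, Fintype.card_fin]; omega

/-- The shuffle of a set of positions. -/
def shuffle (A : Finset (Fin (d + 1))) (hA : A.card = r.val + 1) :
    Equiv.Perm (Fin (r.val + 1) ⊕ Fin (d - r.val)) :=
  (finSumEquivOfFinset hA (card_compl_of_card r hA)).trans (splitEquiv r).symm

theorem sign_shuffle (A : Finset (Fin (d + 1))) (hA : A.card = r.val + 1) :
    ((Equiv.Perm.sign (shuffle r A hA) : ℤˣ) : ℤ) = (-1) ^ shuffleSign r A := by
  set π := finSumEquivOfFinset hA (card_compl_of_card r hA)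
  set τ : Equiv.Perm (Fin (d + 1)) := (splitEquiv r).symm.trans π
  have hs : Equiv.Perm.sign (shuffle r A hA) = Equiv.Perm.sign τ := by
    rw [← Equiv.Perm.sign_permCongr (splitEquiv r) (shuffle r A hA)]
    congr 1
    ext x
    simp [shuffle, τ, π, Equiv.permCongr_apply]
  rw [hs, sign_eq_invCount (θ := (id : Fin (d + 1) → Fin (d + 1))) strictMono_id τ]
  congr 1
  have hl : ∀ t, (splitEquiv r (Sum.inl t) : ℕ) = t := fun t => by simp [splitEquiv]
  have hr : ∀ t, (splitEquiv r (Sum.inr t) : ℕ) = r.val + 1 + t := fun t => by simp [splitEquiv]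
  have key : invCount (d + 1) (d + 1) (id ∘ τ) =
      ((A ×ˢ Aᶜ).filter fun q => q.2 < q.1).card := by
    unfold invCount
    refine Finset.card_bij (fun x _ => (τ x.1, τ x.2)) ?_ ?_ ?_
    · rintro ⟨x, y⟩ hxy
      simp only [Finset.mem_filter, Finset.mem_univ, true_and, Function.comp_apply, id] at hxy
      obtain ⟨x, rfl⟩ := (splitEquiv r).surjective x
      obtain ⟨y, rfl⟩ := (splitEquiv r).surjective y
      simp only [τ, Equiv.trans_apply, Equiv.symm_apply_apply] at hxy ⊢
      obtain ⟨h1, h2⟩ := hxy
      rw [Fin.lt_def] at h1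
      simp only [Finset.mem_filter, Finset.mem_product]
      rcases x with x | x <;> rcases y with y | y <;>
        simp only [π, finSumEquivOfFinset_inl, finSumEquivOfFinset_inr, hl, hr] at h1 h2 ⊢
      · exact absurd ((A.orderEmbOfFin hA).strictMono (show x < y by rw [Fin.lt_def]; exact h1)) (not_lt.2 h2.le)
      · exact ⟨⟨Finset.orderEmbOfFin_mem _ _ _, Finset.orderEmbOfFin_mem _ _ _⟩, h2⟩
      · omega
      · exact absurd ((Aᶜ.orderEmbOfFin (card_compl_of_card r hA)).strictMono
          (show x < y by rw [Fin.lt_def]; omega)) (not_lt.2 h2.le)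
    · rintro ⟨a, b⟩ _ ⟨c, e⟩ _ h
      simp only [Prod.mk.injEq] at h
      rw [τ.injective h.1, τ.injective h.2]
    · rintro ⟨a, b⟩ hab
      simp only [Finset.mem_filter, Finset.mem_product] at hab
      obtain ⟨⟨ha, hb⟩, hlt⟩ := hab
      obtain ⟨x, hx⟩ : ∃ x, π (Sum.inl x) = a := by
        rw [← Finset.image_orderEmbOfFin_univ A hA] at ha
        obtain ⟨x, _, hx⟩ := Finset.mem_image.1 ha
        exact ⟨x, hx⟩
      obtain ⟨y, hy⟩ : ∃ y, π (Sum.inr y) = b := by
        rw [← Finset.image_orderEmbOfFin_univ Aᶜ (card_compl_of_card r hA)] at hb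
        obtain ⟨y, _, hy⟩ := Finset.mem_image.1 hb
        exact ⟨y, hy⟩
      refine ⟨(splitEquiv r (Sum.inl x), splitEquiv r (Sum.inr y)), ?_, ?_⟩
      · simp only [Finset.mem_filter, Finset.mem_univ, true_and, Function.comp_apply, id, τ,
          Equiv.trans_apply, Equiv.symm_apply_apply, hx, hy]
        exact ⟨by rw [Fin.lt_def, hl, hr]; omega, hlt⟩
      · simp [τ, hx, hy]
  rw [key]
  -- count: `Σ_{a ∈ A} #{c ∉ A, c < a}`
  have h1 : ((A ×ˢ Aᶜ).filter fun q => q.2 < q.1).card = ∑ a ∈ A, (Aᶜ.filter fun c => c < a).card := by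
    rw [← Finset.card_sigma]
    refine Finset.card_bij (fun q _ => ⟨q.1, q.2⟩) ?_ ?_ ?_
    · intro q hq; simp only [Finset.mem_filter, Finset.mem_product] at hq; simp [hq]
    · rintro ⟨a, b⟩ _ ⟨c, e⟩ _ h; simp at h; simp [h]
    · rintro ⟨a, b⟩ h; simp at h; exact ⟨(a, b), by simp [h], rfl⟩
  have h2 : ∀ a : Fin (d + 1), (A.filter fun c => c < a).card + (Aᶜ.filter fun c => c < a).card = a.val := by
    intro a
    rw [← Finset.card_union_of_disjoint (Finset.disjoint_filter_filter disjoint_compl_right),
      ← Finset.filter_union, Finset.union_compl]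
    rw [show (Finset.univ.filter fun c => c < a) = Finset.Iio a by ext; simp, Fin.card_Iio]
  have h3 : ∑ a ∈ A, (A.filter fun c => c < a).card = r.val * (r.val + 1) / 2 := by
    conv_lhs => rw [← Finset.map_orderEmbOfFin_univ A hA, Finset.sum_map]
    rw [Finset.sum_congr rfl (g := fun t : Fin (r.val + 1) => (t : ℕ)) ?_]
    · rw [Fin.sum_univ_eq_sum_range (fun t => t), Finset.sum_range_id, Nat.add_sub_cancel, mul_comm]
    · intro t _
      rw [Finset.filter_map, Finset.card_map]
      rw [← Fin.card_Iio t]
      congr 1
      ext x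
      simp
  have h4 : ∑ a ∈ A, (A.filter fun c => c < a).card + ∑ a ∈ A, (Aᶜ.filter fun c => c < a).card =
      ∑ a ∈ A, a.val := by
    rw [← Finset.sum_add_distrib]; exact Finset.sum_congr rfl fun a _ => h2 a
  rw [h1, shuffleSign]
  omega

theorem shuffle_inl_image (A : Finset (Fin (d + 1))) (hA : A.card = r.val + 1) :
    Finset.univ.image (fun t => splitEquiv r (shuffle r A hA (Sum.inl t))) = A := by
  conv_rhs => rw [← Finset.image_orderEmbOfFin_univ A hA]
  refine Finset.image_congr fun t _ => ?_
  simp [shuffle]

end shuffle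

theorem aeval_shuffleRel {K : Type u} [CommRing K] [Algebra K R] (M : Matrix (Fin n) (Fin d) R)
    (i j : Idx d n) (r : Fin d) :
    MvPolynomial.aeval (fun θ : Idx d n => (M.submatrix θ.1 id).det) (shuffleRel K i j r) = 0 := by
  classical
  let posI : Fin (r.val + 1) → Fin d := fun t => ⟨t.val, by omega⟩
  let posJ : Fin (d - r.val) → Fin d := fun t => ⟨r.val + t.val, by omega⟩
  have hI : Function.Injective posI := fun a b h => by simpa [posI, Fin.ext_iff] using h
  have hJ : Function.Injective posJ := fun a b h => by simpa [posJ, Fin.ext_iff] using h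
  let a := detSome posI hI fun t => M (i.1 t)
  let b := detSome posJ hJ fun t => M (j.1 t)
  let v : Fin (r.val + 1) ⊕ Fin (d - r.val) → Fin d → R := fun x =>
    M (movingRows i j r (splitEquiv r x))
  have hz : AlternatingMap.domCoprod a b = 0 :=
    alternating_eq_zero _ (by simp; omega)
  have h0 : ∑ σ : Equiv.Perm.ModSumCongr (Fin (r.val + 1)) (Fin (d - r.val)),
      LinearMap.mul' R R (AlternatingMap.domCoprod.summand a b σ v) = 0 := by
    have := congrArg (fun F => LinearMap.mul' R R (F v)) hz
    simpa [AlternatingMap.domCoprod_apply] using this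
  rw [shuffleRel, map_sum]
  refine Eq.trans ?_ h0
  rw [← Finset.sum_filter_add_sum_filter_not Finset.univ
    (fun A : Finset (Fin (d + 1)) => A.card = r.val + 1)]
  rw [Finset.sum_eq_zero (s := Finset.univ.filter fun A : Finset (Fin (d + 1)) => ¬ A.card = r.val + 1)
    fun A hA => by rw [shuffleTerm, dif_neg (Finset.mem_filter.1 hA).2, map_zero], add_zero]
  refine Finset.sum_bij (fun A hA => Quotient.mk'' (shuffle r A (Finset.mem_filter.1 hA).2))
    (fun A hA => Finset.mem_univ _) ?_ ?_ ?_
  · intro A hA B hB h
    rw [← shuffle_inl_image r A (Finset.mem_filter.1 hA).2, ← shuffle_inl_image r B (Finset.mem_filter.1 hB).2]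
    obtain ⟨⟨sl, sr⟩, hs⟩ := QuotientGroup.leftRel_apply.1 (Quotient.exact' h)
    rw [eq_inv_mul_iff_mul_eq] at hs
    rw [← hs]
    ext x
    simp only [Finset.mem_image, Finset.mem_univ, true_and, Equiv.Perm.mul_apply,
      Equiv.Perm.sumCongrHom_apply, Equiv.sumCongr_apply, Sum.map_inl]
    exact ⟨fun ⟨t, ht⟩ => ⟨sl.symm t, by simpa using ht⟩, fun ⟨t, ht⟩ => ⟨sl t, ht⟩⟩
  · intro σ _
    induction σ using Quotient.inductionOn' with
    | _ σ =>
    let A : Finset (Fin (d + 1)) := Finset.univ.image (fun t => splitEquiv r (σ (Sum.inl t)))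
    have hA : A.card = r.val + 1 := by
      rw [Finset.card_image_of_injective _ fun x y h => by simpa using h, Finset.card_fin]
    refine ⟨A, Finset.mem_filter.2 ⟨Finset.mem_univ _, hA⟩, ?_⟩
    refine Quotient.sound' (QuotientGroup.leftRel_apply.2 ?_)
    refine Equiv.Perm.mem_sumCongrHom_range_of_perm_mapsTo_inl ?_
    rintro _ ⟨t, rfl⟩
    have h2 : splitEquiv r (σ (Sum.inl t)) ∈
        Finset.univ.image (fun t => splitEquiv r (shuffle r A hA (Sum.inl t))) := by
      rw [shuffle_inl_image r A hA]
      exact Finset.mem_image_of_mem _ (Finset.mem_univ t)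
    obtain ⟨u, _, hu⟩ := Finset.mem_image.1 h2
    refine ⟨u, ?_⟩
    rw [Equiv.Perm.mul_apply, eq_comm, Equiv.Perm.inv_eq_iff_eq]
    exact ((splitEquiv r).injective hu).symm
  · intro A hA
    have hA' := (Finset.mem_filter.1 hA).2
    rw [shuffleTerm, dif_pos hA', map_mul, map_mul, map_pow, map_neg, map_one, aeval_coord,
      aeval_coord, AlternatingMap.domCoprod.summand_mk'']
    rw [smul_apply, MultilinearMap.domDomCongr_apply, MultilinearMap.domCoprod_apply,
      Units.smul_def, map_zsmul, LinearMap.mul'_apply, zsmul_eq_mul, sign_shuffle, mul_assoc]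
    congr 1
    · push_cast; ring
    · simp only [AlternatingMap.coe_multilinearMap, a, b, detSome_apply]
      congr 1 <;> (congr 1; ext t u)
      · show M (shuffleI i j r A hA' t) u = (Function.extend posI (fun x => v (shuffle r A hA' (Sum.inl x))) (fun t => M (i.1 t)) : Fin d → Fin d → R) t u
        by_cases ht : t.val ≤ r.val
        · have : t = posI ⟨t.val, by omega⟩ := Fin.ext rfl
          conv_rhs => rw [this, hI.extend_apply]
          simp [shuffleI, ht, v, shuffle]
        · rw [Function.extend_apply' _ _ _ fun ⟨x, hx⟩ => ht (by rw [← hx]; simp [posI]; omega)]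
          simp [shuffleI, ht]
      · show M (shuffleJ i j r A hA' t) u = (Function.extend posJ (fun x => v (shuffle r A hA' (Sum.inr x))) (fun t => M (j.1 t)) : Fin d → Fin d → R) t u
        by_cases ht : t.val < r.val
        · rw [Function.extend_apply' _ _ _ fun ⟨x, hx⟩ => by rw [← hx] at ht; simp [posJ] at ht]
          simp only [shuffleJ]; rw [dif_pos ht]
        · have : t = posJ ⟨t.val - r.val, by omega⟩ := Fin.ext (by simp [posJ]; omega)
          conv_rhs => rw [this, hJ.extend_apply]
          simp only [shuffleJ]; rw [dif_neg ht]; simp [v, shuffle]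

end Groth.Agent.SMT
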