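import Groth.Agent.Lib.SMT.Diag
import Groth.Agent.Lib.SMT.Shuffle
import Mathlib.Algebra.MvPolynomial.Funext
import Mathlib.LinearAlgebra.Basis.Defs
import Mathlib.RingTheory.Ideal.Quotient.Operations
import Mathlib.FieldTheory.IsAlgClosed.Basic

/-!
# Standard monomial bases for unions of Schubert varieties
-/

namespace Groth.Agent.SMT

open W4bk4grassmannian MvPolynomial

universe u

variable (K : Type u) [CommRing K] {d n : ℕ}

/-- `A` satisfies the Schubert condition of `τ`. -/
def Good (τ : Idx d n) (A : Matrix (Fin n) (Fin d) K) : Prop :=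
  ∀ φ : Idx d n, ¬ φ ≤ τ → (A.submatrix φ.1 id).det = 0

theorem mem_schubert {τ : Idx d n} {p : PlRing K d n} :
    p ∈ schubertVanishing K d n τ ↔ ∀ A, Good K τ A → evalMinors K d n A p = 0 := by
  simp [schubertVanishing, Good]

theorem mem_vanishing {p : PlRing K d n} :
    p ∈ vanishing K d n ↔ ∀ A, evalMinors K d n A p = 0 := by
  simp [vanishing]

theorem vanishing_le_schubert (τ : Idx d n) : vanishing K d n ≤ schubertVanishing K d n τ :=
  fun p hp => (mem_schubert K).2 fun A _ => (mem_vanishing K).1 hp A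

theorem shuffleRel_mem_vanishing (i j : Idx d n) (r : Fin d) :
    shuffleRel K i j r ∈ vanishing K d n :=
  (mem_vanishing K).2 fun A => aeval_shuffleRel A i j r

theorem plIdealTop_le_vanishing : plIdealTop (d := d) (n := n) K ≤ vanishing K d n := by
  refine Ideal.span_le.2 ?_
  rintro _ ⟨i, j, r, -, rfl⟩
  exact shuffleRel_mem_vanishing K i j r

theorem X_mem_schubert {τ φ : Idx d n} (h : ¬ φ ≤ τ) :
    (X φ : PlRing K d n) ∈ schubertVanishing K d n τ :=
  (mem_schubert K).2 fun A hA => by
    show aeval _ (X φ) = 0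
    rw [aeval_X]; exact hA φ h

theorem plIdeal_le_schubert (τ : Idx d n) : plIdeal K τ ≤ schubertVanishing K d n τ := by
  refine Ideal.span_le.2 ?_
  rintro _ (⟨i, j, r, -, rfl⟩ | ⟨φ, hφ, rfl⟩)
  · exact vanishing_le_schubert K τ (shuffleRel_mem_vanishing K i j r)
  · exact X_mem_schubert K hφ

/-- A point of the affine space in echelon shape `τ`. -/
noncomputable def echPoint (τ : Idx d n) (a : Fin n × Fin d → K) : Matrix (Fin n) (Fin d) K :=
  (echMatrix K τ).map (MvPolynomial.eval a)

theorem eval_echMap (τ : Idx d n) (a : Fin n × Fin d → K) (p : PlRing K d n) :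
    MvPolynomial.eval a (echMap K τ p) = evalMinors K d n (echPoint K τ a) p := by
  have : (MvPolynomial.aeval a).comp (echMap K τ) = evalMinors K d n (echPoint K τ a) := by
    refine MvPolynomial.algHom_ext fun θ => ?_
    simp only [AlgHom.comp_apply, echMap, evalMinors, aeval_X, echPoint]
    rw [AlgHom.map_det]
    rfl
  exact DFunLike.congr_fun this p

theorem good_echPoint (τ : Idx d n) (a : Fin n × Fin d → K) : Good K τ (echPoint K τ a) := by
  intro φ hφ
  have h := eval_echMap K τ a (X φ)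
  rw [echMap_X_of_not_le K hφ, map_zero, evalMinors, aeval_X] at h
  exact h.symm

theorem echMap_eq_zero_of_mem [IsDomain K] [Infinite K] {τ : Idx d n} {p : PlRing K d n}
    (hp : p ∈ schubertVanishing K d n τ) : echMap K τ p = 0 :=
  MvPolynomial.funext fun a => by
    rw [eval_echMap, (mem_schubert K).1 hp _ (good_echPoint K τ a), map_zero]

/-- Chains below some member of a family. -/
abbrev UChain {ι : Type*} (τs : ι → Idx d n) : Type _ :=
  Σ m : ℕ, {c : Fin m → Idx d n // Antitone c ∧ ∃ i, ∀ k, c k ≤ τs i}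

theorem linearIndependent_uchain [IsDomain K] [Infinite K] (hd : 0 < d) {ι : Type*}
    (τs : ι → Idx d n) :
    LinearIndependent K (fun c : UChain τs =>
      Ideal.Quotient.mk (⨅ i, schubertVanishing K d n (τs i)) (chainMon K c.2.1)) := by
  classical
  rw [linearIndependent_iff']
  intro s g hsum c₀ hc₀
  obtain ⟨i, hi⟩ := c₀.2.2.2
  have hmem : ∑ c ∈ s, g c • chainMon K c.2.1 ∈ ⨅ i, schubertVanishing K d n (τs i) := by
    rw [← Ideal.Quotient.eq_zero_iff_mem, map_sum, ← hsum]
    exact Finset.sum_congr rfl fun c _ => map_smul (Ideal.Quotient.mkₐ K _) _ _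
  have h0 := echMap_eq_zero_of_mem K ((Submodule.mem_iInf _).1 hmem i)
  rw [map_sum] at h0
  simp only [map_smul] at h0
  rw [← Finset.sum_filter_add_sum_filter_not s (fun c : UChain τs => ∀ k, c.2.1 k ≤ τs i)] at h0
  rw [Finset.sum_eq_zero (s := s.filter fun c : UChain τs => ¬ ∀ k, c.2.1 k ≤ τs i), add_zero] at h0
  swap
  · intro c hc
    obtain ⟨k, hk⟩ := not_forall.1 (Finset.mem_filter.1 hc).2
    rw [chainMon, map_prod, Finset.prod_eq_zero (Finset.mem_univ k) (echMap_X_of_not_le K hk),
      smul_zero]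
  let I := {c : UChain τs // ∀ k, c.2.1 k ≤ τs i}
  have hli : LinearIndependent K (fun c : I => echMap K (τs i) (chainMon K c.1.2.1)) :=
    linearIndependent_of_top wt _ (fun c : I => chainDiag c.1.2.1)
      (fun c => top_chainMon K _ c.2) (by
        intro a b hab
        have := chainDiag_injective hd (a₁ := (⟨a.1.1, a.1.2.1, a.1.2.2.1⟩ :
          Σ m : ℕ, {c : Fin m → Idx d n // Antitone c})) (a₂ := ⟨b.1.1, b.1.2.1, b.1.2.2.1⟩) hab
        obtain ⟨⟨m, x, hx⟩, ha⟩ := a
        obtain ⟨⟨m', x', hx'⟩, hb⟩ := b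
        simp only [Sigma.mk.injEq] at this
        obtain ⟨rfl, h⟩ := this
        simp only [heq_eq_eq, Subtype.mk.injEq] at h
        subst h
        rfl)
  have := linearIndependent_iff'.1 hli (s.subtype fun c : UChain τs => ∀ k, c.2.1 k ≤ τs i) (fun c => g c.1) (by
    rw [Finset.sum_subtype_eq_sum_filter (f := fun c : UChain τs => g c • echMap K (τs i) (chainMon K c.2.1))]
    exact h0) ⟨c₀, hi⟩ (Finset.mem_subtype.2 hc₀)
  exact this

theorem span_chains_of_le (I : Ideal (PlRing K d n)) (hI : plIdealTop (d := d) (n := n) K ≤ I)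
    (P : ∀ {m : ℕ}, (Fin m → Idx d n) → Prop)
    (hP : ∀ {m : ℕ} (c : Fin m → Idx d n), Antitone c → ¬ P c → chainMon K c ∈ I) :
    Submodule.span K (Set.range fun c : (Σ m : ℕ, {c : Fin m → Idx d n // Antitone c ∧ P c}) =>
      Ideal.Quotient.mk I (chainMon K c.2.1)) = ⊤ := by
  classical
  rw [eq_top_iff, ← chains_span (Ideal.Quotient.mkₐ K I) (Ideal.Quotient.mkₐ_surjective K I)
    (hasStraightening_of_shuffle _ fun i j r h => Ideal.Quotient.eq_zero_iff_mem.2
      (hI (Ideal.subset_span ⟨i, j, r, h, rfl⟩)))]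
  refine Submodule.span_le.2 ?_
  rintro _ ⟨⟨m, c, hc⟩, rfl⟩
  by_cases hp : P c
  · exact Submodule.subset_span ⟨⟨m, c, hc, hp⟩, rfl⟩
  · show Ideal.Quotient.mk I (chainMon K c) ∈ _
    rw [Ideal.Quotient.eq_zero_iff_mem.2 (hP c hc hp)]
    exact zero_mem _

theorem exists_not_le_of_not_uchain {ι : Type*} {τs : ι → Idx d n} {m : ℕ} {c : Fin m → Idx d n}
    (h : ¬ ∃ i, ∀ k, c k ≤ τs i) (i : ι) : ∃ k, ¬ c k ≤ τs i := by
  by_contra hn
  push Not at hn
  exact h ⟨i, hn⟩

theorem chainMon_mem_iInf {ι : Type*} {τs : ι → Idx d n} {m : ℕ} {c : Fin m → Idx d n}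
    (h : ¬ ∃ i, ∀ k, c k ≤ τs i) : chainMon K c ∈ ⨅ i, schubertVanishing K d n (τs i) := by
  refine (Submodule.mem_iInf _).2 fun i => ?_
  obtain ⟨k, hk⟩ := exists_not_le_of_not_uchain h i
  exact Ideal.mem_of_dvd _ (Finset.dvd_prod_of_mem _ (Finset.mem_univ k)) (X_mem_schubert K hk)

/-- An ideal between the straightening relations and the ideal of a union containing the non-chains
is that ideal. -/
theorem eq_iInf_of [IsDomain K] [Infinite K] (hd : 0 < d) {ι : Type*} (τs : ι → Idx d n)
    (I : Ideal (PlRing K d n)) (hI : plIdealTop (d := d) (n := n) K ≤ I)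
    (hc : ∀ {m : ℕ} (c : Fin m → Idx d n), Antitone c → (¬ ∃ i, ∀ k, c k ≤ τs i) → chainMon K c ∈ I)
    (hle : I ≤ ⨅ i, schubertVanishing K d n (τs i)) :
    I = ⨅ i, schubertVanishing K d n (τs i) := by
  classical
  refine le_antisymm hle fun p hp => ?_
  have hspan := span_chains_of_le K I hI (fun {m} (c : Fin m → Idx d n) => ∃ i, ∀ k, c k ≤ τs i) hc
  have hmem : Ideal.Quotient.mk I p ∈ Submodule.span K (Set.range fun c : UChain τs =>
      Ideal.Quotient.mk I (chainMon K c.2.1)) := hspan ▸ Submodule.mem_top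
  obtain ⟨l, hl⟩ := Finsupp.mem_span_range_iff_exists_finsupp.1 hmem
  have hp' : p - (l.sum fun c a => a • chainMon K c.2.1) ∈ I := by
    rw [← Ideal.Quotient.eq_zero_iff_mem, map_sub, map_finsuppSum, sub_eq_zero, ← hl]
    exact Finsupp.sum_congr fun c _ => (map_smul (Ideal.Quotient.mkₐ K I) _ _).symm
  have h2 : (l.sum fun c a => a • chainMon K c.2.1) ∈ ⨅ i, schubertVanishing K d n (τs i) := by
    have := sub_mem hp (hle hp')
    rwa [sub_sub_cancel] at this
  have hl0 : l = 0 := by
    ext c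
    by_cases hc' : c ∈ l.support
    · refine linearIndependent_iff'.1 (linearIndependent_uchain K hd τs) l.support l ?_ c hc'
      rw [← Ideal.Quotient.eq_zero_iff_mem, map_finsuppSum] at h2
      rw [← h2]
      exact Finset.sum_congr rfl fun c _ => (map_smul (Ideal.Quotient.mkₐ K _) _ _).symm
    · simpa using hc'
  rwa [hl0, Finsupp.sum_zero_index, sub_zero] at hp'

theorem plIdeal_eq [IsDomain K] [Infinite K] (hd : 0 < d) (τ : Idx d n) :
    plIdeal K τ = schubertVanishing K d n τ := by
  have h := eq_iInf_of K hd (fun _ : Unit => τ) (plIdeal K τ)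
    (Ideal.span_mono fun f hf => Or.inl hf)
    (fun {m} c _ hc => by
      obtain ⟨k, hk⟩ := exists_not_le_of_not_uchain hc ()
      exact Ideal.mem_of_dvd _ (Finset.dvd_prod_of_mem _ (Finset.mem_univ k))
        (Ideal.subset_span (Or.inr ⟨_, hk, rfl⟩)))
    (le_iInf fun _ => plIdeal_le_schubert K τ)
  rwa [iInf_const] at h

/-- The Schubert ideal is the kernel of the echelon map. -/
theorem mem_schubert_iff_echMap [IsDomain K] [Infinite K] (hd : 0 < d) (τ : Idx d n)
    (p : PlRing K d n) : p ∈ schubertVanishing K d n τ ↔ echMap K τ p = 0 := by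
  refine ⟨echMap_eq_zero_of_mem K, fun hp => ?_⟩
  -- the kernel has the same standard monomials
  have hspan := span_chains_of_le K (schubertVanishing K d n τ)
    ((plIdealTop_le_vanishing K).trans (vanishing_le_schubert K τ))
    (fun {m} (c : Fin m → Idx d n) => ∀ k, c k ≤ τ)
    (fun {m} c _ hc => by
      obtain ⟨k, hk⟩ := not_forall.1 hc
      exact Ideal.mem_of_dvd _ (Finset.dvd_prod_of_mem _ (Finset.mem_univ k)) (X_mem_schubert K hk))
  let J := schubertVanishing K d n τ
  have hmem : Ideal.Quotient.mk J p ∈ Submodule.span K (Set.range fun c :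
      (Σ m : ℕ, {c : Fin m → Idx d n // Antitone c ∧ ∀ k, c k ≤ τ}) =>
      Ideal.Quotient.mk J (chainMon K c.2.1)) := hspan ▸ Submodule.mem_top
  obtain ⟨l, hl⟩ := Finsupp.mem_span_range_iff_exists_finsupp.1 hmem
  have hp' : p - (l.sum fun c a => a • chainMon K c.2.1) ∈ J := by
    rw [← Ideal.Quotient.eq_zero_iff_mem, map_sub, map_finsuppSum, sub_eq_zero, ← hl]
    exact Finsupp.sum_congr fun c _ => (map_smul (Ideal.Quotient.mkₐ K J) _ _).symm
  have hz := echMap_eq_zero_of_mem K hp'
  rw [map_sub, hp, zero_sub, neg_eq_zero, map_finsuppSum] at hz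
  have hl0 : l = 0 := by
    have hli : LinearIndependent K (fun c : (Σ m : ℕ, {c : Fin m → Idx d n // Antitone c ∧ ∀ k, c k ≤ τ}) =>
        echMap K τ (chainMon K c.2.1)) :=
      linearIndependent_of_top wt _ (fun c => chainDiag c.2.1)
        (fun c => top_chainMon K _ c.2.2.2) (by
          rintro ⟨m, x, hx⟩ ⟨m', x', hx'⟩ hab
          have := chainDiag_injective hd (a₁ := (⟨m, x, hx.1⟩ :
            Σ m : ℕ, {c : Fin m → Idx d n // Antitone c})) (a₂ := ⟨m', x', hx'.1⟩) hab
          simp only [Sigma.mk.injEq] at this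
          obtain ⟨rfl, h⟩ := this
          simp only [heq_eq_eq, Subtype.mk.injEq] at h
          subst h
          rfl)
    ext c
    by_cases hc' : c ∈ l.support
    · refine linearIndependent_iff'.1 hli l.support l ?_ c hc'
      rw [← hz]
      exact Finset.sum_congr rfl fun c _ => (map_smul (echMap K τ) _ _).symm
    · simpa using hc'
  rwa [hl0, Finsupp.sum_zero_index, sub_zero] at hp'

theorem isPrime_schubert [IsDomain K] [Infinite K] (hd : 0 < d) (τ : Idx d n) :
    (schubertVanishing K d n τ).IsPrime := by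
  rw [show schubertVanishing K d n τ = RingHom.ker (echMap K τ).toRingHom from
    Ideal.ext fun p => mem_schubert_iff_echMap K hd τ p]
  exact RingHom.ker_isPrime _

end Groth.Agent.SMT
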