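import Groth.Agent.Lib.SMT.Basis
import Mathlib.LinearAlgebra.Matrix.Block
import Mathlib.RingTheory.Localization.FractionRing
import Mathlib.RingTheory.Localization.Away.Basic
import Mathlib.RingTheory.MvPolynomial.Basic

/-!
# The big cell of a Schubert variety: `R[1/p_τ]` is a Laurent polynomial ring
-/

namespace Groth.Agent.SMT

open W4bk4grassmannian MvPolynomial

universe u

variable (K : Type u) [CommRing K] {d n : ℕ}

/-- The free positions of the cell of `τ`. -/
abbrev FreePos (τ : Idx d n) : Type :=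
  {p : Fin n × Fin d // p.1 < τ.1 p.2 ∧ ∀ s, τ.1 s ≠ p.1}

/-- Coordinates of the cell of `τ` plus a scalar. -/
abbrev CellPoly (τ : Idx d n) : Type u := MvPolynomial (Option (FreePos τ)) K

/-- The scalar coordinate. -/
noncomputable abbrev scl (τ : Idx d n) : CellPoly K τ := X none

/-- The normalised matrix of the cell. -/
noncomputable def nMatrix (τ : Idx d n) : Matrix (Fin n) (Fin d) (CellPoly K τ) :=
  Matrix.of fun i t => if ∃ s, τ.1 s = i then (if τ.1 t = i then 1 else 0)
    else if h : i < τ.1 t then (if hs : ∀ s, τ.1 s ≠ i then X (some ⟨(i, t), h, hs⟩) else 0) else 0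

/-- The column multipliers. -/
noncomputable def colScale (τ : Idx d n) (t : Fin d) : CellPoly K τ := if t.val = 0 then scl K τ else 1

/-- The scaled matrix of the cell. -/
noncomputable def sMatrix (τ : Idx d n) : Matrix (Fin n) (Fin d) (CellPoly K τ) :=
  Matrix.of fun i t => colScale K τ t * nMatrix K τ i t

/-- Plücker polynomials on the cell. -/
noncomputable def cellMap (τ : Idx d n) : PlRing K d n →ₐ[K] CellPoly K τ :=
  aeval fun θ : Idx d n => ((sMatrix K τ).submatrix θ.1 id).det

theorem det_sMatrix (hd : 0 < d) (τ : Idx d n) (a : Fin d → Fin n) :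
    ((sMatrix K τ).submatrix a id).det = scl K τ * ((nMatrix K τ).submatrix a id).det := by
  have h : (sMatrix K τ).submatrix a id =
      Matrix.of fun i j => colScale K τ j * (nMatrix K τ).submatrix a id i j := rfl
  rw [h, Matrix.det_mul_row]
  congr 1
  rw [Finset.prod_eq_single (f := fun t => colScale K τ t) (⟨0, hd⟩ : Fin d)
    (fun t _ ht => if_neg fun h0 : t.val = 0 => ht (Fin.ext h0))
    (fun h => absurd (Finset.mem_univ _) h)]
  exact if_pos rfl

theorem nMatrix_range (τ : Idx d n) (s t : Fin d) :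
    nMatrix K τ (τ.1 s) t = if s = t then 1 else 0 := by
  rw [nMatrix, Matrix.of_apply, if_pos ⟨s, rfl⟩]
  by_cases h : s = t
  · rw [if_pos h, if_pos (by rw [h])]
  · rw [if_neg h, if_neg fun he => h (τ.2.injective he).symm]

theorem cellMap_X_self (hd : 0 < d) (τ : Idx d n) : cellMap K τ (X τ) = scl K τ := by
  rw [cellMap, aeval_X, det_sMatrix K hd]
  rw [show (nMatrix K τ).submatrix τ.1 id = 1 from Matrix.ext fun s t => by
    rw [Matrix.submatrix_apply, id, nMatrix_range, Matrix.one_apply], Matrix.det_one, mul_one]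

theorem nMatrix_free (τ : Idx d n) (p : FreePos τ) :
    nMatrix K τ p.1.1 p.1.2 = X (some p) := by
  rw [nMatrix, Matrix.of_apply, if_neg (fun ⟨s, hs⟩ => p.2.2 s hs), dif_pos p.2.1, dif_pos p.2.2]

theorem nMatrix_eq_zero {τ : Idx d n} {i : Fin n} {t : Fin d} (h : ¬ i ≤ τ.1 t) : nMatrix K τ i t = 0 := by
  rw [nMatrix, Matrix.of_apply]
  split_ifs with h1 h2 h3
  · exact absurd h2.ge h
  · rfl
  · exact absurd (le_of_lt h3) h
  · exact absurd (le_of_lt h3) h
  · rfl

/-- Substitution from echelon matrices to the cell. -/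
noncomputable def toCell (τ : Idx d n) : MatRing K d n →ₐ[K] CellPoly K τ :=
  aeval fun p : Fin n × Fin d => sMatrix K τ p.1 p.2

theorem cellMap_eq_comp (τ : Idx d n) : cellMap K τ = (toCell K τ).comp (echMap K τ) := by
  refine MvPolynomial.algHom_ext fun θ => ?_
  rw [AlgHom.comp_apply, cellMap, echMap, aeval_X, aeval_X, AlgHom.map_det]
  congr 1
  ext s t
  rw [AlgHom.mapMatrix_apply, Matrix.map_apply, Matrix.submatrix_apply, Matrix.submatrix_apply, echMatrix,
    Matrix.of_apply, id]
  split_ifs with h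
  · rw [toCell, aeval_X]
  · rw [map_zero, sMatrix, Matrix.of_apply, nMatrix_eq_zero K h, mul_zero]

theorem cellMap_coord_free (hd : 0 < d) (τ : Idx d n) (p : FreePos τ) :
    cellMap K τ (coord K d n (Function.update τ.1 p.1.2 p.1.1)) = scl K τ * X (some p) := by
  rw [cellMap, aeval_coord, det_sMatrix K hd]
  congr 1
  have h : (nMatrix K τ).submatrix (Function.update τ.1 p.1.2 p.1.1) id =
      (1 : Matrix (Fin d) (Fin d) (CellPoly K τ)).updateRow p.1.2 (fun t => nMatrix K τ p.1.1 t) := by
    refine Matrix.ext fun s t => ?_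
    rw [Matrix.submatrix_apply, Matrix.updateRow_apply, id, Function.update_apply]
    split_ifs with hs
    · rfl
    · rw [nMatrix_range, Matrix.one_apply]
  have hsum : (fun t => nMatrix K τ p.1.1 t) =
      ∑ k, nMatrix K τ p.1.1 k • (1 : Matrix (Fin d) (Fin d) (CellPoly K τ)) k := by
    funext t
    simp [Matrix.one_apply]
  rw [h, hsum, Matrix.det_updateRow_sum, Matrix.det_one, smul_eq_mul, mul_one, nMatrix_free]

variable (F : Type u) [Field F] [Algebra K F]

/-- Echelon minors with values in a field. -/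
noncomputable def inverseCell (τ : Idx d n) (E : Matrix (Fin n) (Fin d) F) : CellPoly K τ →ₐ[K] F :=
  aeval fun o => match o with
    | none => (E.submatrix τ.1 id).det
    | some p => (E * (E.submatrix τ.1 id)⁻¹) p.1.1 p.1.2

theorem inverseCell_cellMap (hd : 0 < d) (τ : Idx d n) (E : Matrix (Fin n) (Fin d) F)
    (hE : ∀ i t, ¬ i ≤ τ.1 t → E i t = 0) (hdet : (E.submatrix τ.1 id).det ≠ 0) (f : PlRing K d n) :
    inverseCell K F τ E (cellMap K τ f) = aeval (fun θ : Idx d n => (E.submatrix θ.1 id).det) f := by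
  set B := E.submatrix τ.1 id with hB
  have hBt : B.BlockTriangular id := fun s t hst => hE _ _ (not_le.2 (τ.2 hst))
  haveI := Matrix.invertibleOfIsUnitDet B (Ne.isUnit hdet)
  have hU : B⁻¹.BlockTriangular id := Matrix.blockTriangular_inv_of_blockTriangular hBt
  have hN : ∀ i t, inverseCell K F τ E (nMatrix K τ i t) = (E * B⁻¹) i t := by
    intro i t
    rw [nMatrix, Matrix.of_apply]
    by_cases hr : ∃ s, τ.1 s = i
    · obtain ⟨s, rfl⟩ := hr
      rw [if_pos ⟨s, rfl⟩]
      have : (E * B⁻¹) (τ.1 s) t = (B * B⁻¹) s t := by simp [Matrix.mul_apply, hB]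
      rw [this, Matrix.mul_nonsing_inv _ (Ne.isUnit hdet), Matrix.one_apply]
      by_cases hst : s = t
      · rw [if_pos hst, if_pos (by rw [hst]), map_one]
      · rw [if_neg hst, if_neg (fun he => hst (τ.2.injective he).symm), map_zero]
    · rw [if_neg hr]
      by_cases hlt : i < τ.1 t
      · rw [dif_pos hlt, dif_pos fun s hs => hr ⟨s, hs⟩, inverseCell, aeval_X]
      · rw [dif_neg hlt, map_zero, Matrix.mul_apply]
        refine (Finset.sum_eq_zero fun s _ => ?_).symm
        by_cases hs : t < s
        · rw [hU hs, mul_zero]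
        · rw [hE i s fun hle => ?_, zero_mul]
          exact hr ⟨t, le_antisymm (not_lt.1 hlt) (hle.trans (τ.2.monotone (not_lt.1 hs)))⟩
  rw [← AlgHom.comp_apply]
  refine DFunLike.congr_fun (MvPolynomial.algHom_ext fun θ => ?_) f
  rw [AlgHom.comp_apply, cellMap, aeval_X, aeval_X, det_sMatrix K hd, map_mul, AlgHom.map_det]
  rw [show (inverseCell K F τ E).mapMatrix ((nMatrix K τ).submatrix θ.1 id) = E.submatrix θ.1 id * B⁻¹ from
    Matrix.ext fun s t => by simp [hN, Matrix.mul_apply]]
  rw [show inverseCell K F τ E (scl K τ) = B.det from aeval_X _ _, Matrix.det_mul, ← mul_assoc,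
    mul_comm B.det, mul_assoc, ← Matrix.det_mul, Matrix.mul_nonsing_inv _ (Ne.isUnit hdet), Matrix.det_one,
    mul_one]

variable {K}

/-- The cell map on the homogeneous coordinate ring. -/
noncomputable def cellHom [IsDomain K] [Infinite K] (τ : Idx d n) :
    (PlRing K d n ⧸ schubertVanishing K d n τ) →ₐ[K] CellPoly K τ :=
  Ideal.Quotient.liftₐ _ (cellMap K τ) fun p hp => by
    rw [cellMap_eq_comp, AlgHom.comp_apply, echMap_eq_zero_of_mem K hp, map_zero]

@[simp] theorem cellHom_mk [IsDomain K] [Infinite K] (τ : Idx d n) (p : PlRing K d n) :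
    cellHom τ (Ideal.Quotient.mk (schubertVanishing K d n τ) p) = cellMap K τ p := rfl

theorem cellHom_injective [IsDomain K] [Infinite K] (hd : 0 < d) (τ : Idx d n) :
    Function.Injective (cellHom (K := K) τ) := by
  rw [injective_iff_map_eq_zero]
  intro x hx
  obtain ⟨p, rfl⟩ := Ideal.Quotient.mk_surjective x
  rw [cellHom_mk] at hx
  rw [Ideal.Quotient.eq_zero_iff_mem, mem_schubert_iff_echMap K hd]
  let F := FractionRing (MatRing K d n)
  let E : Matrix (Fin n) (Fin d) F := (echMatrix K τ).map (algebraMap (MatRing K d n) F)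
  have hE : ∀ θ : Idx d n, (E.submatrix θ.1 id).det = algebraMap (MatRing K d n) F (echMap K τ (X θ)) := by
    intro θ
    rw [echMap, aeval_X, RingHom.map_det]
    rfl
  have hdet : (E.submatrix τ.1 id).det ≠ 0 := by
    rw [hE, ne_eq, map_eq_zero_iff _ (IsFractionRing.injective (MatRing K d n) F)]
    intro h0
    simpa [h0] using (top_echMap_X K (le_refl τ)).coeff_self
  have key := inverseCell_cellMap K F hd τ E
    (fun i t hit => by simp [E, echMatrix, hit]) hdet p
  rw [hx, map_zero] at key
  have h2 : (IsScalarTower.toAlgHom K (MatRing K d n) F).comp (echMap K τ)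
      = aeval fun θ : Idx d n => (E.submatrix θ.1 id).det :=
    MvPolynomial.algHom_ext fun θ => by rw [AlgHom.comp_apply, aeval_X, hE]; rfl
  rw [← h2, AlgHom.comp_apply] at key
  exact IsFractionRing.injective (MatRing K d n) F (key.symm.trans (map_zero _).symm)

theorem exists_pow_mul_mem [IsDomain K] [Infinite K] (hd : 0 < d) (τ : Idx d n) (w : CellPoly K τ) :
    ∃ k : ℕ, scl K τ ^ k * w ∈ (cellHom (K := K) τ).range := by
  induction w using MvPolynomial.induction_on with
  | C a => exact ⟨0, by rw [pow_zero, one_mul, ← MvPolynomial.algebraMap_eq]; exact Subalgebra.algebraMap_mem _ a⟩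
  | add a b ha hb =>
    obtain ⟨k, ha⟩ := ha
    obtain ⟨l, hb⟩ := hb
    have hu : scl K τ ∈ (cellHom (K := K) τ).range :=
      ⟨Ideal.Quotient.mk _ (X τ), (cellHom_mk τ _).trans (cellMap_X_self K hd τ)⟩
    refine ⟨k + l, ?_⟩
    rw [mul_add, pow_add, mul_assoc, mul_assoc, mul_left_comm (scl K τ ^ k) (scl K τ ^ l) a]
    exact add_mem (mul_mem (pow_mem hu l) ha) (by rw [← mul_assoc, mul_assoc]; exact mul_mem (pow_mem hu k) hb)
  | mul_X a o ha =>
    obtain ⟨k, ha⟩ := ha
    have ho : scl K τ * X o ∈ (cellHom (K := K) τ).range := by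
      match o with
      | none => exact ⟨Ideal.Quotient.mk _ (X τ * X τ), by
          show cellMap K τ (X τ * X τ) = _
          rw [map_mul, cellMap_X_self K hd]⟩
      | some p => exact ⟨Ideal.Quotient.mk _ (coord K d n (Function.update τ.1 p.1.2 p.1.1)),
          (cellHom_mk τ _).trans (cellMap_coord_free K hd τ p)⟩
    refine ⟨k + 1, ?_⟩
    rw [pow_succ, mul_mul_mul_comm]
    exact mul_mem ha ho

/-- `R[1/p_τ]` as a localization of the cell polynomials. -/
noncomputable def locHom [IsDomain K] [Infinite K] (τ : Idx d n) :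
    (PlRing K d n ⧸ schubertVanishing K d n τ) →ₐ[K] Localization.Away (scl K τ) :=
  (IsScalarTower.toAlgHom K (CellPoly K τ) _).comp (cellHom τ)

theorem scl_ne_zero [Nontrivial K] (τ : Idx d n) : scl K τ ≠ 0 := X_ne_zero _

theorem isLocalization_cell [IsDomain K] [Infinite K] (hd : 0 < d) (τ : Idx d n) :
    letI := (locHom (K := K) τ).toRingHom.toAlgebra
    IsLocalization.Away (Ideal.Quotient.mk (schubertVanishing K d n τ) (X τ))
      (Localization.Away (scl K τ)) := by
  letI := (locHom (K := K) τ).toRingHom.toAlgebra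
  set p := Ideal.Quotient.mk (schubertVanishing K d n τ) (X τ) with hp
  set P := Localization.Away (scl K τ)
  have hmap : ∀ x, algebraMap (PlRing K d n ⧸ schubertVanishing K d n τ) P x
      = algebraMap (CellPoly K τ) P (cellHom τ x) := fun x => rfl
  have hu : cellHom τ p = scl K τ := (cellHom_mk τ _).trans (cellMap_X_self K hd τ)
  have hinj : Function.Injective (algebraMap (CellPoly K τ) P) :=
    IsLocalization.injective P (powers_le_nonZeroDivisors_of_noZeroDivisors (scl_ne_zero τ))
  refine IsLocalization.Away.mk p ?_ ?_ ?_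
  · rw [hmap, hu]; exact IsLocalization.Away.algebraMap_isUnit _
  · intro z
    obtain ⟨k, w, hz⟩ := IsLocalization.Away.surj (scl K τ) z
    obtain ⟨l, x, hx⟩ := exists_pow_mul_mem hd τ w
    refine ⟨k + l, x, ?_⟩
    rw [hmap, hmap, hu, pow_add, ← mul_assoc, hz, show cellHom τ x = scl K τ ^ l * w from hx, map_mul,
      map_pow, mul_comm]
  · intro a b hab
    refine ⟨0, ?_⟩
    rw [hmap, hmap] at hab
    rw [cellHom_injective hd τ (hinj hab)]

end Groth.Agent.SMT
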