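import Groth.Agent.Lib.SMT.Divisor
import Mathlib.Data.Finset.Max

/-!
# Standard monomials indexed by chain multisets, with weight bounds on expansions
-/

namespace Groth.Agent.SMT

open W4bk4grassmannian MvPolynomial

universe u

section top

variable {σ R : Type*} [CommRing R] (w : (σ →₀ ℕ) →+ ℕ)

theorem Below'.coeff_eq_zero {q : MvPolynomial σ R} {N : ℕ} (hq : Below' w q N) {x : σ →₀ ℕ}
    (hx : N ≤ w x) : q.coeff x = 0 :=
  notMem_support_iff.1 fun h => absurd hx (not_le.2 (hq x h))

theorem Top.below {p : MvPolynomial σ R} {m : σ →₀ ℕ} (hp : Top w p m) {N : ℕ} (hN : w m < N) :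
    Below' w p N := by
  classical
  obtain ⟨q, rfl, hq⟩ := hp
  refine Below'.add w (fun x hx => ?_) (hq.mono w hN.le)
  obtain rfl : x = m := by simpa using MvPolynomial.support_monomial_subset hx
  exact hN

/-- In a combination with bounded leading part only bounded leading monomials occur. -/
theorem weight_lt_of_below {ι : Type*} (p : ι → MvPolynomial σ R) (m : ι → σ →₀ ℕ)
    (h : ∀ i, Top w (p i) (m i)) (hm : Function.Injective m) (s : Finset ι) (c : ι → R) (N : ℕ)
    (hb : Below' w (∑ i ∈ s, c i • p i) N) {i : ι} (hi : i ∈ s) (hci : c i ≠ 0) : w (m i) < N := by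
  classical
  obtain ⟨j, hj, hmax⟩ := (s.filter fun j => c j ≠ 0).exists_max_image (fun j => w (m j))
    ⟨i, Finset.mem_filter.2 ⟨hi, hci⟩⟩
  refine lt_of_le_of_lt (hmax i (Finset.mem_filter.2 ⟨hi, hci⟩)) ?_
  by_contra hN
  have h0 := hb.coeff_eq_zero w (not_lt.1 hN)
  rw [coeff_sum, Finset.sum_eq_single j] at h0
  · rw [coeff_smul, (h j).coeff_self, smul_eq_mul, mul_one] at h0
    exact (Finset.mem_filter.1 hj).2 h0
  · intro l hl hlj
    by_cases hcl : c l = 0
    · simp [hcl]
    · rw [coeff_smul, (h l).coeff_eq_zero w (fun e => hlj (hm e).symm)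
        (hmax l (Finset.mem_filter.2 ⟨hl, hcl⟩)), smul_zero]
  · intro hn; exact absurd (Finset.mem_filter.1 hj).1 hn

theorem Top.multiset_prod {ι : Type*} (t : Multiset ι) (p : ι → MvPolynomial σ R)
    (m : ι → σ →₀ ℕ) (h : ∀ i ∈ t, Top w (p i) (m i)) :
    Top w (t.map p).prod (t.map m).sum := by
  induction t using Multiset.induction with
  | empty => simpa using Top.one w
  | cons a t ih =>
    rw [Multiset.map_cons, Multiset.map_cons, Multiset.prod_cons, Multiset.sum_cons]
    exact (h a (Multiset.mem_cons_self a t)).mul w (ih fun i hi => h i (Multiset.mem_cons_of_mem hi))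

end top

variable {d n : ℕ}

/-- Chains in `I(d,n)` below `w`. -/
abbrev CMS (w : Idx d n) : Type :=
  {t : Multiset (Idx d n) // IsChainMS t ∧ ∀ a ∈ t, a ≤ w}

/-- The leading exponent of the product of a multiset of minors. -/
noncomputable def mdiag (t : Multiset (Idx d n)) : Fin n × Fin d →₀ ℕ := (t.map diag).sum

theorem mdiag_ofFn {m : ℕ} (c : Fin m → Idx d n) :
    mdiag (List.ofFn c : Multiset (Idx d n)) = chainDiag c := by
  rw [mdiag, Multiset.map_coe, Multiset.sum_coe, List.map_ofFn, List.sum_ofFn, chainDiag]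
  rfl

theorem mdiag_injOn_chains (hd : 0 < d) {s t : Multiset (Idx d n)} (hs : IsChainMS s)
    (ht' : IsChainMS t) (h : mdiag s = mdiag t) : s = t := by
  obtain ⟨c, hc, ec⟩ := exists_antitone_of_chain _ s rfl hs
  obtain ⟨c', hc', ec'⟩ := exists_antitone_of_chain _ t rfl ht'
  rw [← ec, ← ec', mdiag_ofFn, mdiag_ofFn] at h
  rw [← ec, ← ec']
  have := chainDiag_injective hd (a₁ := (⟨_, c, hc⟩ : Σ m : ℕ, {c : Fin m → Idx d n // Antitone c}))
    (a₂ := ⟨_, c', hc'⟩) h
  exact congrArg (fun x : (Σ m : ℕ, {c : Fin m → Idx d n // Antitone c}) =>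
    (List.ofFn x.2.1 : Multiset (Idx d n))) this

theorem diag_sup_add_diag_inf (τ φ : Idx d n) :
    diag (sup τ φ) + diag (inf τ φ) = diag τ + diag φ := by
  simp only [diag, ← Finset.sum_add_distrib, sup, inf]
  refine Finset.sum_congr rfl fun t _ => ?_
  rcases le_total (τ.1 t) (φ.1 t) with h | h
  · rw [max_eq_right h, min_eq_left h, add_comm]
  · rw [max_eq_left h, min_eq_right h]

variable (K : Type u) [CommRing K]

/-- The monomial of a multiset. -/
noncomputable def mX (t : Multiset (Idx d n)) : PlRing K d n := (t.map X).prod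

theorem map_mX {A : Type*} [CommRing A] [Algebra K A] (f : PlRing K d n →ₐ[K] A)
    (t : Multiset (Idx d n)) : f (mX K t) = (t.map fun a => f (X a)).prod := by
  rw [mX, map_multiset_prod, Multiset.map_map]
  rfl

theorem top_mX {w : Idx d n} {t : Multiset (Idx d n)} (h : ∀ a ∈ t, a ≤ w) :
    Top wt (echMap K w (mX K t)) (mdiag t) := by
  rw [map_mX]
  exact Top.multiset_prod wt t _ _ fun a ha => top_echMap_X K (h a ha)

theorem mX_mem_schubert {w : Idx d n} {t : Multiset (Idx d n)} (h : ¬ ∀ a ∈ t, a ≤ w) :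
    mX K t ∈ schubertVanishing K d n w := by
  push Not at h
  obtain ⟨a, ha, haw⟩ := h
  exact Ideal.mem_of_dvd _ (Multiset.dvd_prod (Multiset.mem_map_of_mem _ ha)) (X_mem_schubert K haw)

variable [IsDomain K] [Infinite K]

/-- Coordinates in the standard monomial basis. -/
theorem linearIndependent_cms (hd : 0 < d) (w : Idx d n) :
    LinearIndependent K (fun t : CMS w => Ideal.Quotient.mk (schubertVanishing K d n w) (mX K t.1)) := by
  have hli : LinearIndependent K (fun t : CMS w => echMap K w (mX K t.1)) :=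
    linearIndependent_of_top wt _ (fun t : CMS w => mdiag t.1) (fun t => top_mX K t.2.2)
      (fun s t h => Subtype.ext (mdiag_injOn_chains hd s.2.1 t.2.1 h))
  let g := Ideal.Quotient.liftₐ (schubertVanishing K d n w) (echMap K w)
    fun p hp => echMap_eq_zero_of_mem K hp
  exact LinearIndependent.of_comp g.toLinearMap hli

/-- Standard monomials of potential at least that of `s` span its class. -/
theorem mk_mX_mem_span (hd : 0 < d) (w : Idx d n) (s : Multiset (Idx d n)) :
    Ideal.Quotient.mk (schubertVanishing K d n w) (mX K s) ∈ Submodule.span K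
      ((fun t : CMS w => Ideal.Quotient.mk (schubertVanishing K d n w) (mX K t.1)) ''
        {t | t.1.card = s.card ∧ (s.map fun a => ht a ^ 2).sum ≤ (t.1.map fun a => ht a ^ 2).sum}) := by
  classical
  set q := Ideal.Quotient.mkₐ K (schubertVanishing K d n w)
  have h := prod_mem_span_chains ht (fun θ => q (X θ))
    (hasStraightening_of_shuffle q fun i j r hp => Ideal.Quotient.eq_zero_iff_mem.2
      (vanishing_le_schubert K w (shuffleRel_mem_vanishing K i j r))) s
  rw [← map_mX] at h
  refine Submodule.span_le.2 ?_ h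
  rintro _ ⟨t, hc, hcard, hpot, rfl⟩
  rw [← map_mX]
  by_cases hle : ∀ a ∈ t, a ≤ w
  · exact Submodule.subset_span ⟨⟨t, hc, hle⟩, ⟨hcard, hpot⟩, rfl⟩
  · show Ideal.Quotient.mk _ (mX K t) ∈ _
    rw [Ideal.Quotient.eq_zero_iff_mem.2 (mX_mem_schubert K hle)]
    exact zero_mem _

theorem span_cms (hd : 0 < d) (w : Idx d n) :
    Submodule.span K (Set.range fun t : CMS w =>
      Ideal.Quotient.mk (schubertVanishing K d n w) (mX K t.1)) = ⊤ := by
  classical
  rw [eq_top_iff]
  rintro x -
  obtain ⟨p, rfl⟩ := Ideal.Quotient.mk_surjective x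
  induction p using MvPolynomial.induction_on' with
  | add p q hp hq => rw [map_add]; exact add_mem hp hq
  | monomial m r =>
    rw [show monomial m r = r • (monomial m (1 : K)) by rw [smul_monomial, smul_eq_mul, mul_one],
      show Ideal.Quotient.mk (schubertVanishing K d n w) (r • monomial m (1 : K)) =
        r • Ideal.Quotient.mk _ (monomial m (1 : K)) from map_smul (Ideal.Quotient.mkₐ K _) r _]
    refine Submodule.smul_mem _ _ ?_
    have hm : monomial m (1 : K) = mX K (Finsupp.toMultiset m) := by
      rw [mX, monomial_eq, C_1, one_mul, Finsupp.prod, Finset.prod_multiset_map_count,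
        Finsupp.toFinset_toMultiset]
      exact Finset.prod_congr rfl fun θ _ => by rw [Finsupp.count_toMultiset]
    rw [hm]
    exact Submodule.span_mono (Set.image_subset_range _ _) (mk_mX_mem_span K hd w _)

/-- The standard monomial basis of the coordinate ring of a Schubert variety. -/
noncomputable def stdBasis (hd : 0 < d) (w : Idx d n) :
    Module.Basis (CMS w) K (PlRing K d n ⧸ schubertVanishing K d n w) :=
  Module.Basis.mk (linearIndependent_cms K hd w) (span_cms K hd w).ge

theorem stdBasis_apply (hd : 0 < d) (w : Idx d n) (t : CMS w) :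
    stdBasis K hd w t = Ideal.Quotient.mk (schubertVanishing K d n w) (mX K t.1) := by
  simp [stdBasis]

theorem card_eq_and_pot_le (hd : 0 < d) (w : Idx d n) (s : Multiset (Idx d n)) {t : CMS w}
    (ht' : (stdBasis K hd w).repr (Ideal.Quotient.mk _ (mX K s)) t ≠ 0) :
    t.1.card = s.card ∧ (s.map fun a => ht a ^ 2).sum ≤ (t.1.map fun a => ht a ^ 2).sum := by
  classical
  have h : Ideal.Quotient.mk (schubertVanishing K d n w) (mX K s) ∈ Submodule.span K
      (stdBasis K hd w '' {t | t.1.card = s.card ∧
        (s.map fun a => ht a ^ 2).sum ≤ (t.1.map fun a => ht a ^ 2).sum}) := by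
    simpa only [stdBasis, Module.Basis.coe_mk] using mk_mX_mem_span K hd w s
  exact (stdBasis K hd w).mem_span_image.1 h (Finsupp.mem_support_iff.2 ht')

/-- Weights of leading monomials in an expansion are bounded by the weight of the monomial. -/
theorem wt_le (hd : 0 < d) (w : Idx d n) (s : Multiset (Idx d n)) {t : CMS w}
    (ht' : (stdBasis K hd w).repr (Ideal.Quotient.mk _ (mX K s)) t ≠ 0) :
    wt (mdiag t.1) ≤ wt (mdiag s) := by
  classical
  set l := (stdBasis K hd w).repr (Ideal.Quotient.mk _ (mX K s))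
  by_cases hle : ∀ a ∈ s, a ≤ w
  · have hsum : echMap K w (mX K s) = ∑ t ∈ l.support, l t • echMap K w (mX K t.1) := by
      let g := Ideal.Quotient.liftₐ (schubertVanishing K d n w) (echMap K w)
        fun p hp => echMap_eq_zero_of_mem K hp
      have h := congrArg g ((stdBasis K hd w).linearCombination_repr
        (Ideal.Quotient.mk _ (mX K s)))
      rw [Finsupp.linearCombination_apply, Finsupp.sum, map_sum] at h
      refine h.symm.trans (Finset.sum_congr rfl fun t _ => ?_)
      rw [map_smul, stdBasis_apply]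
      rfl
    refine Nat.le_of_lt_succ (weight_lt_of_below wt _ (fun t : CMS w => mdiag t.1)
      (fun t => top_mX K t.2.2) (fun a b h => Subtype.ext (mdiag_injOn_chains hd a.2.1 b.2.1 h))
      l.support l (wt (mdiag s) + 1) ?_ (Finsupp.mem_support_iff.2 ht') ht')
    rw [← hsum]
    exact (top_mX K hle).below wt (Nat.lt_succ_self _)
  · exfalso
    apply ht'
    simp [l, Ideal.Quotient.eq_zero_iff_mem.2 (mX_mem_schubert K hle)]

/-- A skew product differs from `sup * inf` by standard monomials of smaller weight. -/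
theorem wt_lt_skew (hd : 0 < d) (w : Idx d n) {a b : Idx d n} (ha : a ≤ w) (hb : b ≤ w) {t : CMS w}
    (ht' : (stdBasis K hd w).repr (Ideal.Quotient.mk _ (mX K {a, b}) -
      Ideal.Quotient.mk _ (mX K {sup a b, inf a b})) t ≠ 0) :
    wt (mdiag t.1) < wt (mdiag ({a, b} : Multiset (Idx d n))) := by
  classical
  set l := (stdBasis K hd w).repr (Ideal.Quotient.mk _ (mX K {a, b}) -
    Ideal.Quotient.mk _ (mX K {sup a b, inf a b}))
  have hdg : mdiag ({sup a b, inf a b} : Multiset (Idx d n)) = mdiag {a, b} := by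
    simp [mdiag, diag_sup_add_diag_inf]
  have h1 : Top wt (echMap K w (mX K {a, b})) (mdiag {a, b}) := top_mX K (by simp [ha, hb])
  have h2 : Top wt (echMap K w (mX K {sup a b, inf a b})) (mdiag {a, b}) := hdg ▸ top_mX K (by
    simp only [Multiset.insert_eq_cons, Multiset.mem_cons, Multiset.mem_singleton]
    rintro x (rfl | rfl)
    · exact sup_le_iff'.2 ⟨ha, hb⟩
    · exact fun t => (min_le_left _ _).trans (ha t))
  have hsum : echMap K w (mX K {a, b}) - echMap K w (mX K {sup a b, inf a b}) =
      ∑ t ∈ l.support, l t • echMap K w (mX K t.1) := by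
    let g := Ideal.Quotient.liftₐ (schubertVanishing K d n w) (echMap K w)
      fun p hp => echMap_eq_zero_of_mem K hp
    have h := congrArg g ((stdBasis K hd w).linearCombination_repr
      (Ideal.Quotient.mk _ (mX K {a, b}) - Ideal.Quotient.mk _ (mX K {sup a b, inf a b})))
    rw [Finsupp.linearCombination_apply, Finsupp.sum, map_sum, map_sub g] at h
    refine h.symm.trans (Finset.sum_congr rfl fun t _ => ?_)
    rw [map_smul, stdBasis_apply]
    rfl
  refine weight_lt_of_below wt _ (fun t : CMS w => mdiag t.1)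
    (fun t => top_mX K t.2.2) (fun a b h => Subtype.ext (mdiag_injOn_chains hd a.2.1 b.2.1 h))
    l.support l _ ?_ (Finsupp.mem_support_iff.2 ht') ht'
  rw [← hsum]
  obtain ⟨q, hq, hqb⟩ := h1
  obtain ⟨q', hq', hqb'⟩ := h2
  rw [hq, hq', add_sub_add_left_eq_sub]
  intro x hx
  rcases Finset.mem_union.1 (MvPolynomial.support_sub _ q q' hx) with h | h
  exacts [hqb x h, hqb' x h]

end Groth.Agent.SMT
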