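import Groth.Agent.Lib.SMT.BitabIdx
import Groth.Agent.Lib.SMT.Expansion
import Mathlib.RingTheory.Localization.FractionRing

/-!
# Determinantal rings as dehomogenised Schubert varieties
-/

namespace Groth.Agent.SMT

open W4bk4grassmannian MvPolynomial

universe u

variable (K : Type u) [CommRing K] (d r : ℕ)

/-- Reversal of the rows of `Z`. -/
noncomputable def revZ : CellRing K d r →ₐ[K] CellRing K d r :=
  rename fun p => (p.1.rev, p.2)

/-- Restriction to the cell, rows of `Z` reversed. -/
noncomputable def dehom : PlRing K d (d + r) →ₐ[K] CellRing K d r :=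
  MvPolynomial.aeval fun θ => revZ K d r (cellMinor K d r θ)

variable {d r}

theorem revZ_minorOf (M : MinorIdx r d) :
    revZ K d r (((genMatrix K r d).submatrix (fun j => (M.2.1.1 j).rev) M.2.2.1).det) = minorOf K M := by
  rw [AlgHom.map_det, minorOf]
  congr 1
  ext a b
  simp [genMatrix, revZ]

theorem map_minorIdeal (t : ℕ) :
    (CAlgX.minorIdeal (genMatrix K r d) t).map (revZ K d r) ≤ CAlgX.minorIdeal (genMatrix K r d) t := by
  rw [CAlgX.minorIdeal, Ideal.map_span, Ideal.span_le]
  rintro _ ⟨_, ⟨⟨f, g⟩, rfl⟩, rfl⟩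
  refine Ideal.subset_span ⟨⟨fun j => (f j).rev, g⟩, ?_⟩
  show ((genMatrix K r d).submatrix (fun j => (f j).rev) g).det =
    revZ K d r ((genMatrix K r d).submatrix f g).det
  rw [AlgHom.map_det]
  congr 1
  ext a b
  simp [genMatrix, revZ]

theorem dehom_X_id : dehom K d r (X (idIdx d r)) = 1 := by
  rw [dehom, aeval_X, cellMinor]
  rw [show (cellMatrix K d r).submatrix (idIdx d r).1 id = 1 by
    ext a b
    simp [cellMatrix, idIdx, Matrix.one_apply, Fin.val_inj]]
  simp

theorem dehom_X_toIdx (M : MinorIdx r d) :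
    ∃ u : Kˣ, dehom K d r (X (toIdx M)) = u • minorOf K M := by
  obtain ⟨θ, z, e, -, hθ⟩ := exists_cellMinor (K := K) (M.1 + 1) (fun j => (M.2.1.1 j).rev) M.2.2.1
    (Fin.rev_injective.comp M.2.1.2.injective) M.2.2.2.injective
  obtain rfl : θ = toIdx M := idx_ext fun x => (hθ x).trans (toIdx_spec M x).symm
  refine ⟨(-1) ^ z, ?_⟩
  rw [dehom, aeval_X, Units.smul_def, ← revZ_minorOf, e, map_mul, map_pow, map_neg, map_one,
    Units.val_pow_eq_pow_val, Units.val_neg, Units.val_one, Algebra.smul_def, map_pow, map_neg, map_one,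
    ← mul_assoc, ← mul_pow, neg_one_mul, neg_neg, one_pow, one_mul]

theorem dehom_X_mem (θ : Idx d (d + r)) {t : ℕ} (h : t ≤ botCard θ) :
    dehom K d r (X θ) ∈ CAlgX.minorIdeal (genMatrix K r d) t := by
  obtain ⟨b, c, z, e⟩ := cellMinor_eq (K := K) θ
  rw [dehom, aeval_X]
  refine map_minorIdeal K t (Ideal.mem_map_of_mem _ ?_)
  rw [e]
  refine Ideal.mul_mem_left _ _ (det_mem_minorIdeal _ (h.trans_eq ?_) b c)
  rw [botCard, Fintype.card_subtype]
  simp only [not_lt]

theorem dehom_vanishing [IsDomain K] [Infinite K] (hd : 0 < d) {p : PlRing K d (d + r)}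
    (hp : p ∈ plIdealTop (d := d) (n := d + r) K) : dehom K d r p = 0 := by
  have hle : plIdealTop (d := d) (n := d + r) K ≤ RingHom.ker (dehom K d r).toRingHom := by
    refine Ideal.span_le.2 ?_
    rintro _ ⟨i, j, ρ, -, rfl⟩
    show dehom K d r _ = 0
    have h := congrArg (revZ K d r) (aeval_shuffleRel (K := K) (cellMatrix K d r) i j ρ)
    rw [map_zero] at h
    rw [← h, dehom]
    exact (DFunLike.congr_fun (MvPolynomial.comp_aeval (revZ K d r)
      (f := fun θ : Idx d (d + r) => ((cellMatrix K d r).submatrix θ.1 id).det)) _).symm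
  exact hle hp

theorem dehom_surjective : Function.Surjective (dehom K d r) := by
  rw [← AlgHom.range_eq_top, eq_top_iff, ← MvPolynomial.adjoin_range_X, Algebra.adjoin_le_iff]
  rintro _ ⟨⟨i, j⟩, rfl⟩
  let M : MinorIdx r d := ⟨0, ⟨fun _ => i, fun a b h => absurd h (by omega)⟩,
    ⟨fun _ => j, fun a b h => absurd h (by omega)⟩⟩
  obtain ⟨u, hu⟩ := dehom_X_toIdx K M
  refine ⟨(u⁻¹ : Kˣ) • X (toIdx M), ?_⟩
  show dehom K d r _ = _
  rw [Units.smul_def, map_smul, hu, ← Units.smul_def, inv_smul_smul, minorOf, Matrix.det_fin_one]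
  rfl

variable (d r) in
/-- The largest index with at most `s` rows past the identity block. -/
def wIdx (s : ℕ) (hs : s ≤ r) : Idx d (d + r) :=
  ⟨fun i => if h : i.val + s < d then ⟨i.val + s, by omega⟩ else Fin.natAdd r i |>.cast (add_comm r d),
    fun a b h => by
      have := Fin.lt_def.1 h
      simp only
      split_ifs <;> simp only [Fin.lt_def, Fin.val_cast, Fin.val_natAdd] <;> omega⟩

theorem gap {N : ℕ} (θ : Idx d N) {i j : Fin d} (h : i ≤ j) :
    (θ.1 i).val + (j.val - i.val) ≤ (θ.1 j).val := by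
  have hsub : (Finset.Icc i j).image θ.1 ⊆ Finset.Icc (θ.1 i) (θ.1 j) := by
    intro x hx
    obtain ⟨k, hk, rfl⟩ := Finset.mem_image.1 hx
    rw [Finset.mem_Icc] at hk ⊢
    exact ⟨θ.2.monotone hk.1, θ.2.monotone hk.2⟩
  have := Finset.card_le_card hsub
  rw [Finset.card_image_of_injective _ θ.2.injective, Fin.card_Icc, Fin.card_Icc] at this
  have := Fin.le_def.1 h
  have := Fin.le_def.1 (θ.2.monotone h)
  omega

theorem le_wIdx_iff {s : ℕ} (hs : s ≤ r) (θ : Idx d (d + r)) : θ ≤ wIdx d r s hs ↔ botCard θ ≤ s := by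
  constructor
  · intro h
    have hsub : (Finset.univ.filter fun i => d ≤ (θ.1 i).val) ⊆
        Finset.univ.filter fun i : Fin d => ¬ i.val < d - s := by
      intro i hi
      have hi' := (Finset.mem_filter.1 hi).2
      have := Fin.le_def.1 (h i)
      simp only [wIdx] at this
      refine Finset.mem_filter.2 ⟨Finset.mem_univ _, fun hlt => ?_⟩
      rw [dif_pos (show i.val + s < d by omega)] at this
      simp only at this
      omega
    refine (Finset.card_le_card hsub).trans ?_
    have := Finset.card_filter_add_card_filter_not (s := (Finset.univ : Finset (Fin d)))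
      (fun i : Fin d => i.val < d - s)
    rw [Fin.card_filter_val_lt, Finset.card_fin] at this
    omega
  · intro h i
    rw [Fin.le_def]
    simp only [wIdx]
    split_ifs with hi
    · simp only
      let k : Fin d := ⟨d - s - 1, by omega⟩
      have hk : (θ.1 k).val < d := by
        by_contra hge
        have hsub : Finset.Ici k ⊆ Finset.univ.filter fun j => d ≤ (θ.1 j).val := fun j hj => by
          have := Fin.le_def.1 (θ.2.monotone (Finset.mem_Ici.1 hj))
          exact Finset.mem_filter.2 ⟨Finset.mem_univ _, by omega⟩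
        have := Finset.card_le_card hsub
        rw [Fin.card_Ici] at this
        have := this.trans h
        simp [k] at this
        omega
      have hg := gap θ (i := i) (j := k) (by simp [k, Fin.le_def]; omega)
      simp only [k] at hg hk
      omega
    · simp only [Fin.val_cast, Fin.val_natAdd]
      have hg := gap θ (i := i) (j := ⟨d - 1, by omega⟩) (by simp [Fin.le_def]; omega)
      simp only at hg
      have := (θ.1 ⟨d - 1, by omega⟩).2
      omega

end Groth.Agent.SMT
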