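import Groth.Agent.Lib.SMT.Bitab
import Mathlib.RingTheory.Localization.FractionRing

/-!
# The straightening basis of a determinantal ring
-/

namespace Groth.Agent.SMT

open W4bk4grassmannian MvPolynomial

universe u

variable (K : Type u) [Field K] [Infinite K] {d r : ℕ} (hd : 0 < d) {s : ℕ} (hs : s ≤ r)

local notation "L'" => FractionRing (MatRing K d (d + r))

/-- The generic matrix of the Schubert variety over the function field. -/
noncomputable def genL (w : Idx d (d + r)) : Matrix (Fin (d + r)) (Fin d) L' :=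
  (echMatrix K w).map (algebraMap (MatRing K d (d + r)) L')

/-- Its top block. -/
noncomputable def topL (w : Idx d (d + r)) : Matrix (Fin d) (Fin d) L' :=
  (genL K w).submatrix (idIdx d r).1 id

/-- The normalised generic matrix. -/
noncomputable def nrmL (w : Idx d (d + r)) : Matrix (Fin (d + r)) (Fin d) L' :=
  genL K w * (topL K w)⁻¹

/-- Evaluation at the normalised generic matrix. -/
noncomputable def sigma (w : Idx d (d + r)) : CellRing K d r →ₐ[K] L' :=
  MvPolynomial.aeval fun p => nrmL K w (Fin.natAdd d p.1.rev) p.2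

theorem det_genL (w θ : Idx d (d + r)) :
    ((genL K w).submatrix θ.1 id).det =
      algebraMap (MatRing K d (d + r)) L' (echMap K w (X θ)) := by
  rw [echMap, aeval_X, RingHom.map_det]
  rfl

theorem det_topL_ne_zero (w : Idx d (d + r)) : (topL K (d := d) w).det ≠ 0 := by
  rw [topL, det_genL, map_ne_zero_iff _ (IsFractionRing.injective _ _)]
  intro h
  have := (top_echMap_X K (idIdx_le w)).coeff_self wt
  rw [h] at this
  simp at this

theorem sigma_dehom_X (w θ : Idx d (d + r)) :
    sigma K w (dehom K d r (X θ)) = algebraMap (MatRing K d (d + r)) L'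
      (echMap K w (X θ)) * ((topL K (d := d) w).det)⁻¹ := by
  classical
  have hunit := isUnit_iff_ne_zero.2 (det_topL_ne_zero K w)
  rw [dehom, aeval_X, cellMinor, ← det_genL K w]
  rw [← Ring.inverse_eq_inv', ← Matrix.det_nonsing_inv, ← Matrix.det_mul, AlgHom.map_det, AlgHom.map_det]
  congr 1
  have hN : ((genL K w).submatrix θ.1 id) * (topL K w)⁻¹ =
      (nrmL K w).submatrix θ.1 id := by
    ext a b; simp [nrmL, Matrix.mul_apply]
  rw [hN]
  ext a b
  simp only [AlgHom.mapMatrix_apply, Matrix.map_apply, Matrix.submatrix_apply, id]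
  generalize θ.1 a = x
  induction x using Fin.addCases with
  | left c =>
    have htop : nrmL K (d := d) w (Fin.castAdd r c) b =
        (1 : Matrix (Fin d) (Fin d) L') c b := by
      rw [← Matrix.mul_nonsing_inv (topL K (d := d) w) hunit]
      simp [nrmL, Matrix.mul_apply, topL, idIdx]
    rw [htop, cellMatrix, Matrix.of_apply, dif_pos (by simp)]
    simp [Matrix.one_apply, Fin.val_inj, apply_ite]
  | right c =>
    rw [cellMatrix, Matrix.of_apply, dif_neg (by simp), revZ, rename_X, sigma, aeval_X]
    simp [Fin.rev_rev]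

theorem sigma_eq_zero {p : CellRing K d r} (hp : p ∈ CAlgX.minorIdeal (genMatrix K r d) (s + 1)) :
    sigma K (wIdx d r s hs) p = 0 := by
  classical
  have hle : CAlgX.minorIdeal (genMatrix K r d) (s + 1) ≤ RingHom.ker (sigma K (wIdx d r s hs)).toRingHom := by
    refine Ideal.span_le.2 ?_
    rintro _ ⟨⟨f, g⟩, rfl⟩
    show sigma K (wIdx d r s hs) ((genMatrix K r d).submatrix f g).det = 0
    by_cases hf : Function.Injective f
    swap
    · simp only [Function.Injective, not_forall] at hf
      obtain ⟨x, y, hxy, hne⟩ := hf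
      rw [Matrix.det_zero_of_row_eq hne (funext fun j => by simp [hxy]), map_zero]
    by_cases hg : Function.Injective g
    swap
    · simp only [Function.Injective, not_forall] at hg
      obtain ⟨x, y, hxy, hne⟩ := hg
      rw [Matrix.det_zero_of_column_eq hne (fun j => by simp [hxy]), map_zero]
    obtain ⟨θ, z, e, hc, -⟩ := exists_cellMinor (K := K) (s + 1) (fun j => (f j).rev) g
      (Fin.rev_injective.comp hf) hg
    have e' := congrArg (revZ K d r) e
    rw [map_mul, AlgHom.map_det, map_pow, map_neg, map_one] at e'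
    rw [show ((genMatrix K r d).submatrix f g) = (revZ K d r).mapMatrix
        ((genMatrix K r d).submatrix (fun j => (f j).rev) g) by
      ext a b; simp [genMatrix, revZ], e', map_mul,
      show revZ K d r (cellMinor K d r θ) = dehom K d r (X θ) by rw [dehom, aeval_X],
      sigma_dehom_X, echMap_X_of_not_le, map_zero, zero_mul, mul_zero]
    rw [le_wIdx_iff]
    show ¬ botCard θ ≤ s
    rw [botCard, hc]
    omega
  exact hle hp

theorem sigma_dehom_mX (t : Multiset (Idx d (d + r))) :
    sigma K (wIdx d r s hs) (dehom K d r (mX K t)) = algebraMap (MatRing K d (d + r)) L'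
      (echMap K (wIdx d r s hs) (mX K t)) * (((topL K (wIdx d r s hs)).det)⁻¹) ^ t.card := by
  induction t using Multiset.induction with
  | empty => simp [mX]
  | cons a t ih =>
    rw [mX, Multiset.map_cons, Multiset.prod_cons, map_mul, map_mul, map_mul, map_mul,
      Multiset.card_cons, sigma_dehom_X]
    rw [← mX, ih, pow_succ]
    ring

/-- Chains below `wIdx` without the bottom index. -/
abbrev CMS' (d r s : ℕ) (hs : s ≤ r) : Type :=
  {t : CMS (wIdx d r s hs) // idIdx d r ∉ t.1}

include hd in
theorem linearIndependent_sigma :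
    LinearIndependent K (fun t : CMS' d r s hs => sigma K (wIdx d r s hs) (dehom K d r (mX K t.1.1))) := by
  classical
  rw [linearIndependent_iff']
  intro S g hsum t₀ ht₀
  set N := S.sup fun t => t.1.1.card
  set δ := (topL K (wIdx d r s hs)).det
  have hδ : δ ≠ 0 := det_topL_ne_zero K (wIdx d r s hs)
  let up : CMS' d r s hs → Multiset (Idx d (d + r)) := fun t =>
    t.1.1 + Multiset.replicate (N - t.1.1.card) (idIdx d r)
  have hup : ∀ t, IsChainMS (up t) ∧ ∀ a ∈ up t, a ≤ wIdx d r s hs := by
    intro t
    refine ⟨fun a ha b hb => ?_, fun a ha => ?_⟩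
    · rcases Multiset.mem_add.1 ha with ha | ha
      · rcases Multiset.mem_add.1 hb with hb | hb
        · exact t.1.2.1 a ha b hb
        · exact Or.inr ((Multiset.eq_of_mem_replicate hb) ▸ idIdx_le a)
      · exact Or.inl ((Multiset.eq_of_mem_replicate ha) ▸ idIdx_le b)
    · rcases Multiset.mem_add.1 ha with ha | ha
      · exact t.1.2.2 a ha
      · exact (Multiset.eq_of_mem_replicate ha) ▸ idIdx_le _
  have hkey : ∀ t ∈ S, algebraMap (MatRing K d (d + r)) L'
      (echMap K (wIdx d r s hs) (mX K (up t))) = δ ^ N * sigma K (wIdx d r s hs) (dehom K d r (mX K t.1.1)) := by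
    intro t ht
    have hle : t.1.1.card ≤ N := Finset.le_sup (f := fun t : CMS' d r s hs => t.1.1.card) ht
    rw [sigma_dehom_mX, mX, Multiset.map_add, Multiset.prod_add, Multiset.map_replicate,
      Multiset.prod_replicate, map_mul, map_mul, map_pow, map_pow, ← det_genL]
    show _ * δ ^ (N - t.1.1.card) = _
    obtain ⟨k, hk⟩ := Nat.exists_eq_add_of_le hle
    rw [hk, Nat.add_sub_cancel_left, pow_add, inv_pow, mX, show (topL K (wIdx d r s hs)).det = δ from rfl]
    field_simp
  have hli : LinearIndependent K (fun t : CMS' d r s hs => echMap K (wIdx d r s hs) (mX K (up t))) := by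
    refine linearIndependent_of_top wt _ (fun t => mdiag (up t)) (fun t => top_mX K (hup t).2) ?_
    intro a b h
    have h2 : up a = up b := mdiag_injOn_chains hd (hup a).1 (hup b).1 h
    have h3 : ∀ t : CMS' d r s hs, (up t).filter (fun x => x ≠ idIdx d r) = t.1.1 := fun t => by
      rw [Multiset.filter_add, (Multiset.filter_eq_nil (s := Multiset.replicate (N - t.1.1.card) (idIdx d r))).2 fun x hx => by
          simp [Multiset.eq_of_mem_replicate hx], add_zero]
      exact Multiset.filter_eq_self.2 fun x hx => fun e : x = idIdx d r => t.2 (e ▸ hx)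
    exact Subtype.ext (Subtype.ext (by rw [← h3 a, ← h3 b, h2]))
  refine linearIndependent_iff'.1 hli S g ?_ t₀ ht₀
  apply IsFractionRing.injective (MatRing K d (d + r)) L'
  have h : ∑ t ∈ S, g t • (δ ^ N * sigma K (wIdx d r s hs) (dehom K d r (mX K t.1.1))) = 0 := by
    simp only [← mul_smul_comm, ← Finset.mul_sum, hsum, mul_zero]
  rw [map_sum, map_zero, ← h]
  refine Finset.sum_congr rfl fun t ht => ?_
  rw [← hkey t ht]
  exact map_smul (IsScalarTower.toAlgHom K (MatRing K d (d + r)) L') _ _

omit [Infinite K] in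
theorem dehom_mX_filter (t : Multiset (Idx d (d + r))) :
    dehom K d r (mX K (t.filter fun x => x ≠ idIdx d r)) = dehom K d r (mX K t) := by
  induction t using Multiset.induction with
  | empty => simp [mX]
  | cons a t ih =>
    by_cases h : a = idIdx d r
    · rw [Multiset.filter_cons_of_neg (p := fun x => x ≠ idIdx d r) _ (not_not.2 h), ih, h]
      simp only [mX, Multiset.map_cons, Multiset.prod_cons, map_mul, dehom_X_id, one_mul]
    · rw [Multiset.filter_cons_of_pos (p := fun x => x ≠ idIdx d r) _ h]
      simp only [mX, Multiset.map_cons, Multiset.prod_cons, map_mul] at ih ⊢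
      rw [ih]

/-- Monomials of chains span the determinantal ring. -/
theorem span_cms' (I : Ideal (CellRing K d r)) (hd : 0 < d)
    (hI : CAlgX.minorIdeal (genMatrix K r d) (s + 1) ≤ I) :
    Submodule.span K (Set.range fun t : CMS' d r s hs =>
      Ideal.Quotient.mk I (dehom K d r (mX K t.1.1))) = ⊤ := by
  classical
  rw [eq_top_iff]
  rintro x -
  obtain ⟨y, rfl⟩ := Ideal.Quotient.mk_surjective x
  obtain ⟨p, rfl⟩ := dehom_surjective K y
  let F : (PlRing K d (d + r) ⧸ schubertVanishing K d (d + r) (wIdx d r s hs)) →ₐ[K] CellRing K d r ⧸ I :=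
    Ideal.Quotient.liftₐ _ ((Ideal.Quotient.mkₐ K I).comp (dehom K d r)) fun q hq => by
      rw [← plIdeal_eq K hd] at hq
      have hle : plIdeal K (wIdx d r s hs) ≤
          RingHom.ker ((Ideal.Quotient.mkₐ K I).comp (dehom K d r)).toRingHom := by
        refine Ideal.span_le.2 ?_
        rintro _ (hf | ⟨φ, hφ, rfl⟩)
        · refine Ideal.Quotient.eq_zero_iff_mem.2 ?_
          show dehom K d r _ ∈ I
          rw [dehom_vanishing K hd (Ideal.subset_span hf)]
          exact zero_mem _
        · refine Ideal.Quotient.eq_zero_iff_mem.2 (hI (dehom_X_mem K φ ?_))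
          rw [le_wIdx_iff] at hφ
          omega
      exact hle hq
  have hp : F (Ideal.Quotient.mk _ p) ∈ Submodule.span K (Set.range fun t : CMS' d r s hs =>
      Ideal.Quotient.mk I (dehom K d r (mX K t.1.1))) := by
    have := (stdBasis K hd (wIdx d r s hs)).mem_span (Ideal.Quotient.mk _ p)
    have h2 := Submodule.mem_map_of_mem (f := F.toLinearMap) this
    rw [Submodule.map_span] at h2
    refine Submodule.span_mono ?_ h2
    rintro _ ⟨_, ⟨t, rfl⟩, rfl⟩
    refine ⟨⟨⟨t.1.filter fun x => x ≠ idIdx d r,
      fun a ha b hb => t.2.1 a (Multiset.mem_of_mem_filter ha) b (Multiset.mem_of_mem_filter hb),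
      fun a ha => t.2.2 a (Multiset.mem_of_mem_filter ha)⟩,
      fun h => (Multiset.mem_filter.1 h).2 rfl⟩, ?_⟩
    rw [AlgHom.toLinearMap_apply, stdBasis_apply]
    show Ideal.Quotient.mk I _ = Ideal.Quotient.mk I (dehom K d r (mX K t.1))
    exact congrArg (Ideal.Quotient.mk I) (dehom_mX_filter K t.1)
  exact hp

include hd in
theorem ker_sigma : RingHom.ker (sigma K (wIdx d r s hs)).toRingHom = CAlgX.minorIdeal (genMatrix K r d) (s + 1) := by
  classical
  set I := CAlgX.minorIdeal (genMatrix K r d) (s + 1)
  refine le_antisymm (fun y hy => ?_) fun y hy => sigma_eq_zero K hs hy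
  have hspan := span_cms' K hs I hd le_rfl
  have hmem : Ideal.Quotient.mk I y ∈ Submodule.span K (Set.range fun t : CMS' d r s hs =>
      Ideal.Quotient.mk I (dehom K d r (mX K t.1.1))) := hspan ▸ Submodule.mem_top
  obtain ⟨l, hl⟩ := Finsupp.mem_span_range_iff_exists_finsupp.1 hmem
  have hy' : y - (l.sum fun t c => c • dehom K d r (mX K t.1.1)) ∈ I := by
    rw [← Ideal.Quotient.eq_zero_iff_mem, map_sub, map_finsuppSum, sub_eq_zero, ← hl]
    exact Finsupp.sum_congr fun c _ => (map_smul (Ideal.Quotient.mkₐ K I) _ _).symm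
  have h0 := sigma_eq_zero K hs hy'
  rw [map_sub, show sigma K (wIdx d r s hs) y = 0 from hy, zero_sub, neg_eq_zero, map_finsuppSum] at h0
  have hl0 : l = 0 := by
    ext t
    by_cases ht : t ∈ l.support
    · refine linearIndependent_iff'.1 (linearIndependent_sigma K hd hs) l.support l ?_ t ht
      rw [← h0]
      exact Finset.sum_congr rfl fun c _ => (map_smul (sigma K (wIdx d r s hs)) _ _).symm
    · simpa using ht
  rwa [hl0, Finsupp.sum_zero_index, sub_zero] at hy'

end Groth.Agent.SMT
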