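import Groth.Agent.Lib.SMT.Cell
import Mathlib.Data.Finset.Sort

/-!
# Minors of a matrix as indices of maximal minors
-/

namespace Groth.Agent.SMT

open W4bk4grassmannian

variable {d r : ℕ}

/-- Number of entries of a tuple below `x`. -/
def cnt {s N : ℕ} (a : Fin s → Fin N) (x : ℕ) : ℕ := (Finset.univ.filter fun j => (a j).val < x).card

theorem cnt_le {s N : ℕ} (a : Fin s → Fin N) (x : ℕ) : cnt a x ≤ s :=
  (Finset.card_filter_le _ _).trans (by simp)

theorem cnt_of_ge {s N : ℕ} (a : Fin s → Fin N) {x : ℕ} (hx : N ≤ x) : cnt a x = s := by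
  rw [cnt, Finset.filter_true_of_mem fun j _ => lt_of_lt_of_le (a j).2 hx, Finset.card_fin]

theorem le_cnt_iff {s N : ℕ} {a : Fin s → Fin N} (ha : StrictMono a) (j : Fin s) (x : ℕ) :
    j.val + 1 ≤ cnt a x ↔ (a j).val < x := by
  constructor
  · intro h
    by_contra hlt
    have hsub : (Finset.univ.filter fun i => (a i).val < x) ⊆ Finset.Iio j := fun i hi => by
      rw [Finset.mem_Iio]
      by_contra hle
      have := Fin.le_def.1 (ha.monotone (not_lt.1 hle))
      have := (Finset.mem_filter.1 hi).2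
      omega
    have := Finset.card_le_card hsub
    rw [Fin.card_Iio] at this
    exact absurd (h.trans this) (by omega)
  · intro h
    have hsub : Finset.Iic j ⊆ Finset.univ.filter fun i => (a i).val < x := fun i hi => by
      have := Fin.le_def.1 (ha.monotone (Finset.mem_Iic.1 hi))
      exact Finset.mem_filter.2 ⟨Finset.mem_univ _, by omega⟩
    have := Finset.card_le_card hsub
    rw [Fin.card_Iic] at this
    exact this

theorem le_iff_cnt {N : ℕ} (θ θ' : Idx d N) : θ ≤ θ' ↔ ∀ x, cnt θ'.1 x ≤ cnt θ.1 x := by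
  constructor
  · intro h x
    refine Finset.card_le_card fun i hi => Finset.mem_filter.2 ⟨Finset.mem_univ _, ?_⟩
    have := Fin.le_def.1 (h i)
    have := (Finset.mem_filter.1 hi).2
    omega
  · intro h i
    rw [Fin.le_def]
    have := (le_cnt_iff θ.2 i _).1 (((le_cnt_iff θ'.2 i ((θ'.1 i).val + 1)).2 (by omega)).trans (h _))
    omega

theorem dominates_iff {s s' N : ℕ} {a : Fin s → Fin N} {a' : Fin s' → Fin N} (ha : StrictMono a)
    (ha' : StrictMono a') :
    (s' ≤ s ∧ ∀ (j : Fin s') (i : Fin s), j.val = i.val → a i ≤ a' j) ↔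
      ∀ x, cnt a' x ≤ cnt a x := by
  constructor
  · rintro ⟨hs, h⟩ x
    rcases Nat.eq_zero_or_pos (cnt a' x) with h0 | h0
    · omega
    · have hle := cnt_le a' x
      let j : Fin s' := ⟨cnt a' x - 1, by omega⟩
      let i : Fin s := ⟨j.val, by omega⟩
      have h1 := (le_cnt_iff ha' j x).1 (by simp only [j]; omega)
      have h2 := Fin.le_def.1 (h j i rfl)
      have h3 := (le_cnt_iff ha i x).2 (by omega)
      simp only [i, j] at h3
      omega
  · intro h
    refine ⟨?_, fun j i hji => ?_⟩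
    · have := h N
      rwa [cnt_of_ge a' le_rfl, cnt_of_ge a le_rfl] at this
    · rw [Fin.le_def]
      have h1 := ((le_cnt_iff ha' j ((a' j).val + 1)).2 (by omega)).trans (h _)
      rw [hji] at h1
      have := (le_cnt_iff ha i _).1 h1
      omega

theorem minorGE_iff (M M' : MinorIdx r d) :
    MinorGE M M' ↔ (∀ x, cnt M.2.1.1 x ≤ cnt M'.2.1.1 x) ∧ ∀ x, cnt M.2.2.1 x ≤ cnt M'.2.2.1 x := by
  rw [← dominates_iff M'.2.1.2 M.2.1.2, ← dominates_iff M'.2.2.2 M.2.2.2]
  constructor
  · rintro ⟨h, h'⟩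
    exact ⟨⟨by omega, fun j i e => (h' j i e).1⟩, by omega, fun j i e => (h' j i e).2⟩
  · rintro ⟨⟨h, h'⟩, -, h''⟩
    exact ⟨by omega, fun j i e => ⟨h' j i e, h'' j i e⟩⟩

/-- Number of rows past the identity block. -/
def botCard (θ : Idx d (d + r)) : ℕ := (Finset.univ.filter fun i => d ≤ (θ.1 i).val).card

variable {s : ℕ} {f : Fin s → Fin r} {g : Fin s → Fin d}

theorem cnt_top (hg : Function.Injective g) (θ : Idx d (d + r))
    (hθ : ∀ x, (∃ i, θ.1 i = x) ↔
      (∃ c, c ∉ Set.range g ∧ Fin.castAdd r c = x) ∨ ∃ j, Fin.natAdd d (f j) = x)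
    {x : ℕ} (hx : x ≤ d) : cnt θ.1 x + cnt g x = x := by
  classical
  have h1 : (Finset.univ.filter fun j => (g j).val < x).card =
      (Finset.univ.filter fun c : Fin d => c.val < x ∧ c ∈ Set.range g).card := by
    refine Finset.card_bij (fun j _ => g j) (fun j hj => ?_) (fun a _ b _ h => hg h) fun c hc => ?_
    · simpa using (Finset.mem_filter.1 hj).2
    · obtain ⟨hc1, j, rfl⟩ := (Finset.mem_filter.1 hc).2
      exact ⟨j, by simpa using hc1, rfl⟩
  have h2 : (Finset.univ.filter fun i => (θ.1 i).val < x).card =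
      (Finset.univ.filter fun c : Fin d => c.val < x ∧ ¬ c ∈ Set.range g).card := by
    refine Finset.card_bij (fun i hi => ⟨(θ.1 i).val, by have := (Finset.mem_filter.1 hi).2; omega⟩)
      (fun i hi => ?_) (fun a _ b _ h => θ.2.injective (Fin.ext (by simpa [Fin.ext_iff] using h)))
      fun c hc => ?_
    · have hlt := (Finset.mem_filter.1 hi).2
      refine Finset.mem_filter.2 ⟨Finset.mem_univ _, hlt, ?_⟩
      rcases (hθ (θ.1 i)).1 ⟨i, rfl⟩ with ⟨c, hc, e⟩ | ⟨j, e⟩
      · rwa [show (⟨(θ.1 i).val, by omega⟩ : Fin d) = c from Fin.ext (congrArg Fin.val e).symm]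
      · have := congrArg Fin.val e
        simp at this
        omega
    · obtain ⟨hc1, hc2⟩ := (Finset.mem_filter.1 hc).2
      obtain ⟨i, hi⟩ := (hθ (Fin.castAdd r c)).2 (Or.inl ⟨c, hc2, rfl⟩)
      exact ⟨i, by simp [hi, hc1], Fin.ext (by simp [hi])⟩
  rw [cnt, cnt, h1, h2, ← Finset.filter_filter, ← Finset.filter_filter, add_comm,
    Finset.card_filter_add_card_filter_not]
  exact (Fin.card_filter_val_lt ..).trans (min_eq_right hx)

theorem cnt_bot (hf : Function.Injective f) (θ : Idx d (d + r))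
    (hθ : ∀ x, (∃ i, θ.1 i = x) ↔
      (∃ c, c ∉ Set.range g ∧ Fin.castAdd r c = x) ∨ ∃ j, Fin.natAdd d (f j) = x)
    (y : ℕ) : cnt θ.1 (d + y) + cnt (fun j => (f j).rev) (r - y) = d := by
  classical
  have h1 : (Finset.univ.filter fun j => ((f j).rev).val < r - y).card =
      (Finset.univ.filter fun i => ¬ (θ.1 i).val < d + y).card := by
    refine Finset.card_bij (fun j _ => ((hθ (Fin.natAdd d (f j))).2 (Or.inr ⟨j, rfl⟩)).choose)
      (fun j hj => ?_) (fun a _ b _ h => ?_) fun i hi => ?_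
    · have e := ((hθ (Fin.natAdd d (f j))).2 (Or.inr ⟨j, rfl⟩)).choose_spec
      refine Finset.mem_filter.2 ⟨Finset.mem_univ _, ?_⟩
      rw [e]
      have := (Finset.mem_filter.1 hj).2
      simp [Fin.val_rev] at this ⊢
      omega
    · have ea := ((hθ (Fin.natAdd d (f a))).2 (Or.inr ⟨a, rfl⟩)).choose_spec
      have eb := ((hθ (Fin.natAdd d (f b))).2 (Or.inr ⟨b, rfl⟩)).choose_spec
      rw [h] at ea
      exact hf (Fin.natAdd_injective _ _ (ea.symm.trans eb))
    · have hge := (Finset.mem_filter.1 hi).2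
      rcases (hθ (θ.1 i)).1 ⟨i, rfl⟩ with ⟨c, _, e⟩ | ⟨j, e⟩
      · have := congrArg Fin.val e
        simp at this
        omega
      · refine ⟨j, ?_, θ.2.injective (((hθ _).2 (Or.inr ⟨j, rfl⟩)).choose_spec.trans e)⟩
        have := congrArg Fin.val e
        refine Finset.mem_filter.2 ⟨Finset.mem_univ _, ?_⟩
        simp [Fin.val_rev] at this ⊢
        omega
  rw [cnt, cnt, h1, Finset.card_filter_add_card_filter_not, Finset.card_fin]

/-- The maximal minor of `[I ; Z]` attached to a minor of `Z`. -/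
noncomputable def toIdx (M : MinorIdx r d) : Idx d (d + r) :=
  (exists_cellMinor (K := ℤ) (M.1 + 1) (fun j => (M.2.1.1 j).rev) M.2.2.1
    (Fin.rev_injective.comp M.2.1.2.injective) M.2.2.2.injective).choose

theorem toIdx_spec (M : MinorIdx r d) :
    ∀ x, (∃ i, (toIdx M).1 i = x) ↔
      (∃ c, c ∉ Set.range M.2.2.1 ∧ Fin.castAdd r c = x) ∨
        ∃ j, Fin.natAdd d ((M.2.1.1 j).rev) = x :=
  (exists_cellMinor (K := ℤ) (M.1 + 1) (fun j => (M.2.1.1 j).rev) M.2.2.1
    (Fin.rev_injective.comp M.2.1.2.injective) M.2.2.2.injective).choose_spec.choose_spec.2.2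

theorem botCard_toIdx (M : MinorIdx r d) : botCard (toIdx M) = M.1 + 1 :=
  (exists_cellMinor (K := ℤ) (M.1 + 1) (fun j => (M.2.1.1 j).rev) M.2.2.1
    (Fin.rev_injective.comp M.2.1.2.injective) M.2.2.2.injective).choose_spec.choose_spec.2.1

theorem idx_ext {θ θ' : Idx d (d + r)} (h : ∀ x, (∃ i, θ.1 i = x) ↔ ∃ i, θ'.1 i = x) : θ = θ' :=
  Subtype.ext ((θ.2.range_inj θ'.2).1 (Set.ext h))

theorem toIdx_le_iff (M M' : MinorIdx r d) : toIdx M ≤ toIdx M' ↔ MinorGE M M' := by
  rw [le_iff_cnt, minorGE_iff]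
  have ht : ∀ (M : MinorIdx r d) {x}, x ≤ d → cnt (toIdx M).1 x + cnt M.2.2.1 x = x := fun M _ hx =>
    cnt_top M.2.2.2.injective _ (toIdx_spec M) hx
  have hb : ∀ (M : MinorIdx r d) y, cnt (toIdx M).1 (d + y) + cnt M.2.1.1 (r - y) = d := fun M y => by
    have h := cnt_bot (f := fun j => (M.2.1.1 j).rev) (Fin.rev_injective.comp M.2.1.2.injective) _
      (toIdx_spec M) y
    simpa [Fin.rev_rev] using h
  constructor
  · intro h
    constructor <;> intro x
    · by_cases hx : x ≤ r
      · have := h (d + (r - x))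
        have h1 := hb M (r - x)
        have h2 := hb M' (r - x)
        rw [show r - (r - x) = x by omega] at h1 h2
        omega
      · rw [cnt_of_ge M.2.1.1 (by omega), cnt_of_ge M'.2.1.1 (by omega)]
        have := h d
        have h1 := hb M 0
        have h2 := hb M' 0
        rw [add_zero, Nat.sub_zero, cnt_of_ge _ le_rfl] at h1 h2
        omega
    · by_cases hx : x ≤ d
      · have := h x
        have h1 := ht M hx
        have h2 := ht M' hx
        omega
      · have := h d
        have h1 := ht M le_rfl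
        have h2 := ht M' le_rfl
        rw [cnt_of_ge _ le_rfl] at h1 h2
        rw [cnt_of_ge M.2.2.1 (by omega), cnt_of_ge M'.2.2.1 (by omega)]
        omega
  · rintro ⟨hA, hB⟩ x
    by_cases hx : x ≤ d
    · have := hB x
      have h1 := ht M hx
      have h2 := ht M' hx
      omega
    · have := hA (r - (x - d))
      have h1 := hb M (x - d)
      have h2 := hb M' (x - d)
      rw [show d + (x - d) = x by omega] at h1 h2
      omega

theorem toIdx_injective : Function.Injective (toIdx (d := d) (r := r)) := by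
  intro M M' h
  have h1 := (toIdx_le_iff M M').1 h.le
  have h2 := (toIdx_le_iff M' M).1 h.ge
  obtain ⟨s, A, B⟩ := M
  obtain ⟨s', A', B'⟩ := M'
  obtain rfl : s = s' := le_antisymm h1.1 h2.1
  have hA : A = A' := Subtype.ext (funext fun j => le_antisymm (h2.2 j j rfl).1 (h1.2 j j rfl).1)
  have hB : B = B' := Subtype.ext (funext fun j => le_antisymm (h2.2 j j rfl).2 (h1.2 j j rfl).2)
  subst hA hB
  rfl

/-- The bottom index. -/
def idIdx (d r : ℕ) : Idx d (d + r) := ⟨fun t => Fin.castAdd r t, fun _ _ h => h⟩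

theorem idIdx_le (θ : Idx d (d + r)) : idIdx d r ≤ θ := fun t => id_le θ t

theorem botCard_eq_zero_iff (θ : Idx d (d + r)) : botCard θ = 0 ↔ θ = idIdx d r := by
  constructor
  · intro h
    rw [botCard, Finset.card_eq_zero, Finset.filter_eq_empty_iff] at h
    have hlt : ∀ i, (θ.1 i).val < d := fun i => not_le.1 (h (Finset.mem_univ i))
    have hsm : StrictMono (fun i : Fin d => (⟨(θ.1 i).val, hlt i⟩ : Fin d)) := fun a c hac => θ.2 hac
    have hid := (hsm.range_inj strictMono_id).1 (by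
      rw [Set.range_id]
      exact (Finite.injective_iff_surjective.1 hsm.injective).range_eq)
    exact Subtype.ext (funext fun t => Fin.ext (congrArg Fin.val (congrFun hid t) :))
  · rintro rfl
    simp [botCard, idIdx]

theorem exists_toIdx_eq {θ : Idx d (d + r)} (h : θ ≠ idIdx d r) : ∃ M, toIdx M = θ := by
  classical
  obtain ⟨s, hs⟩ : ∃ s, botCard θ = s + 1 :=
    Nat.exists_eq_succ_of_ne_zero fun h0 => h ((botCard_eq_zero_iff θ).1 h0)
  let Bs : Finset (Fin r) := (Finset.univ.filter fun b => ∃ i, θ.1 i = Fin.natAdd d b.rev)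
  let Cs : Finset (Fin d) := (Finset.univ.filter fun c => ¬ ∃ i, θ.1 i = Fin.castAdd r c)
  have hB : Bs.card = s + 1 := by
    rw [← hs, botCard]
    refine (Finset.card_bij (fun i hi => (⟨(θ.1 i).val - d, by
      have := (θ.1 i).2; have := (Finset.mem_filter.1 hi).2; omega⟩ : Fin r).rev)
      (fun i hi => ?_) (fun a ha b hb e => ?_) fun b hb => ?_).symm
    · refine Finset.mem_filter.2 ⟨Finset.mem_univ _, i, Fin.ext ?_⟩
      have := (Finset.mem_filter.1 hi).2
      simp [Fin.rev_rev]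
      omega
    · have := (Finset.mem_filter.1 ha).2
      have := (Finset.mem_filter.1 hb).2
      have e' := congrArg Fin.val (Fin.rev_injective e)
      simp at e'
      exact θ.2.injective (Fin.ext (by omega))
    · obtain ⟨i, hi⟩ := (Finset.mem_filter.1 hb).2
      refine ⟨i, Finset.mem_filter.2 ⟨Finset.mem_univ _, by simp [hi]⟩, ?_⟩
      conv_rhs => rw [← Fin.rev_rev b]
      refine congrArg Fin.rev (Fin.ext ?_)
      simp [hi]
  have hC : Cs.card = s + 1 := by
    have hsplit := Finset.card_filter_add_card_filter_not (s := (Finset.univ : Finset (Fin d)))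
      (fun i => d ≤ (θ.1 i).val)
    have hsplit' := Finset.card_filter_add_card_filter_not (s := (Finset.univ : Finset (Fin d)))
      (fun c => ∃ i, θ.1 i = Fin.castAdd r c)
    rw [Finset.card_fin] at hsplit hsplit'
    have : (Finset.univ.filter fun i => ¬ d ≤ (θ.1 i).val).card =
        (Finset.univ.filter fun c : Fin d => ∃ i, θ.1 i = Fin.castAdd r c).card := by
      refine Finset.card_bij (fun i hi => ⟨(θ.1 i).val, not_le.1 (Finset.mem_filter.1 hi).2⟩)
        (fun i _ => Finset.mem_filter.2 ⟨Finset.mem_univ _, i, Fin.ext rfl⟩)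
        (fun a _ b _ e => θ.2.injective (Fin.ext (by simpa [Fin.ext_iff] using e))) fun c hc => ?_
      obtain ⟨i, hi⟩ := (Finset.mem_filter.1 hc).2
      exact ⟨i, by simp [hi], Fin.ext (by simp [hi])⟩
    simp only [botCard] at hs
    simp only [Cs]
    omega
  refine ⟨⟨s, ⟨Bs.orderEmbOfFin hB, (Bs.orderEmbOfFin hB).strictMono⟩,
    ⟨Cs.orderEmbOfFin hC, (Cs.orderEmbOfFin hC).strictMono⟩⟩, idx_ext fun x => ?_⟩
  rw [toIdx_spec]
  simp only [Finset.range_orderEmbOfFin, Finset.mem_coe]
  constructor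
  · rintro (⟨c, hc, rfl⟩ | ⟨j, rfl⟩)
    · simpa [Cs] using hc
    · exact (Finset.mem_filter.1 (Bs.orderEmbOfFin_mem hB j)).2
  · rintro ⟨i, rfl⟩
    obtain ⟨x, hx⟩ : ∃ x, θ.1 i = x := ⟨_, rfl⟩
    rw [hx]
    induction x using Fin.addCases with
    | left c =>
      exact Or.inl ⟨c, fun hc => (Finset.mem_filter.1 hc).2 ⟨i, hx⟩, rfl⟩
    | right b =>
      have hb : b.rev ∈ Bs := Finset.mem_filter.2 ⟨Finset.mem_univ _, i, by rw [Fin.rev_rev]; exact hx⟩
      have : b.rev ∈ Set.range (Bs.orderEmbOfFin hB) := by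
        rw [Finset.range_orderEmbOfFin]; exact hb
      obtain ⟨j, hj⟩ := this
      exact Or.inr ⟨j, by rw [hj, Fin.rev_rev]⟩

end Groth.Agent.SMT
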