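import Groth.Agent.Lib.SMT.BitabBasis
import Mathlib.Data.List.Sort

/-!
# Standard bitableaux
-/

namespace Groth.Agent.SMT

open W4bk4grassmannian MvPolynomial

universe u

variable (K : Type u) [Field K] [Infinite K] {d r : ℕ}

/-- Standard bitableaux with rows of size at most `s`. -/
abbrev Bitableau (d r s : ℕ) : Type :=
  Σ k : ℕ, {c : Fin k → MinorIdx r d // (∀ i, (c i).1 + 1 ≤ s) ∧ ∀ i j, i < j → MinorGE (c i) (c j)}

/-- The chain of a bitableau. -/
noncomputable def bitChain {s : ℕ} (hs : s ≤ r) (c : Bitableau d r s) : CMS' d r s hs :=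
  ⟨⟨(List.ofFn fun i => toIdx (c.2.1 i) : Multiset (Idx d (d + r))), by
    intro a ha b hb
    obtain ⟨i, rfl⟩ := List.mem_ofFn.1 (Multiset.mem_coe.1 ha)
    obtain ⟨j, rfl⟩ := List.mem_ofFn.1 (Multiset.mem_coe.1 hb)
    rcases lt_trichotomy i j with h | h | h
    · exact Or.inl ((toIdx_le_iff _ _).2 (c.2.2.2 i j h))
    · subst h; exact Or.inl le_rfl
    · exact Or.inr ((toIdx_le_iff _ _).2 (c.2.2.2 j i h)),
    fun a ha => by
    obtain ⟨i, rfl⟩ := List.mem_ofFn.1 (Multiset.mem_coe.1 ha)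
    rw [le_wIdx_iff, botCard_toIdx]
    exact c.2.2.1 i⟩, fun h => by
    obtain ⟨i, hi⟩ := List.mem_ofFn.1 (Multiset.mem_coe.1 h)
    have := botCard_toIdx (c.2.1 i)
    rw [(botCard_eq_zero_iff _).2 hi] at this
    omega⟩

theorem bitChain_injective {s : ℕ} (hs : s ≤ r) :
    Function.Injective (bitChain (d := d) hs) := by
  intro c c' h
  have hp : (List.ofFn fun i => toIdx (c.2.1 i)).Perm (List.ofFn fun i => toIdx (c'.2.1 i)) :=
    Multiset.coe_eq_coe.1 (congrArg (fun t : CMS' d r s hs => t.1.1) h)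
  have hsort : ∀ c : Bitableau d r s, (List.ofFn fun i => toIdx (c.2.1 i)).Pairwise (· ≤ ·) := fun c => by
    rw [List.pairwise_ofFn]
    exact fun i j hij => (toIdx_le_iff _ _).2 (c.2.2.2 i j hij)
  have he := hp.eq_of_pairwise (fun a b _ _ h₁ h₂ => le_antisymm h₁ h₂) (hsort c) (hsort c')
  obtain ⟨k, c, hc⟩ := c
  obtain ⟨k', c', hc'⟩ := c'
  obtain rfl : k = k' := by simpa using congrArg List.length he
  have : c = c' := funext fun i => toIdx_injective (congrFun (List.ofFn_inj.1 he) i)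
  subst this
  rfl

theorem bitChain_surjective {s : ℕ} (hs : s ≤ r) :
    Function.Surjective (bitChain (d := d) hs) := by
  intro t
  obtain ⟨c, hc, he⟩ := exists_antitone_of_chain _ t.1.1 rfl t.1.2.1
  have hmem : ∀ i, c i ∈ t.1.1 := fun i =>
    he.symm ▸ Multiset.mem_coe.2 (List.mem_ofFn.2 ⟨i, rfl⟩)
  choose M hM using fun i => exists_toIdx_eq (θ := c i) fun h => t.2 (Eq.mp (congrArg (fun x => x ∈ t.1.1) h) (hmem i))
  refine ⟨⟨t.1.1.card, fun i => M i.rev, fun i => ?_, fun i j hij => ?_⟩, ?_⟩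
  · rw [← botCard_toIdx, hM, ← le_wIdx_iff hs]
    exact t.1.2.2 _ (hmem _)
  · rw [← toIdx_le_iff, hM, hM]
    exact hc (Fin.rev_le_rev.2 hij.le)
  · refine Subtype.ext (Subtype.ext ?_)
    show (List.ofFn fun i => toIdx (M i.rev) : Multiset (Idx d (d + r))) = t.1.1
    conv_rhs => rw [← he]
    rw [Multiset.coe_eq_coe]
    simp only [hM]
    exact (Equiv.Perm.ofFn_comp_perm Fin.revPerm c)

theorem bitableau_basis (hd : 0 < d) {s : ℕ} (hs : s ≤ r) :
    LinearIndependent K (fun c : Bitableau d r s =>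
        Ideal.Quotient.mk (CAlgX.minorIdeal (genMatrix K r d) (s + 1))
          (Finset.univ.prod fun i => minorOf K (c.2.1 i))) ∧
      Submodule.span K (Set.range fun c : Bitableau d r s =>
        Ideal.Quotient.mk (CAlgX.minorIdeal (genMatrix K r d) (s + 1))
          (Finset.univ.prod fun i => minorOf K (c.2.1 i))) = ⊤ := by
  classical
  set I := CAlgX.minorIdeal (genMatrix K r d) (s + 1)
  set v : CMS' d r s hs → CellRing K d r ⧸ I := fun t => Ideal.Quotient.mk I (dehom K d r (mX K t.1.1))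
  have hu : ∀ c : Bitableau d r s, ∃ u : Kˣ,
      Ideal.Quotient.mk I (Finset.univ.prod fun i => minorOf K (c.2.1 i)) = u • v (bitChain hs c) := by
    intro c
    choose u hu using fun i => dehom_X_toIdx K (c.2.1 i)
    refine ⟨(∏ i, u i)⁻¹, ?_⟩
    have hv : v (bitChain hs c) = (∏ i, u i) • Ideal.Quotient.mk I (∏ i, minorOf K (c.2.1 i)) := by
      show Ideal.Quotient.mk I (dehom K d r (mX K _)) = _
      rw [mX, show (bitChain hs c).1.1 = (List.ofFn fun i => toIdx (c.2.1 i) : Multiset _) from rfl,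
        Multiset.map_coe, Multiset.prod_coe, List.map_ofFn, List.prod_ofFn, map_prod (dehom K d r)]
      simp only [Function.comp_apply, hu, Units.smul_def, Units.coe_prod, Algebra.smul_def,
        Finset.prod_mul_distrib, map_mul, map_prod]
      rfl
    rw [hv, inv_smul_smul]
  choose u hu using hu
  have e : (fun c : Bitableau d r s =>
      Ideal.Quotient.mk I (Finset.univ.prod fun i => minorOf K (c.2.1 i))) = u • (v ∘ bitChain hs) :=
    funext hu
  rw [e]
  constructor
  · refine LinearIndependent.units_smul ?_ u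
    refine LinearIndependent.comp ?_ _ (bitChain_injective hs)
    let g : (CellRing K d r ⧸ I) →ₐ[K] FractionRing (MatRing K d (d + r)) :=
      Ideal.Quotient.liftₐ I (sigma K (wIdx d r s hs)) fun p hp => sigma_eq_zero K hs hp
    exact LinearIndependent.of_comp g.toLinearMap (linearIndependent_sigma K hd hs)
  · rw [eq_top_iff, ← span_cms' K hs I hd le_rfl, Submodule.span_le]
    rintro _ ⟨t, rfl⟩
    obtain ⟨c, rfl⟩ := bitChain_surjective hs t
    have : (u • (v ∘ bitChain hs)) c ∈ Submodule.span K (Set.range (u • (v ∘ bitChain hs))) :=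
      Submodule.subset_span ⟨c, rfl⟩
    have h2 := Submodule.smul_mem _ ((u c)⁻¹ : Kˣ).val this
    rwa [Pi.smul_apply', ← Units.smul_def, inv_smul_smul] at h2

end Groth.Agent.SMT
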