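import Groth.Agent.Lib.SMT.Idx
import Groth.Prelude.Def_CAlgX
import Mathlib.LinearAlgebra.Matrix.SchurComplement

/-!
# Minors of the matrix `[I ; Z]`
-/

namespace Groth.Agent.SMT

open W4bk4grassmannian MvPolynomial

universe u

variable {K : Type u} [CommRing K] {d r : ℕ}

theorem det_cell {ι κ : Type*} [Fintype ι] [Fintype κ] [DecidableEq ι] [DecidableEq κ]
    (ε e : ι ⊕ κ ≃ Fin d) (a : Fin d → Fin (d + r)) (b : κ → Fin r)
    (hl : ∀ i, a (ε (Sum.inl i)) = Fin.castAdd r (e (Sum.inl i)))
    (hr : ∀ j, a (ε (Sum.inr j)) = Fin.natAdd d (b j)) :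
    ((cellMatrix K d r).submatrix a id).det =
      ((Equiv.Perm.sign (e.symm.trans ε) : ℤˣ) : ℤ) *
        ((genMatrix K r d).submatrix b (fun j => e (Sum.inr j))).det := by
  set M := (cellMatrix K d r).submatrix a id
  have hblock : M.submatrix ε e = Matrix.fromBlocks 1 0
      ((genMatrix K r d).submatrix b (fun i => e (Sum.inl i)))
      ((genMatrix K r d).submatrix b (fun j => e (Sum.inr j))) := by
    funext x y
    rcases x with i | j
    · simp only [M, Matrix.submatrix_apply, id, hl, cellMatrix, Matrix.of_apply]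
      rw [dif_pos (by simp)]
      rcases y with i' | j'
      · rw [Matrix.fromBlocks_apply₁₁, Matrix.one_apply]
        simp [Fin.val_inj, EmbeddingLike.apply_eq_iff_eq]
      · rw [Matrix.fromBlocks_apply₁₂, Matrix.zero_apply, if_neg]
        simp [Fin.val_inj]
    · simp only [M, Matrix.submatrix_apply, id, hr, cellMatrix, Matrix.of_apply]
      rw [dif_neg (by simp)]
      rcases y with i' | j' <;>
        simp [genMatrix]
  have h1 : (M.submatrix ε e).det = ((genMatrix K r d).submatrix b (fun j => e (Sum.inr j))).det := by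
    rw [hblock, Matrix.det_fromBlocks_zero₁₂, Matrix.det_one, one_mul]
  have h2 : M.submatrix ε e = (M.submatrix (e.symm.trans ε) id).submatrix e e := by
    ext x y; simp
  rw [h2, Matrix.det_submatrix_equiv_self, Matrix.det_permute] at h1
  rw [← h1, ← mul_assoc]
  have : ∀ u : ℤˣ, ((u : ℤ) : CellRing K d r) * ((u : ℤ) : CellRing K d r) = 1 := fun u => by
    rw [← Int.cast_mul, ← Units.val_mul, Int.units_mul_self, Units.val_one, Int.cast_one]
  rw [this, one_mul]

theorem minorIdeal_succ_le {R : Type u} [CommRing R] {m n : Type} [Fintype m] [Fintype n]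
    (A : Matrix m n R) (s : ℕ) : CAlgX.minorIdeal A (s + 1) ≤ CAlgX.minorIdeal A s := by
  refine Ideal.span_le.2 ?_
  rintro _ ⟨⟨f, g⟩, rfl⟩
  show (A.submatrix f g).det ∈ CAlgX.minorIdeal A s
  rw [Matrix.det_succ_row_zero]
  refine Ideal.sum_mem _ fun j _ => Ideal.mul_mem_left _ _ (Ideal.subset_span ⟨⟨f ∘ Fin.succ, g ∘ j.succAbove⟩, ?_⟩)
  rfl

theorem minorIdeal_antitone {R : Type u} [CommRing R] {m n : Type} [Fintype m] [Fintype n]
    (A : Matrix m n R) : Antitone (CAlgX.minorIdeal A) :=
  antitone_nat_of_succ_le (minorIdeal_succ_le A)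

theorem det_mem_minorIdeal {R : Type u} [CommRing R] {m n : Type} [Fintype m] [Fintype n]
    (A : Matrix m n R) {κ : Type*} [Fintype κ] [DecidableEq κ] {t : ℕ} (ht : t ≤ Fintype.card κ)
    (f : κ → m) (g : κ → n) : (A.submatrix f g).det ∈ CAlgX.minorIdeal A t := by
  refine minorIdeal_antitone A ht (Ideal.subset_span
    ⟨⟨f ∘ (Fintype.equivFin κ).symm, g ∘ (Fintype.equivFin κ).symm⟩, ?_⟩)
  show (A.submatrix _ _).det = _
  rw [← Matrix.submatrix_submatrix, Matrix.det_submatrix_equiv_self]

/-- A cell minor is, up to sign, the minor of `Z` on the rows past the identity block and the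
complementary columns. -/
theorem cellMinor_eq (θ : Idx d (d + r)) :
    ∃ (b : {i : Fin d // ¬ (θ.1 i).val < d} → Fin r) (c : {i : Fin d // ¬ (θ.1 i).val < d} → Fin d)
      (z : ℤ), cellMinor K d r θ = z * ((genMatrix K r d).submatrix b c).det := by
  classical
  let P : Fin d → Prop := fun i => (θ.1 i).val < d
  let T : Fin d → Prop := fun c => ∃ i, (θ.1 i).val = c.val
  let e₁ : {i : Fin d // P i} ≃ {c : Fin d // T c} := Equiv.ofBijective
    (fun i => ⟨⟨(θ.1 i.1).val, i.2⟩, i.1, rfl⟩)
    ⟨fun i j h => Subtype.ext (θ.2.injective (Fin.ext (by simpa [Fin.ext_iff] using h))),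
     fun ⟨c, i, hi⟩ => ⟨⟨i, show (θ.1 i).val < d by rw [hi]; exact c.2⟩, Subtype.ext (Fin.ext hi)⟩⟩
  let e₂ : {i : Fin d // ¬ P i} ≃ {c : Fin d // ¬ T c} :=
    Fintype.equivOfCardEq (Fintype.card_compl_eq_card_compl P T (Fintype.card_congr e₁))
  let e : {i : Fin d // P i} ⊕ {i : Fin d // ¬ P i} ≃ Fin d :=
    (e₁.sumCongr e₂).trans (Equiv.sumCompl T)
  refine ⟨fun i => ⟨(θ.1 i.1).val - d, by have := (θ.1 i.1).2; have := i.2; omega⟩,
    fun j => e (Sum.inr j), _, det_cell (Equiv.sumCompl P) e θ.1 _ (fun i => ?_) (fun j => ?_)⟩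
  · apply Fin.ext
    simp [e, e₁]
  · apply Fin.ext
    have := j.2
    simp [P] at this ⊢
    omega

theorem cellMinor_mem (θ : Idx d (d + r)) {t : ℕ} (ht : 0 < t) (hd : 0 < d) (htd : t ≤ d)
    (h : d ≤ (θ.1 ⟨d - t, Nat.sub_lt hd ht⟩).val) :
    cellMinor K d r θ ∈ CAlgX.minorIdeal (genMatrix K r d) t := by
  obtain ⟨b, c, z, e⟩ := cellMinor_eq (K := K) θ
  rw [e]
  refine Ideal.mul_mem_left _ _ (det_mem_minorIdeal _ ?_ b c)
  rw [← Fintype.card_fin t]
  refine Fintype.card_le_of_injective (fun j => ⟨⟨d - t + j, by omega⟩, ?_⟩) fun i j hij => ?_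
  · have := Fin.le_def.1 (θ.2.monotone (show (⟨d - t, Nat.sub_lt hd ht⟩ : Fin d) ≤ ⟨d - t + j, by omega⟩ by
      simp [Fin.le_def]))
    omega
  · simp [Fin.ext_iff] at hij
    exact Fin.ext hij

theorem exists_cellMinor (t : ℕ) (f : Fin t → Fin r) (g : Fin t → Fin d) (hf : Function.Injective f)
    (hg : Function.Injective g) :
    ∃ (θ : Idx d (d + r)) (z : ℕ),
      ((genMatrix K r d).submatrix f g).det = (-1) ^ z * cellMinor K d r θ ∧
      (Finset.univ.filter fun i => d ≤ (θ.1 i).val).card = t ∧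
      ∀ x, (∃ i, θ.1 i = x) ↔
        (∃ c, c ∉ Set.range g ∧ Fin.castAdd r c = x) ∨ ∃ j, Fin.natAdd d (f j) = x := by
  classical
  let e : {c : Fin d // c ∉ Set.range g} ⊕ Fin t ≃ Fin d :=
    ((Equiv.refl _).sumCongr (Equiv.ofInjective g hg)).trans
      ((Equiv.sumComm _ _).trans (Equiv.sumCompl fun c => c ∈ Set.range g))
  let a : Fin d → Fin (d + r) := fun i =>
    Sum.elim (fun c => Fin.castAdd r c.1) (fun j => Fin.natAdd d (f j)) (e.symm i)
  have ha : Function.Injective a := by
    intro i j h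
    apply e.symm.injective
    simp only [a] at h
    rcases hi : e.symm i with c | c <;> rcases hj : e.symm j with c' | c' <;>
      simp only [hi, hj, Sum.elim_inl, Sum.elim_inr, Fin.ext_iff, Fin.val_castAdd, Fin.val_natAdd] at h
    · exact congrArg Sum.inl (Subtype.ext (Fin.ext h))
    · omega
    · omega
    · exact congrArg Sum.inr (hf (Fin.ext (by omega)))
  have hc := card_image_iff.2 ha
  have hdet := det_cell (K := K) e e a f (fun i => by simp [a, e]) (fun j => by simp [a, e])
  rw [Equiv.symm_trans_self, Equiv.Perm.sign_refl, Units.val_one, Int.cast_one, one_mul,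
    ← aeval_coord (K := K) (cellMatrix K d r) a, coord, dif_pos hc] at hdet
  refine ⟨sortIdx d (d + r) a hc, invCount d (d + r) a, ?_, ?_, fun x => ?_⟩
  · have hg' : ((genMatrix K r d).submatrix f fun j => e (Sum.inr j)) =
        (genMatrix K r d).submatrix f g := by
      congr 1
    rw [← hg', ← hdet]
    simp [cellMinor]
  · obtain ⟨π, hπ⟩ := exists_sortIdx_perm hc
    have : (Finset.univ.filter fun i => d ≤ (a i).val).card = t := by
      rw [show (Finset.univ.filter fun i => d ≤ (a i).val) = Finset.univ.image (fun j => e (Sum.inr j)) by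
        ext i
        obtain ⟨x, rfl⟩ := e.surjective i
        rcases x with c | j <;> simp [a]]
      rw [Finset.card_image_of_injective _ (fun x y h => Sum.inr_injective (e.injective h)), Finset.card_fin]
    rw [← this]
    refine (Finset.card_bij (fun i _ => π i) ?_ ?_ ?_).symm
    · intro i hi
      refine Finset.mem_filter.2 ⟨Finset.mem_univ _, ?_⟩
      have := (Finset.mem_filter.1 hi).2
      rwa [hπ] at this
    · intro i _ j _ h; exact π.injective h
    · intro i hi
      refine ⟨π.symm i, Finset.mem_filter.2 ⟨Finset.mem_univ _, ?_⟩, by simp⟩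
      rw [hπ]; simpa using (Finset.mem_filter.1 hi).2
  · obtain ⟨π, hπ⟩ := exists_sortIdx_perm hc
    constructor
    · rintro ⟨i, rfl⟩
      have hi : (sortIdx d (d + r) a hc).1 i = a (π.symm i) := by
        conv_rhs => rw [hπ]
        simp
      rw [hi]
      obtain ⟨y, hy⟩ := e.surjective (π.symm i)
      rw [← hy]
      rcases y with c | j
      · exact Or.inl ⟨c.1, c.2, by simp [a]⟩
      · exact Or.inr ⟨j, by simp [a]⟩
    · rintro (⟨c, hc', rfl⟩ | ⟨j, rfl⟩)
      · exact ⟨π (e (Sum.inl ⟨c, hc'⟩)), (congrFun hπ _).symm.trans (by simp [a])⟩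
      · exact ⟨π (e (Sum.inr j)), (congrFun hπ _).symm.trans (by simp [a])⟩

theorem span_cellMinor (hd : 0 < d) {t : ℕ} (ht : 0 < t) (htd : t ≤ d) :
    Ideal.span {f : CellRing K d r | ∃ θ : Idx d (d + r),
        d ≤ (θ.1 ⟨d - t, Nat.sub_lt hd ht⟩).val ∧ f = cellMinor K d r θ} =
      CAlgX.minorIdeal (genMatrix K r d) t := by
  classical
  refine le_antisymm (Ideal.span_le.2 ?_) (Ideal.span_le.2 ?_)
  · rintro _ ⟨θ, h, rfl⟩
    exact cellMinor_mem θ ht hd htd h
  · rintro _ ⟨⟨f, g⟩, rfl⟩
    show ((genMatrix K r d).submatrix f g).det ∈ Ideal.span _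
    by_cases hf : Function.Injective f
    swap
    · simp only [Function.Injective, not_forall] at hf
      obtain ⟨x, y, hxy, hne⟩ := hf
      rw [Matrix.det_zero_of_row_eq hne (funext fun j => by simp [hxy])]
      exact zero_mem _
    by_cases hg : Function.Injective g
    swap
    · simp only [Function.Injective, not_forall] at hg
      obtain ⟨x, y, hxy, hne⟩ := hg
      rw [Matrix.det_zero_of_column_eq hne (fun j => by simp [hxy])]
      exact zero_mem _
    obtain ⟨θ, z, e, hcard, -⟩ := exists_cellMinor (K := K) t f g hf hg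
    rw [e]
    refine Ideal.mul_mem_left _ _ (Ideal.subset_span ⟨θ, ?_, rfl⟩)
    by_contra hlt
    have hsub : (Finset.univ.filter fun i => d ≤ (θ.1 i).val) ⊆ Finset.Ioi ⟨d - t, Nat.sub_lt hd ht⟩ := by
      intro i hi
      rw [Finset.mem_Ioi]
      by_contra hle
      have := Fin.le_def.1 (θ.2.monotone (not_lt.1 hle))
      have := (Finset.mem_filter.1 hi).2
      omega
    have := Finset.card_le_card hsub
    rw [hcard, Fin.card_Ioi] at this
    simp at this
    omega

end Groth.Agent.SMT
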