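import Groth.Agent.Lib.SMT.GradedDepth
import Mathlib.RingTheory.Nullstellensatz
import Mathlib.RingTheory.MvPolynomial.Homogeneous
import Mathlib.GroupTheory.CosetCover

/-!
# A cone is Cohen–Macaulay when it is so at its vertex
-/

namespace Groth.Agent.SMT

open DirectSum

universe u

section Graded

variable {K : Type u} [Field K] {A : Type u} [CommRing A] [Algebra K A] (𝒜 : ℕ → Submodule K A) [GradedAlgebra 𝒜]

local notation "M₊" => HomogeneousIdeal.toIdeal (HomogeneousIdeal.irrelevant 𝒜)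

theorem mem_of_mul_mem_of_notMem (h0 : ∀ a ∈ 𝒜 0, ∃ c : K, algebraMap K A c = a) {I : Ideal A}
    (hI : I.IsHomogeneous 𝒜) {f s : A} (hs : s ∉ M₊) (hfs : s * f ∈ I) : f ∈ I := by
  classical
  obtain ⟨c, hc⟩ := h0 _ (decompose 𝒜 s 0).2
  have hc0 : c ≠ 0 := fun h => hs ((HomogeneousIdeal.mem_irrelevant_iff 𝒜 _).2 (by
    rw [GradedRing.proj_apply, ← hc, h, map_zero]))
  set g := 1 - algebraMap K A c⁻¹ * s with hgdef
  have hg : (decompose 𝒜 g 0 : A) = 0 := by
    rw [hgdef, ← GradedRing.proj_apply, map_sub, GradedRing.proj_apply, GradedRing.proj_apply,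
      decompose_of_mem_same 𝒜 (SetLike.one_mem_graded 𝒜),
      coe_decompose_mul_of_left_mem 𝒜 0 (SetLike.algebraMap_mem_graded 𝒜 c⁻¹), if_pos le_rfl, Nat.sub_zero,
      ← hc, ← map_mul, inv_mul_cancel₀ hc0, map_one, sub_self]
  have hgf : f - g * f ∈ I := by
    rw [hgdef, sub_mul, one_mul, sub_sub_cancel, mul_assoc]
    exact I.mul_mem_left _ hfs
  suffices h : ∀ n, (decompose 𝒜 f n : A) ∈ I by
    rw [← sum_support_decompose 𝒜 f]; exact sum_mem fun n _ => h n
  intro n
  induction n using Nat.strong_induction_on with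
  | _ n ih =>
    have h1 := hI n hgf
    rw [← GradedRing.proj_apply, map_sub, GradedRing.proj_apply] at h1
    suffices h2 : (GradedRing.proj 𝒜 n) (g * f) ∈ I by simpa using I.add_mem h1 h2
    conv in g * f => rw [← sum_support_decompose 𝒜 f, Finset.mul_sum]
    rw [map_sum]
    refine sum_mem fun j _ => ?_
    rcases lt_or_ge j n with hj | hj
    · exact hI n (I.mul_mem_left g (ih j hj))
    · rw [GradedRing.proj_apply, coe_decompose_mul_of_right_mem 𝒜 n (decompose 𝒜 f j).2]
      split_ifs with hle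
      · obtain rfl : j = n := le_antisymm hle hj
        rw [Nat.sub_self, hg, zero_mul]; exact zero_mem _
      · exact zero_mem _

theorem le_ringKrullDim_of_associated [IsNoetherianRing A] (h0 : ∀ a ∈ 𝒜 0, ∃ c : K, algebraMap K A c = a)
    {I : Ideal A} (hI : I.IsHomogeneous 𝒜) {e : ℕ} (he : (e : ℕ∞) ≤ LocCoh.idealDepth M₊ (A ⧸ I))
    [hM : (M₊).IsMaximal] {q : Ideal A} (hq : q ∈ associatedPrimes A (A ⧸ I)) :
    (e : WithBot ℕ∞) ≤ ringKrullDim (A ⧸ q) := by
  haveI := IsAssociatedPrime.isPrime hq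
  obtain ⟨-, x, hx⟩ := isAssociatedPrime_iff.1 hq
  obtain ⟨f, rfl⟩ := Ideal.Quotient.mk_surjective x
  have hmem : ∀ r, r ∈ q ↔ r * f ∈ I := fun r => by
    rw [hx]
    simp only [Submodule.mem_colon_singleton, Submodule.mem_bot]
    exact Ideal.Quotient.eq_zero_iff_mem
  have hqM : q ≤ M₊ := by
    intro r hr
    by_contra hn
    have hf := mem_of_mul_mem_of_notMem 𝒜 h0 hI hn ((hmem r).1 hr)
    exact (IsAssociatedPrime.isPrime hq).ne_top ((Ideal.eq_top_iff_one _).2 ((hmem 1).2 (by rw [one_mul]; exact hf)))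
  set L := Localization.AtPrime M₊
  have hd : Disjoint ((M₊).primeCompl : Set A) (q : Set A) :=
    Set.disjoint_left.2 fun r hr hrq => hr (hqM hrq)
  have hcomap : (q.map (algebraMap A L)).comap (algebraMap A L) = q := by
    rw [← Ideal.under_def]
    exact IsLocalization.under_map_of_isPrime_disjoint (M₊).primeCompl L inferInstance hd
  have hass : q.map (algebraMap A L) ∈ associatedPrimes L (LocalizedModule (M₊).primeCompl (A ⧸ I)) :=
    Module.associatedPrimes.mem_associatedPrimes_of_comap_mem_associatedPrimes_of_isLocalizedModule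
      (M₊).primeCompl (LocalizedModule.mkLinearMap (M₊).primeCompl (A ⧸ I)) _ (by rw [hcomap]; exact hq)
  have h1 := (DepthLib.natCast_le_idealDepth_iff_forall_localized e).1 he ⟨M₊, hM.isPrime⟩ le_rfl
  refine (WithBot.coe_le_coe.2 h1).trans ((DepthLib.depth_le_of_mem_associatedPrimes hass).trans ?_)
  rw [ringKrullDim_quotient, ringKrullDim_quotient]
  refine Order.krullDim_le_of_strictMono
    (fun P => ⟨PrimeSpectrum.comap (algebraMap A L) P.1, fun r hr => P.2 (Ideal.mem_map_of_mem _ hr)⟩)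
    fun P P' h => ?_
  refine lt_of_le_of_ne (Ideal.comap_mono (le_of_lt h)) fun heq => (ne_of_lt h) (Subtype.ext (PrimeSpectrum.ext ?_))
  have h2 := congrArg (fun z => Ideal.map (algebraMap A L) z.1.asIdeal) heq
  simp only [PrimeSpectrum.comap_asIdeal] at h2
  rwa [IsLocalization.map_under (M₊).primeCompl L, IsLocalization.map_under (M₊).primeCompl L] at h2

end Graded

attribute [local instance] MvPolynomial.gradedAlgebra

variable {K : Type u} [Field K] {N : ℕ}

local notation "𝒮" => MvPolynomial.homogeneousSubmodule (Fin N) K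

theorem decompose_mvPolynomial (p : MvPolynomial (Fin N) K) (i : ℕ) :
    (decompose 𝒮 p i : MvPolynomial (Fin N) K) = MvPolynomial.homogeneousComponent i p :=
  MvPolynomial.decomposition.decompose'_apply p i

theorem degZero_mvPolynomial : ∀ a ∈ 𝒮 0, ∃ c : K, algebraMap K (MvPolynomial (Fin N) K) c = a := fun a ha => by
  refine ⟨a.coeff 0, ?_⟩
  rw [MvPolynomial.algebraMap_eq]
  exact (MvPolynomial.totalDegree_eq_zero_iff_eq_C.1 (Nat.le_zero.1 (MvPolynomial.IsHomogeneous.totalDegree_le ha))).symm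

theorem irrelevant_mvPolynomial : (HomogeneousIdeal.irrelevant 𝒮).toIdeal
    = RingHom.ker (MvPolynomial.constantCoeff : MvPolynomial (Fin N) K →+* K) := by
  ext p
  rw [RingHom.mem_ker]
  refine (HomogeneousIdeal.mem_irrelevant_iff 𝒮 p).trans ?_
  rw [GradedRing.proj_apply, decompose_mvPolynomial, MvPolynomial.homogeneousComponent_zero, ← MvPolynomial.C_0,
    (MvPolynomial.C_injective _ _).eq_iff, MvPolynomial.constantCoeff_eq]

theorem ringKrullDim_le_one_of_hyperplane (a : Fin N → K) {j : Fin N} (hj : a j ≠ 0)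
    {q : Ideal (MvPolynomial (Fin N) K)}
    (hq : ∀ c : Fin N → K, ∑ i, c i * a i = 0 → (∑ i, MvPolynomial.C (c i) * MvPolynomial.X i) ∈ q) :
    ringKrullDim (MvPolynomial (Fin N) K ⧸ q) ≤ ((1 : ℕ) : WithBot ℕ∞) := by
  classical
  have hX : ∀ i, Ideal.Quotient.mk q (MvPolynomial.X i)
      = Ideal.Quotient.mk q (MvPolynomial.C (a i / a j) * MvPolynomial.X j) := by
    intro i
    rw [Ideal.Quotient.eq]
    have h := hq (Pi.single i 1 - Pi.single j (a i / a j)) (by
      simp [Pi.single_apply, sub_mul, Finset.sum_sub_distrib, div_mul_cancel₀ _ hj])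
    have hterm : (∑ k, MvPolynomial.C ((Pi.single i 1 - Pi.single j (a i / a j) : Fin N → K) k) * MvPolynomial.X k)
        = MvPolynomial.X i - MvPolynomial.C (a i / a j) * MvPolynomial.X j := by
      simp [Pi.single_apply, sub_mul, Finset.sum_sub_distrib, apply_ite (MvPolynomial.C : K → _), ite_mul]
    rwa [hterm] at h
  let φ : MvPolynomial (Fin 1) K →ₐ[K] MvPolynomial (Fin N) K ⧸ q :=
    MvPolynomial.aeval fun _ => Ideal.Quotient.mk q (MvPolynomial.X j)
  have hφ : Function.Surjective φ := by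
    intro z
    obtain ⟨p, rfl⟩ := Ideal.Quotient.mk_surjective z
    induction p using MvPolynomial.induction_on with
    | C c => exact ⟨MvPolynomial.C c, by rw [MvPolynomial.aeval_C]; rfl⟩
    | add p r hp hr =>
      obtain ⟨p', hp'⟩ := hp
      obtain ⟨r', hr'⟩ := hr
      exact ⟨p' + r', by rw [map_add, map_add, hp', hr']⟩
    | mul_X p i hp =>
      obtain ⟨p', hp'⟩ := hp
      refine ⟨p' * (MvPolynomial.C (a i / a j) * MvPolynomial.X 0), ?_⟩
      rw [map_mul, map_mul, map_mul, hp', hX i, map_mul, MvPolynomial.aeval_C, MvPolynomial.aeval_X]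
      rfl
  refine (ringKrullDim_le_of_surjective φ.toRingHom hφ).trans (le_of_eq ?_)
  exact VarDim.ringKrullDim_mvPolynomial K 1

theorem allDepth_of_vertex [IsAlgClosed K] : ∀ (e : ℕ) (I : Ideal (MvPolynomial (Fin N) K)),
    I.IsHomogeneous 𝒮 → (e : ℕ∞) ≤ LocCoh.idealDepth (HomogeneousIdeal.irrelevant 𝒮).toIdeal
      (MvPolynomial (Fin N) K ⧸ I) → AllDepth I e := by
  classical
  intro e
  induction e with
  | zero => intro I _ _ m _; simp
  | succ e ih =>
    intro I hI hd m hm
    haveI hMmax := isMaximal_irrelevant 𝒮 (degZero_mvPolynomial (K := K) (N := N))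
    by_cases hmM : m = (HomogeneousIdeal.irrelevant 𝒮).toIdeal
    · rw [hmM]; exact hd
    by_cases hIm : I ≤ m
    swap
    · rw [idealDepth_quotient_eq_top (hm.1.2 _ (lt_of_le_of_ne le_sup_left fun h => hIm (h ▸ le_sup_right)))]
      exact le_top
    obtain ⟨a, ha⟩ := (MvPolynomial.isMaximal_iff_eq_vanishingIdeal_singleton (K := K)).1 hm
    have hmem : ∀ p, p ∈ m ↔ MvPolynomial.aeval a p = 0 := fun p => by
      rw [ha, MvPolynomial.mem_vanishingIdeal_singleton_iff]
    obtain ⟨j, hj⟩ : ∃ j, a j ≠ 0 := by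
      by_contra hcon
      push Not at hcon
      refine hmM (hm.eq_of_le hMmax.ne_top fun p hp => ?_)
      rw [irrelevant_mvPolynomial, RingHom.mem_ker]
      have h := (hmem p).1 hp
      rwa [show a = fun _ => 0 from funext hcon, MvPolynomial.aeval_zero', Algebra.algebraMap_self,
        RingHom.id_apply] at h
    let lin : (Fin N → K) →ₗ[K] MvPolynomial (Fin N) K :=
      ∑ i, (LinearMap.proj i : (Fin N → K) →ₗ[K] K).smulRight (MvPolynomial.X i)
    have hlin : ∀ c, lin c = ∑ i, MvPolynomial.C (c i) * MvPolynomial.X i := fun c => by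
      simp [lin, MvPolynomial.smul_eq_C_mul]
    let H : Submodule K (Fin N → K) :=
      LinearMap.ker (∑ i, a i • (LinearMap.proj i : (Fin N → K) →ₗ[K] K))
    have hH : ∀ c, c ∈ H ↔ ∑ i, c i * a i = 0 := fun c => by
      simp [H, mul_comm]
    have hlm : ∀ c ∈ H, lin c ∈ m := fun c hc => by
      rw [hmem, hlin]
      simpa using (hH c).1 hc
    rcases Nat.eq_zero_or_pos e with rfl | hepos
    · -- depth one: the point is not an embedded component
      by_contra hlt
      have hno : ∀ r ∈ m, ¬ IsSMulRegular (MvPolynomial (Fin N) K ⧸ I) r := fun r hr hreg =>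
        hlt (by exact_mod_cast DepthLib.one_le_idealDepth_of_regular hr hreg)
      obtain ⟨q, hq, hle⟩ := DepthLib.exists_associatedPrime_ge hno
      obtain rfl := hm.eq_of_le (IsAssociatedPrime.isPrime hq).ne_top hle
      have h1 := le_ringKrullDim_of_associated 𝒮 degZero_mvPolynomial hI hd hq
      letI := Ideal.Quotient.field m
      rw [ringKrullDim_eq_zero_of_field] at h1
      have h2 : ((1 : ℕ) : WithBot ℕ∞) ≤ ((0 : ℕ) : WithBot ℕ∞) := h1
      rw [Nat.cast_le] at h2
      omega
    -- depth at least two: cut by a linear form through the point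
    obtain ⟨c, hc, hcq⟩ : ∃ c ∈ H, ∀ q ∈ associatedPrimes (MvPolynomial (Fin N) K) (MvPolynomial (Fin N) K ⧸ I),
        lin c ∉ q := by
      let S : Set (Submodule K H) := (fun q : Ideal (MvPolynomial (Fin N) K) =>
        (q.restrictScalars K).comap (lin.comp H.subtype)) '' associatedPrimes _ (MvPolynomial (Fin N) K ⧸ I)
      have hSfin : S.Finite := (associatedPrimes.finite _ _).image _
      haveI : Infinite K := IsAlgClosed.instInfinite
      have htop : (⊤ : Submodule K H) ∉ S := by
        rintro ⟨q, hq, htop⟩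
        have h1 := le_ringKrullDim_of_associated 𝒮 degZero_mvPolynomial hI hd hq
        have h2 := ringKrullDim_le_one_of_hyperplane a hj (q := q) fun c hc => by
          have h3 : (⟨c, (hH c).2 hc⟩ : H) ∈ (q.restrictScalars K).comap (lin.comp H.subtype) := by
            exact htop.ge trivial
          rw [← hlin]; exact h3
        have h3 : ((e + 1 : ℕ) : WithBot ℕ∞) ≤ ((1 : ℕ) : WithBot ℕ∞) := h1.trans h2
        rw [Nat.cast_le] at h3
        omega
      have hne := Subspace.biUnion_ne_univ_of_top_notMem (k := K) (s := hSfin.toFinset)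
        (fun h => htop (hSfin.mem_toFinset.1 h))
      obtain ⟨c, hc⟩ := (Set.ne_univ_iff_exists_notMem _).1 hne
      exact ⟨c.1, c.2, fun q hq hmem' =>
        hc (Set.mem_biUnion (hSfin.mem_toFinset.2 ⟨q, hq, rfl⟩) hmem')⟩
    have hreg : IsSMulRegular (MvPolynomial (Fin N) K ⧸ I) (lin c) := by
      have h := biUnion_associatedPrimes_eq_compl_regular (MvPolynomial (Fin N) K) (MvPolynomial (Fin N) K ⧸ I)
      by_contra hn
      have h2 : lin c ∈ ⋃ p ∈ associatedPrimes (MvPolynomial (Fin N) K) (MvPolynomial (Fin N) K ⧸ I),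
          (p : Set (MvPolynomial (Fin N) K)) := by rw [h]; exact hn
      obtain ⟨q, hq, hcm⟩ := Set.mem_iUnion₂.1 h2
      exact hcq q hq hcm
    have hlin1 : lin c ∈ 𝒮 1 := by
      rw [hlin]
      exact sum_mem fun i _ => MvPolynomial.isHomogeneous_C_mul_X _ _
    have hI' : (I ⊔ Ideal.span {lin c}).IsHomogeneous 𝒮 :=
      hI.sup (Ideal.homogeneous_span 𝒮 _ (by rintro x rfl; exact ⟨1, hlin1⟩))
    have hcM : lin c ∈ (HomogeneousIdeal.irrelevant 𝒮).toIdeal :=
      HomogeneousIdeal.mem_irrelevant_of_mem 𝒮 Nat.one_pos hlin1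
    rw [← idealDepth_sup_span_add_one hcM hreg, Nat.cast_succ, ENat.add_le_add_iff_right ENat.one_ne_top] at hd
    rw [← idealDepth_sup_span_add_one (hlm c hc) hreg, Nat.cast_succ]
    gcongr
    exact ih _ hI' hd m hm

theorem isCM_of_vertex [IsAlgClosed K] {I : Ideal (MvPolynomial (Fin N) K)} (hI : I.IsHomogeneous 𝒮) (hne : I ≠ ⊤)
    [hmax : ((HomogeneousIdeal.irrelevant 𝒮).toIdeal.map (Ideal.Quotient.mk I)).IsPrime]
    (h : LocCoh.IsCohenMacaulayLocalRing
      (Localization.AtPrime ((HomogeneousIdeal.irrelevant 𝒮).toIdeal.map (Ideal.Quotient.mk I)))) :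
    LocCoh.IsCohenMacaulayRing (MvPolynomial (Fin N) K ⧸ I) := by
  set n := (HomogeneousIdeal.irrelevant 𝒮).toIdeal.map (Ideal.Quotient.mk I)
  haveI hMmax := isMaximal_irrelevant 𝒮 (degZero_mvPolynomial (K := K) (N := N))
  have hn : n.IsMaximal := (Ideal.map_eq_top_or_isMaximal_of_surjective _ Ideal.Quotient.mk_surjective hMmax).resolve_left hmax.ne_top
  have hle := ringKrullDim_quotient_le_height 𝒮 degZero_mvPolynomial hI hne
  obtain ⟨e, he⟩ := DepthLib.exists_depth_eq_natCast (R := Localization.AtPrime n) (M := Localization.AtPrime n)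
  have h1 : ringKrullDim (MvPolynomial (Fin N) K ⧸ I) ≤ (e : WithBot ℕ∞) := by
    refine hle.trans ?_
    rw [← IsLocalization.AtPrime.ringKrullDim_eq_height n (Localization.AtPrime n),
      ← Module.supportDim_self_eq_ringKrullDim, h.supportDim_eq_depth, he]
    exact le_rfl
  refine (allDepth_of_vertex e I hI ?_).isCM h1
  rw [← GorenLib.idealDepth_map_of_surjective (A := MvPolynomial (Fin N) K) (B := MvPolynomial (Fin N) K ⧸ I)
    Ideal.Quotient.mk_surjective, Ideal.Quotient.algebraMap_eq, DepthLib.natCast_le_idealDepth_iff_forall_localized]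
  intro q hq
  obtain rfl : q = ⟨n, hn.isPrime⟩ := PrimeSpectrum.ext (hn.eq_of_le q.2.ne_top hq).symm
  rw [DepthLib.depth_localizedModule_self, he]

end Groth.Agent.SMT
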