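import Groth.Agent.Lib.SMT.Expansion
import Mathlib.RingTheory.Polynomial.Basic
import Mathlib.Algebra.Algebra.Subalgebra.Basic
import Mathlib.Algebra.Polynomial.AlgebraMap
import Mathlib.LinearAlgebra.FreeModule.Basic

/-!
# Weighted degenerations of Schubert varieties
-/

namespace Groth.Agent.SMT

open W4bk4grassmannian

attribute [local instance] Polynomial.algebra

universe u

variable {K : Type u} [Field K] [Infinite K] {d n : ℕ} (hd : 0 < d) (w : Idx d n) (v : Idx d n → ℕ)

local notation "A'" => (PlRing K d n ⧸ schubertVanishing K d n w)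

instance (B : Type u) [CommRing B] [Algebra K B] : IsScalarTower K (Polynomial K) (Polynomial B) :=
  IsScalarTower.of_algebraMap_eq fun r => by
    show algebraMap K (Polynomial B) r = (algebraMap K (Polynomial K) r).map (algebraMap K B)
    simp [Polynomial.algebraMap_apply]

/-- Total weight. -/
def vsum (t : Multiset (Idx d n)) : ℕ := (t.map v).sum

variable (K) in
/-- Expansions never increase the weight. -/
def WeightLE : Prop := ∀ (s : Multiset (Idx d n)) (t : CMS w),
  (stdBasis K hd w).repr (Ideal.Quotient.mk _ (mX K s)) t ≠ 0 → vsum v t.1 ≤ vsum v s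

variable (K) in
/-- The weighted monomial `T^{v(t)} x^t`. -/
noncomputable def U (t : Multiset (Idx d n)) : Polynomial A' :=
  Polynomial.C (Ideal.Quotient.mk (schubertVanishing K d n w) (mX K t)) * Polynomial.X ^ vsum v t

theorem smul_eq_algebraMap (r : K) (x : A') : r • x = algebraMap K A' r * x := Algebra.smul_def r x

theorem U_zero : U K w v 0 = 1 := by simp [U, vsum, mX]

theorem U_add (s t : Multiset (Idx d n)) : U K w v (s + t) = U K w v s * U K w v t := by
  simp only [U, vsum, mX, Multiset.map_add, Multiset.sum_add, Multiset.prod_add, map_mul, pow_add]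
  ring

theorem smul_U_eq (p : Polynomial K) (t : Multiset (Idx d n)) :
    p • U K w v t = p.map (algebraMap K A') * U K w v t := Algebra.smul_def p _

theorem coeff_smul_U (p : Polynomial K) (t : CMS w) (j : ℕ) :
    (stdBasis K hd w).repr ((p • U K w v t.1).coeff (j + vsum v t.1)) t = p.coeff j := by
  have h : (p • U K w v t.1).coeff (j + vsum v t.1) = p.coeff j • stdBasis K hd w t := by
    rw [smul_U_eq, U, ← mul_assoc, Polynomial.coeff_mul_X_pow, Polynomial.coeff_mul_C,
      Polynomial.coeff_map, stdBasis_apply, smul_eq_algebraMap]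
  rw [h, map_smul, Module.Basis.repr_self, Finsupp.smul_single, smul_eq_mul, mul_one,
    Finsupp.single_eq_same]

theorem coeff_smul_U_other (p : Polynomial K) {t t' : CMS w} (h : t ≠ t') (j : ℕ) :
    (stdBasis K hd w).repr ((p • U K w v t.1).coeff j) t' = 0 := by
  rw [smul_U_eq, U, ← mul_assoc, Polynomial.coeff_mul_X_pow']
  split_ifs
  · rw [Polynomial.coeff_mul_C, Polynomial.coeff_map, ← smul_eq_algebraMap, ← stdBasis_apply K hd w t,
      map_smul, Module.Basis.repr_self, Finsupp.smul_single, Finsupp.single_eq_of_ne h.symm]
  · simp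

include hd in
theorem linearIndependent_U :
    LinearIndependent (Polynomial K) (fun t : CMS w => U K w v t.1) := by
  classical
  rw [linearIndependent_iff']
  intro s p hsum t ht'
  ext j
  have h := congrArg (fun q : Polynomial A' => (stdBasis K hd w).repr (q.coeff (j + vsum v t.1)) t) hsum
  simp only [Polynomial.finsetSum_coeff, map_sum, Finsupp.finsetSum_apply, Polynomial.coeff_zero,
    map_zero, Finsupp.zero_apply] at h
  rw [Finset.sum_eq_single t (fun t' _ hne => coeff_smul_U_other hd w v _ hne _)
    (fun hn => absurd ht' hn), coeff_smul_U] at h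
  simp [h]

/-- An element of `A[T]` of the shape `y T^D` with small weights is in the span. -/
theorem C_mul_X_pow_mem (y : A') (D : ℕ) (hy : ∀ t, (stdBasis K hd w).repr y t ≠ 0 → vsum v t.1 ≤ D) :
    Polynomial.C y * Polynomial.X ^ D ∈
      Submodule.span (Polynomial K) (Set.range fun t : CMS w => U K w v t.1) := by
  classical
  conv => arg 2; rw [← (stdBasis K hd w).linearCombination_repr y]
  rw [Finsupp.linearCombination_apply, Finsupp.sum, map_sum, Finset.sum_mul]
  refine Submodule.sum_mem _ fun t ht' => ?_
  obtain ⟨e, he⟩ := Nat.exists_eq_add_of_le (hy t (Finsupp.mem_support_iff.1 ht'))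
  have : Polynomial.C ((stdBasis K hd w).repr y t • stdBasis K hd w t) * Polynomial.X ^ D =
      (Polynomial.C ((stdBasis K hd w).repr y t) * Polynomial.X ^ e : Polynomial K) • U K w v t.1 := by
    rw [smul_U_eq, U, Polynomial.map_mul, Polynomial.map_C, Polynomial.map_pow, Polynomial.map_X, he,
      smul_eq_algebraMap, map_mul, pow_add, stdBasis_apply]
    ring
  rw [this]
  exact Submodule.smul_mem _ _ (Submodule.subset_span ⟨t, rfl⟩)

theorem U_mem (hv : WeightLE K hd w v) (s : Multiset (Idx d n)) :
    U K w v s ∈ Submodule.span (Polynomial K) (Set.range fun t : CMS w => U K w v t.1) :=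
  C_mul_X_pow_mem hd w v _ _ (hv s)

/-- The total space of the degeneration. -/
noncomputable def degRing (hv : WeightLE K hd w v) : Subalgebra (Polynomial K) (Polynomial A') :=
  (Submodule.span (Polynomial K) (Set.range fun t : CMS w => U K w v t.1)).toSubalgebra
    (by simpa [U_zero] using U_mem hd w v hv 0)
    (fun x y hx hy => by
      induction hx using Submodule.span_induction with
      | mem x hx =>
        obtain ⟨s, rfl⟩ := hx
        induction hy using Submodule.span_induction with
        | mem y hy =>
          obtain ⟨t, rfl⟩ := hy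
          rw [← U_add]
          exact U_mem hd w v hv _
        | zero => rw [mul_zero]; exact zero_mem _
        | add a b _ _ ha hb => rw [mul_add]; exact add_mem ha hb
        | smul r a _ ha => rw [mul_smul_comm]; exact Submodule.smul_mem _ r ha
      | zero => rw [zero_mul]; exact zero_mem _
      | add a b _ _ ha hb => rw [add_mul]; exact add_mem ha hb
      | smul r a _ ha => rw [smul_mul_assoc]; exact Submodule.smul_mem _ r ha)

variable (hv : WeightLE K hd w v)

noncomputable instance : CommRing (degRing hd w v hv) :=
  { (degRing hd w v hv).toRing with mul_comm := fun a b => Subtype.ext (mul_comm (a : Polynomial A') (b : Polynomial A')) }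

/-- The free basis of the total space. -/
noncomputable def degBasis : Module.Basis (CMS w) (Polynomial K) (degRing hd w v hv) :=
  Module.Basis.span (linearIndependent_U hd w v)

theorem degBasis_apply (t : CMS w) : (degBasis hd w v hv t : Polynomial A') = U K w v t.1 :=
  congrArg Subtype.val (Module.Basis.span_apply (linearIndependent_U hd w v) t)

/-- Evaluation of the parameter at `c`. -/
noncomputable def evalAt (c : K) : degRing hd w v hv →ₐ[K] A' :=
  (((Polynomial.aeval (R := A') (algebraMap K A' c)).restrictScalars K).comp
    ((degRing hd w v hv).val.restrictScalars K))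

theorem evalAt_basis (c : K) (t : CMS w) :
    evalAt hd w v hv c (degBasis hd w v hv t) = c ^ vsum v t.1 • stdBasis K hd w t := by
  show Polynomial.aeval (R := A') (algebraMap K A' c) (degBasis hd w v hv t : Polynomial A') = _
  rw [degBasis_apply, U, map_mul, Polynomial.aeval_C, map_pow, Polynomial.aeval_X, smul_eq_algebraMap,
    map_pow, stdBasis_apply, mul_comm]
  rfl

theorem evalAt_smul (c : K) (p : Polynomial K) (r : degRing hd w v hv) :
    evalAt hd w v hv c (p • r) = p.eval c • evalAt hd w v hv c r := by
  show Polynomial.aeval (R := A') (algebraMap K A' c) (p • (r : Polynomial A')) = _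
  rw [Algebra.smul_def, map_mul, smul_eq_algebraMap]
  congr 1
  show Polynomial.aeval (R := A') (algebraMap K A' c) (p.map (algebraMap K A')) = _
  rw [Polynomial.aeval_def, Polynomial.eval₂_map, Algebra.algebraMap_self, RingHom.id_comp,
    Polynomial.eval₂_at_apply]

theorem mem_span_X_sub_C_of_coeff {c : K} (r : degRing hd w v hv)
    (h : ∀ t, ((degBasis hd w v hv).repr r t).eval c = 0) :
    r ∈ Ideal.span {algebraMap (Polynomial K) (degRing hd w v hv) (Polynomial.X - Polynomial.C c)} := by
  classical
  rw [← (degBasis hd w v hv).linearCombination_repr r, Finsupp.linearCombination_apply, Finsupp.sum]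
  refine Ideal.sum_mem _ fun t _ => ?_
  obtain ⟨q, hq⟩ := Polynomial.dvd_iff_isRoot.2 (h t)
  rw [hq, mul_smul, Algebra.smul_def]
  exact Ideal.mem_span_singleton'.2 ⟨_, mul_comm _ _⟩

/-- The fibre at `c ≠ 0` is the original ring. -/
theorem nonempty_fibre {c : K} (hc : c ≠ 0) :
    Nonempty ((degRing hd w v hv ⧸ Ideal.span
      {algebraMap (Polynomial K) (degRing hd w v hv) (Polynomial.X - Polynomial.C c)}) ≃ₐ[K] A') := by
  classical
  have hsurj : Function.Surjective (evalAt hd w v hv c) := by
    intro y
    have hy : y ∈ LinearMap.range (evalAt hd w v hv c).toLinearMap := by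
      have hspan := (stdBasis K hd w).mem_span y
      refine Submodule.span_le.2 ?_ hspan
      rintro _ ⟨t, rfl⟩
      refine ⟨(c ^ vsum v t.1)⁻¹ • degBasis hd w v hv t, ?_⟩
      show evalAt hd w v hv c _ = _
      rw [map_smul, evalAt_basis, smul_smul, inv_mul_cancel₀ (pow_ne_zero _ hc), one_smul]
    exact hy
  have hker : RingHom.ker (evalAt hd w v hv c) = Ideal.span
      {algebraMap (Polynomial K) (degRing hd w v hv) (Polynomial.X - Polynomial.C c)} := by
    refine le_antisymm (fun r hr => mem_span_X_sub_C_of_coeff hd w v hv r fun t => ?_) ?_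
    · rw [RingHom.mem_ker] at hr
      rw [← (degBasis hd w v hv).linearCombination_repr r, Finsupp.linearCombination_apply, Finsupp.sum,
        map_sum] at hr
      simp only [evalAt_smul, evalAt_basis, smul_smul] at hr
      by_cases ht' : t ∈ ((degBasis hd w v hv).repr r).support
      · have := linearIndependent_iff'.1 (stdBasis K hd w).linearIndependent _ _ hr t ht'
        exact (mul_eq_zero.1 this).resolve_right (pow_ne_zero _ hc)
      · simp [Finsupp.notMem_support_iff.1 ht']
    · rw [Ideal.span_singleton_le_iff_mem, RingHom.mem_ker, Algebra.algebraMap_eq_smul_one, evalAt_smul]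
      simp
  exact ⟨(Ideal.quotientEquivAlgOfEq K hker.symm).trans
    (Ideal.quotientKerAlgEquivOfSurjective hsurj)⟩

/-- The chart of the special fibre. -/
noncomputable def genMap : MvPolynomial (Below w) K →ₐ[K] degRing hd w v hv :=
  MvPolynomial.aeval fun θ => (⟨U K w v {θ.1}, U_mem hd w v hv _⟩ : degRing hd w v hv)

theorem genMap_prod (s : Multiset (Below w)) :
    (genMap hd w v hv (s.map MvPolynomial.X).prod : Polynomial A') = U K w v (s.map Subtype.val) := by
  induction s using Multiset.induction with
  | empty => simp [U_zero]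
  | cons a s ih =>
    rw [Multiset.map_cons, Multiset.prod_cons, Multiset.map_cons, ← Multiset.singleton_add, map_mul,
      Subalgebra.coe_mul, U_add, ih]
    simp [genMap]

/-- A weighted product drops into the special fibre's ideal when all weights drop. -/
theorem sub_mem_span_X {x : degRing hd w v hv} {y : A'} {D : ℕ}
    (hx : (x : Polynomial A') = Polynomial.C y * Polynomial.X ^ D)
    (hy : ∀ t, (stdBasis K hd w).repr y t ≠ 0 → vsum v t.1 < D) :
    x ∈ Ideal.span {algebraMap (Polynomial K) (degRing hd w v hv) Polynomial.X} := by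
  classical
  rcases D with _ | D
  · have : y = 0 := (stdBasis K hd w).repr.injective (Finsupp.ext fun t => by
      by_contra h; simp at h; exact absurd (hy t h) (Nat.not_lt_zero _))
    have hx0 : x = 0 := Subtype.ext (by rw [hx, this]; simp)
    rw [hx0]; exact zero_mem _
  · refine Ideal.mem_span_singleton'.2 ⟨⟨_, C_mul_X_pow_mem hd w v y D fun t h => Nat.le_of_lt_succ (hy t h)⟩, ?_⟩
    apply Subtype.ext
    rw [hx, Subalgebra.coe_mul, pow_succ, ← mul_assoc]
    congr 1
    show (Polynomial.X : Polynomial K).map (algebraMap K A') = _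
    rw [Polynomial.map_X]

/-- A lift of a chain below `w`. -/
def liftCMS {w : Idx d n} (t : CMS w) : Multiset (Below w) :=
  t.1.attach.map fun a => ⟨a.1, t.2.2 a.1 a.2⟩

theorem map_val_liftCMS {w : Idx d n} (t : CMS w) : (liftCMS t).map Subtype.val = t.1 := by
  simp [liftCMS, Multiset.map_map, Function.comp_def]

theorem quot_span {w : Idx d n} (I : Ideal (MvPolynomial (Below w) K))
    (hst : HasStraightening (fun a : Below w => ht a.1)
      (fun a => Ideal.Quotient.mk I (MvPolynomial.X a)) K)
    (x : MvPolynomial (Below w) K ⧸ I) :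
    x ∈ Submodule.span K
      (Set.range fun t : CMS w => Ideal.Quotient.mk I ((liftCMS t).map MvPolynomial.X).prod) := by
  classical
  obtain ⟨p, rfl⟩ := Ideal.Quotient.mk_surjective x
  induction p using MvPolynomial.induction_on' with
  | add p q hp hq => rw [map_add]; exact add_mem hp hq
  | monomial m r =>
    rw [show MvPolynomial.monomial m r = r • (MvPolynomial.monomial m (1 : K)) by
        rw [MvPolynomial.smul_monomial, smul_eq_mul, mul_one],
      show Ideal.Quotient.mk I (r • MvPolynomial.monomial m (1 : K)) =
        r • Ideal.Quotient.mk I (MvPolynomial.monomial m (1 : K)) from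
        map_smul (Ideal.Quotient.mkₐ K I) r _]
    refine Submodule.smul_mem _ _ ?_
    have hm : Ideal.Quotient.mk I (MvPolynomial.monomial m (1 : K)) =
        ((Finsupp.toMultiset m).map fun a => Ideal.Quotient.mk I (MvPolynomial.X a)).prod := by
      rw [MvPolynomial.monomial_eq, MvPolynomial.C_1, one_mul, Finsupp.prod, map_prod,
        Finset.prod_multiset_map_count, Finsupp.toFinset_toMultiset]
      exact Finset.prod_congr rfl fun θ _ => by rw [map_pow, Finsupp.count_toMultiset]
    rw [hm]
    refine Submodule.span_le.2 ?_ (prod_mem_span_chains _ _ hst (Finsupp.toMultiset m))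
    rintro _ ⟨t, hc, _, _, rfl⟩
    refine Submodule.subset_span ⟨⟨t.map Subtype.val, ?_, ?_⟩, ?_⟩
    · intro a ha b hb
      obtain ⟨a', ha', rfl⟩ := Multiset.mem_map.1 ha
      obtain ⟨b', hb', rfl⟩ := Multiset.mem_map.1 hb
      exact hc a' ha' b' hb'
    · intro a ha
      obtain ⟨a', _, rfl⟩ := Multiset.mem_map.1 ha
      exact a'.2
    · show Ideal.Quotient.mk I _ = _
      rw [map_multiset_prod, Multiset.map_map]
      congr 1
      refine congrArg (Multiset.map fun a => Ideal.Quotient.mk I (MvPolynomial.X a)) ?_
      apply Multiset.map_injective (Subtype.val_injective)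
      rw [map_val_liftCMS]

/-- The special fibre is the combinatorial ring `I` prescribes. -/
theorem nonempty_special (I : Ideal (MvPolynomial (Below w) K))
    (hI : ∀ f ∈ I, genMap hd w v hv f ∈
      Ideal.span {algebraMap (Polynomial K) (degRing hd w v hv) Polynomial.X})
    (hst : HasStraightening (fun a : Below w => ht a.1)
      (fun a => Ideal.Quotient.mk I (MvPolynomial.X a)) K) :
    Nonempty ((degRing hd w v hv ⧸ Ideal.span
      {algebraMap (Polynomial K) (degRing hd w v hv) Polynomial.X}) ≃ₐ[K]
        (MvPolynomial (Below w) K ⧸ I)) := by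
  classical
  set P := Ideal.span {algebraMap (Polynomial K) (degRing hd w v hv) Polynomial.X} with hP
  let ψ : (MvPolynomial (Below w) K ⧸ I) →ₐ[K] (degRing hd w v hv ⧸ P) :=
    Ideal.Quotient.liftₐ I ((Ideal.Quotient.mkₐ K P).comp (genMap hd w v hv))
      fun f hf => Ideal.Quotient.eq_zero_iff_mem.2 (hI f hf)
  have hlift : ∀ t : CMS w, (liftCMS t).map Subtype.val = t.1 := map_val_liftCMS
  have hψ : ∀ t, ψ (Ideal.Quotient.mk I ((liftCMS t).map MvPolynomial.X).prod) =
      Ideal.Quotient.mk P (degBasis hd w v hv t) := by
    intro t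
    show Ideal.Quotient.mk P (genMap hd w v hv _) = _
    congr 1
    exact Subtype.ext (by rw [genMap_prod, hlift, degBasis_apply])
  have hbij : Function.Bijective ψ := by
    constructor
    · refine (injective_iff_map_eq_zero ψ).2 fun x hx => ?_
      have hspan := quot_span I hst x
      obtain ⟨l, rfl⟩ := Finsupp.mem_span_range_iff_exists_finsupp.1 hspan
      rw [Finsupp.sum, map_sum] at hx
      simp only [map_smul, hψ] at hx
      have hx' : (∑ t ∈ l.support, (Polynomial.C (l t)) • degBasis hd w v hv t) ∈ P := by
        rw [← Ideal.Quotient.eq_zero_iff_mem, map_sum, ← hx]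
        refine Finset.sum_congr rfl fun t _ => ?_
        rw [show l t • Ideal.Quotient.mk P (degBasis hd w v hv t) =
          Ideal.Quotient.mk P (l t • degBasis hd w v hv t) from (map_smul (Ideal.Quotient.mkₐ K P) _ _).symm]
        congr 1
        apply Subtype.ext
        show Polynomial.C (l t) • (degBasis hd w v hv t : Polynomial A') = l t • (degBasis hd w v hv t : Polynomial A')
        rw [Algebra.smul_def, Algebra.smul_def]
        congr 1
        exact Polynomial.map_C _
      obtain ⟨r, hr⟩ := Ideal.mem_span_singleton'.1 hx'
      have hl : l = 0 := by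
        ext t
        by_cases ht' : t ∈ l.support
        · have h1 := congrArg (fun z => (degBasis hd w v hv).repr z t) hr
          simp only [map_sum, map_smul, Module.Basis.repr_self, Finsupp.finsetSum_apply,
            Finsupp.smul_single, smul_eq_mul, mul_one] at h1
          rw [Finset.sum_eq_single t (fun s _ hs => Finsupp.single_eq_of_ne hs.symm)
            (fun h => absurd ht' h), Finsupp.single_eq_same, mul_comm r, ← Algebra.smul_def,
            map_smul, Finsupp.smul_apply, smul_eq_mul] at h1
          have h2 := congrArg (fun p : Polynomial K => p.coeff 0) h1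
          simpa using h2.symm
        · simpa using ht'
      simp [hl]
    · intro y
      obtain ⟨r, rfl⟩ := Ideal.Quotient.mk_surjective y
      have : (Ideal.Quotient.mkₐ K P) r ∈ ψ.toLinearMap.range := by
        rw [← (degBasis hd w v hv).linearCombination_repr r, Finsupp.linearCombination_apply,
          Finsupp.sum, map_sum]
        refine Submodule.sum_mem _ fun t _ => ?_
        refine ⟨((degBasis hd w v hv).repr r t).eval 0 • Ideal.Quotient.mk I ((liftCMS t).map MvPolynomial.X).prod, ?_⟩
        rw [AlgHom.toLinearMap_apply, map_smul, hψ, ← sub_eq_zero, ← Ideal.Quotient.mkₐ_eq_mk K, ← map_smul, ← map_sub,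
          Ideal.Quotient.mkₐ_eq_mk, Ideal.Quotient.eq_zero_iff_mem]
        have h := mem_span_X_sub_C_of_coeff hd w v hv (c := 0)
          (((degBasis hd w v hv).repr r t).eval 0 • degBasis hd w v hv t -
            (degBasis hd w v hv).repr r t • degBasis hd w v hv t) fun s => by
          rw [← IsScalarTower.algebraMap_smul (Polynomial K) (((degBasis hd w v hv).repr r t).eval 0),
            ← sub_smul, map_smul, Module.Basis.repr_self, Finsupp.smul_single, smul_eq_mul, mul_one]
          by_cases hst : t = s
          · subst hst; simp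
          · simp [Finsupp.single_eq_of_ne (Ne.symm hst)]
        simpa using h
      exact this
  exact ⟨(AlgEquiv.ofBijective ψ hbij).symm⟩

end Groth.Agent.SMT
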