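import Groth.Agent.Lib.SMT.SchubertCM
import Groth.Agent.Lib.SMT.Cell
import Mathlib.LinearAlgebra.Matrix.Adjugate

/-!
# Determinantal rings as opposite cells of Schubert varieties
-/

namespace Groth.Agent.SMT

open W4bk4grassmannian MvPolynomial

universe u

variable (K : Type u) [Field K] [Infinite K] {d r : ℕ}

/-- The least index. -/
def botIdx (d r : ℕ) : Idx d (d + r) := ⟨Fin.castAdd r, fun _ _ h => h⟩

/-- The row tuple of `Z (i, j)`. -/
def varTuple (i : Fin r) (j : Fin d) : Fin d → Fin (d + r) :=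
  Function.update (botIdx d r).1 j (Fin.natAdd d i)

/-- The index cutting out the `t × t` minors. -/
def detIdx (d r t : ℕ) (ht : 1 ≤ t) (htd : t ≤ d) (htr : t ≤ r) : Idx d (d + r) :=
  ⟨fun s => if h : s.val ≤ d - t then ⟨t - 1 + s.val, by omega⟩ else ⟨r + s.val, by omega⟩, fun a b hab => by
    have hab' := Fin.lt_def.1 hab
    simp only
    split_ifs <;> simp only [Fin.lt_def] <;> omega⟩

theorem add_sub_le (θ : Idx d (d + r)) {s u : Fin d} (h : s ≤ u) :
    (θ.1 s).val + (u.val - s.val) ≤ (θ.1 u).val := by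
  obtain ⟨u, hu⟩ := u
  induction u with
  | zero =>
    have : s = ⟨0, hu⟩ := Fin.ext (Nat.le_zero.1 (Fin.le_def.1 h))
    subst this; simp
  | succ u ih =>
    rcases Nat.lt_or_ge u s.val with hlt | hge
    · have : s = ⟨u + 1, hu⟩ := Fin.ext (le_antisymm (Fin.le_def.1 h) hlt)
      subst this; simp
    · have := ih (by omega) (Fin.le_def.2 hge)
      have h2 := Fin.lt_def.1 (θ.2 (show (⟨u, by omega⟩ : Fin d) < ⟨u + 1, hu⟩ from Fin.lt_def.2 (Nat.lt_succ_self u)))
      simp only at *
      omega

theorem le_detIdx_iff {t : ℕ} (ht : 1 ≤ t) (htd : t ≤ d) (htr : t ≤ r) (θ : Idx d (d + r)) :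
    θ ≤ detIdx d r t ht htd htr ↔ (θ.1 ⟨d - t, by omega⟩).val < d := by
  constructor
  · intro h
    have := Fin.le_def.1 (h ⟨d - t, by omega⟩)
    simp [detIdx] at this
    omega
  · intro h s
    rw [Fin.le_def]
    simp only [detIdx]
    split_ifs with hs
    · have := add_sub_le θ (s := s) (u := ⟨d - t, by omega⟩) (Fin.le_def.2 hs)
      simp only at *
      omega
    · have := add_sub_le θ (s := s) (u := ⟨d - 1, by omega⟩) (Fin.le_def.2 (by simp only; omega))
      have := (θ.1 ⟨d - 1, by omega⟩).2
      simp only at *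
      omega

theorem codeg_detIdx {t : ℕ} (ht : 1 ≤ t) (htd : t ≤ d) (htr : t ≤ r) :
    codeg (detIdx d r t ht htd htr) = (t - 1) * (d + r - t + 1) := by
  have h : ∀ s : Fin d, ((detIdx d r t ht htd htr).1 s).val - s.val =
      (if s.val < d - t + 1 then t - 1 else r) := by
    intro s
    simp only [detIdx]
    split_ifs <;> simp only <;> omega
  rw [codeg, Finset.sum_congr rfl fun s _ => h s, Fin.sum_univ_eq_sum_range (fun s => if s < d - t + 1 then t - 1 else r),
    ← Finset.sum_range_add_sum_Ico _ (show d - t + 1 ≤ d by omega),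
    Finset.sum_congr rfl fun s hs => if_pos (Finset.mem_range.1 hs),
    Finset.sum_congr rfl fun s hs => if_neg (not_lt.2 (Finset.mem_Ico.1 hs).1)]
  simp only [Finset.sum_const, Finset.card_range, Nat.card_Ico, smul_eq_mul]
  rw [show d - (d - t + 1) = t - 1 by omega, mul_comm _ (t - 1), ← mul_add]
  congr 1; omega

omit [Infinite K] in
theorem cellMinor_varTuple (i : Fin r) (j : Fin d) :
    ((cellMatrix K d r).submatrix (varTuple i j) id).det = X (i, j) := by
  classical
  have h : (cellMatrix K d r).submatrix (varTuple i j) id =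
      (1 : Matrix (Fin d) (Fin d) (CellRing K d r)).updateRow j (fun t => cellMatrix K d r (Fin.natAdd d i) t) := by
    refine Matrix.ext fun s t => ?_
    rw [Matrix.submatrix_apply, Matrix.updateRow_apply, id, varTuple, Function.update_apply]
    split_ifs with hs
    · rfl
    · rw [cellMatrix, Matrix.of_apply, dif_pos (by simp [botIdx]), Matrix.one_apply]
      simp [botIdx, Fin.val_inj]
  have hsum : (fun t => cellMatrix K d r (Fin.natAdd d i) t) =
      ∑ k, cellMatrix K d r (Fin.natAdd d i) k • (1 : Matrix (Fin d) (Fin d) (CellRing K d r)) k := by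
    funext t
    simp [Matrix.one_apply]
  rw [h, hsum, Matrix.det_updateRow_sum, Matrix.det_one, smul_eq_mul, mul_one, cellMatrix, Matrix.of_apply,
    dif_neg (by simp)]
  simp

/-- The homogenised cell matrix over the Schubert ring. -/
noncomputable def homCell (τ : Idx d (d + r)) : Matrix (Fin (d + r)) (Fin d) (SRing K τ) :=
  Matrix.of fun x s => if h : x.val < d then (if x.val = s.val then
      Ideal.Quotient.mk (schubertVanishing K d (d + r) τ) (X (botIdx d r)) else 0)
    else Ideal.Quotient.mk (schubertVanishing K d (d + r) τ)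
      (coord K d (d + r) (varTuple ⟨x.val - d, by omega⟩ s))

theorem det_homCell (hd : 0 < d) (τ θ : Idx d (d + r)) :
    ((homCell K τ).submatrix θ.1 id).det =
      Ideal.Quotient.mk (schubertVanishing K d (d + r) τ) (X (botIdx d r)) ^ (d - 1)
        * Ideal.Quotient.mk (schubertVanishing K d (d + r) τ) (X θ) := by
  classical
  let ech : SRing K τ →ₐ[K] MatRing K d (d + r) :=
    Ideal.Quotient.liftₐ _ (echMap K τ) fun p hp => echMap_eq_zero_of_mem K hp
  have hinj : Function.Injective ech := by
    rw [injective_iff_map_eq_zero]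
    intro x hx
    obtain ⟨p, rfl⟩ := Ideal.Quotient.mk_surjective x
    exact Ideal.Quotient.eq_zero_iff_mem.2 ((mem_schubert_iff_echMap K hd τ p).2 hx)
  apply hinj
  let E := echMatrix K τ
  let C := E.submatrix (botIdx d r).1 id
  have hmk : ∀ p, ech (Ideal.Quotient.mk (schubertVanishing K d (d + r) τ) p) = echMap K τ p := fun p => rfl
  have hX : ∀ θ : Idx d (d + r), echMap K τ (X θ) = (E.submatrix θ.1 id).det := fun θ => by
    rw [echMap, aeval_X]
  have hM : ech.mapMatrix ((homCell K τ).submatrix θ.1 id) = E.submatrix θ.1 id * C.adjugate := by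
    refine Matrix.ext fun a s => ?_
    rw [AlgHom.mapMatrix_apply, Matrix.map_apply, Matrix.submatrix_apply, id, homCell, Matrix.of_apply]
    have hrow : (E.submatrix θ.1 id * C.adjugate) a s = (C.updateRow s (E (θ.1 a))).det := by
      rw [← Matrix.cramer_transpose_apply, Matrix.cramer_eq_adjugate_mulVec, ← Matrix.adjugate_transpose,
        Matrix.mulVec, Matrix.mul_apply]
      exact Finset.sum_congr rfl fun k _ => mul_comm _ _
    rw [hrow]
    by_cases h : (θ.1 a).val < d
    · rw [dif_pos h]
      have hE : E (θ.1 a) = C ⟨(θ.1 a).val, h⟩ := by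
        funext k
        exact congrArg (fun x => E x k) (Fin.ext rfl : θ.1 a = (botIdx d r).1 ⟨(θ.1 a).val, h⟩)
      rw [hE]
      by_cases hs : (θ.1 a).val = s.val
      · rw [if_pos hs, hmk, hX, show (⟨(θ.1 a).val, h⟩ : Fin d) = s from Fin.ext hs]
        congr 1
        exact (Matrix.updateRow_eq_self C s).symm
      · rw [if_neg hs, map_zero]
        refine (Matrix.det_zero_of_row_eq (show s ≠ ⟨(θ.1 a).val, h⟩ from fun he => hs (congrArg Fin.val he).symm) ?_).symm
        rw [Matrix.updateRow_self, Matrix.updateRow_ne (fun he => hs (congrArg Fin.val he))]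
    · rw [dif_neg h, hmk, echMap, aeval_coord]
      congr 1
      refine Matrix.ext fun x y => ?_
      rw [Matrix.submatrix_apply, id, varTuple, Function.update_apply, Matrix.updateRow_apply]
      split_ifs with hx
      · show E (Fin.natAdd d ⟨(θ.1 a).val - d, _⟩) y = E (θ.1 a) y
        rw [show Fin.natAdd d ⟨(θ.1 a).val - d, by omega⟩ = θ.1 a from
          Fin.ext (show d + ((θ.1 a).val - d) = (θ.1 a).val by omega)]
      · rfl
  rw [AlgHom.map_det, hM, Matrix.det_mul, Matrix.det_adjugate, Fintype.card_fin, map_mul, map_pow, hmk, hmk, hX, hX,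
    mul_comm]

section Main

variable {t : ℕ} (ht : 1 ≤ t) (htd : t ≤ d) (htr : t ≤ r)

/-- The ideal of minors. -/
noncomputable abbrev minorI (d r t : ℕ) : Ideal (CellRing K d r) := CAlgX.minorIdeal (genMatrix K r d) t

/-- Dehomogenisation of the Schubert cone. -/
noncomputable abbrev affI : Ideal (PlRing K d (d + r)) :=
  schubertVanishing K d (d + r) (detIdx d r t ht htd htr) ⊔ Ideal.span {X (botIdx d r) - 1}

/-- Evaluation on the cell. -/
noncomputable def toMinorQuot (d r t : ℕ) : PlRing K d (d + r) →ₐ[K] CellRing K d r ⧸ minorI K d r t :=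
  (Ideal.Quotient.mkₐ K _).comp (aeval fun θ : Idx d (d + r) => cellMinor K d r θ)

omit [Infinite K] in
theorem cellMinor_botIdx : cellMinor K d r (botIdx d r) = 1 := by
  rw [cellMinor, show (cellMatrix K d r).submatrix (botIdx d r).1 id = 1 from Matrix.ext fun s j => by
    rw [Matrix.submatrix_apply, id, cellMatrix, Matrix.of_apply, dif_pos (by simp [botIdx]), Matrix.one_apply]
    simp [botIdx, Fin.val_inj], Matrix.det_one]

theorem toMinorQuot_coord (i : Fin r) (j : Fin d) :
    toMinorQuot K d r t (coord K d (d + r) (varTuple i j)) = Ideal.Quotient.mk (minorI K d r t) (X (i, j)) := by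
  show Ideal.Quotient.mk _ (aeval (fun θ : Idx d (d + r) => cellMinor K d r θ) _) = _
  unfold cellMinor
  rw [aeval_coord, cellMinor_varTuple]

theorem toMinorQuot_schubert (hd : 0 < d) {p : PlRing K d (d + r)}
    (hp : p ∈ schubertVanishing K d (d + r) (detIdx d r t ht htd htr)) : toMinorQuot K d r t p = 0 := by
  rw [← plIdeal_eq K hd] at hp
  refine (show plIdeal K (detIdx d r t ht htd htr) ≤ RingHom.ker (toMinorQuot K d r t).toRingHom from ?_) hp
  rw [plIdeal, Ideal.span_le]
  rintro f (⟨i, j, a, -, rfl⟩ | ⟨φ, hφ, rfl⟩)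
  · show Ideal.Quotient.mk (minorI K d r t) (aeval (fun θ : Idx d (d + r) => cellMinor K d r θ) (shuffleRel K i j a)) = 0
    unfold cellMinor
    rw [aeval_shuffleRel, map_zero]
  · show Ideal.Quotient.mk (minorI K d r t) (aeval (fun θ : Idx d (d + r) => cellMinor K d r θ) (X φ)) = 0
    rw [aeval_X, Ideal.Quotient.eq_zero_iff_mem]
    rw [le_detIdx_iff, not_lt] at hφ
    exact cellMinor_mem φ ht hd htd hφ

/-- `S ⧸ (J + (p - 1)) → K[Z] ⧸ I`. -/
noncomputable def affToMinor (hd : 0 < d) :
    (PlRing K d (d + r) ⧸ affI K ht htd htr) →ₐ[K] CellRing K d r ⧸ minorI K d r t :=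
  Ideal.Quotient.liftₐ _ (toMinorQuot K d r t) fun p hp => by
    refine (show affI K ht htd htr ≤ RingHom.ker (toMinorQuot K d r t).toRingHom from ?_) hp
    refine sup_le (fun q hq => toMinorQuot_schubert K ht htd htr hd hq) ?_
    rw [Ideal.span_singleton_le_iff_mem, RingHom.mem_ker]
    show Ideal.Quotient.mk (minorI K d r t) (aeval (fun θ : Idx d (d + r) => cellMinor K d r θ) _) = 0
    rw [map_sub, map_one, aeval_X, cellMinor_botIdx, sub_self, map_zero]

theorem cellMinor_image {R : Type u} [CommRing R] [Algebra K R] (hd : 0 < d) (τ : Idx d (d + r))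
    (g : SRing K τ →ₐ[K] R) (q : R) (hq : q * g (Ideal.Quotient.mk _ (X (botIdx d r))) = 1) (θ : Idx d (d + r)) :
    aeval (fun p : Fin r × Fin d => q * g (Ideal.Quotient.mk _ (coord K d (d + r) (varTuple p.1 p.2))))
        (cellMinor K d r θ) = q * g (Ideal.Quotient.mk (schubertVanishing K d (d + r) τ) (X θ)) := by
  classical
  set F := aeval (R := K) (fun p : Fin r × Fin d =>
    q * g (Ideal.Quotient.mk (schubertVanishing K d (d + r) τ) (coord K d (d + r) (varTuple p.1 p.2))))
  have hM : F.mapMatrix ((cellMatrix K d r).submatrix θ.1 id) = q • g.mapMatrix ((homCell K τ).submatrix θ.1 id) := by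
    refine Matrix.ext fun a s => ?_
    rw [Matrix.smul_apply, AlgHom.mapMatrix_apply, AlgHom.mapMatrix_apply, Matrix.map_apply, Matrix.map_apply,
      Matrix.submatrix_apply, Matrix.submatrix_apply, cellMatrix, homCell, Matrix.of_apply, Matrix.of_apply, id,
      smul_eq_mul]
    split_ifs
    · rw [map_one, hq]
    · rw [map_zero, map_zero, mul_zero]
    · rw [aeval_X]
  rw [cellMinor, AlgHom.map_det, hM, Matrix.det_smul, Fintype.card_fin, ← AlgHom.map_det,
    det_homCell K hd, map_mul, map_pow, ← mul_assoc]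
  congr 1
  obtain ⟨e, rfl⟩ := Nat.exists_eq_succ_of_ne_zero hd.ne'
  rw [Nat.succ_sub_one, pow_succ', mul_assoc, ← mul_pow, hq, one_pow, mul_one]

/-- Lifting to the quotient by the minors. -/
theorem minorI_le_ker {R : Type u} [CommRing R] [Algebra K R] (hd : 0 < d)
    (g : SRing K (detIdx d r t ht htd htr) →ₐ[K] R) (q : R)
    (hq : q * g (Ideal.Quotient.mk _ (X (botIdx d r))) = 1) :
    minorI K d r t ≤ RingHom.ker (aeval (R := K) (fun p : Fin r × Fin d =>
      q * g (Ideal.Quotient.mk _ (coord K d (d + r) (varTuple p.1 p.2))))).toRingHom := by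
  rw [minorI, ← span_cellMinor hd ht htd, Ideal.span_le]
  rintro _ ⟨θ, hθ, rfl⟩
  refine (cellMinor_image K hd _ g q hq θ).trans ?_
  rw [Ideal.Quotient.eq_zero_iff_mem.2 (X_mem_schubert K fun hle => ?_), map_zero, mul_zero]
  exact absurd ((le_detIdx_iff ht htd htr θ).1 hle) (not_lt.2 hθ)

theorem bijective_affToMinor (hd : 0 < d) : Function.Bijective (affToMinor K ht htd htr hd) := by
  let g : SRing K (detIdx d r t ht htd htr) →ₐ[K] PlRing K d (d + r) ⧸ affI K ht htd htr :=
    Ideal.Quotient.factorₐ K le_sup_left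
  have hg : ∀ p, g (Ideal.Quotient.mk _ p) = Ideal.Quotient.mk (affI K ht htd htr) p := fun p => rfl
  have hq : (1 : PlRing K d (d + r) ⧸ affI K ht htd htr) *
      g (Ideal.Quotient.mk _ (X (botIdx d r))) = 1 := by
    rw [one_mul, hg, ← map_one (Ideal.Quotient.mk (affI K ht htd htr)), Ideal.Quotient.eq]
    exact Submodule.mem_sup_right (Ideal.mem_span_singleton_self _)
  let inv : (CellRing K d r ⧸ minorI K d r t) →ₐ[K] PlRing K d (d + r) ⧸ affI K ht htd htr :=
    Ideal.Quotient.liftₐ _ _ fun x hx => minorI_le_ker K ht htd htr hd g 1 hq hx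
  have h1 : inv.comp (affToMinor K ht htd htr hd) = AlgHom.id K _ := by
    refine Ideal.Quotient.algHom_ext K (MvPolynomial.algHom_ext fun θ => ?_)
    show inv (toMinorQuot K d r t (X θ)) = Ideal.Quotient.mk _ (X θ)
    show inv (Ideal.Quotient.mk _ (aeval (fun θ : Idx d (d + r) => cellMinor K d r θ) (X θ))) = _
    rw [aeval_X]
    exact (cellMinor_image K hd _ g 1 hq θ).trans (by rw [one_mul, hg])
  have h2 : (affToMinor K ht htd htr hd).comp inv = AlgHom.id K _ := by
    refine Ideal.Quotient.algHom_ext K (MvPolynomial.algHom_ext fun p => ?_)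
    show affToMinor K ht htd htr hd (aeval _ (X p)) = Ideal.Quotient.mk _ (X p)
    rw [aeval_X, one_mul, hg]
    exact toMinorQuot_coord K p.1 p.2
  exact ⟨Function.LeftInverse.injective (g := inv) fun x => DFunLike.congr_fun h1 x,
    Function.RightInverse.surjective (g := inv) fun x => DFunLike.congr_fun h2 x⟩

include ht htd htr in
theorem isDomain_isIntegrallyClosed_minor (hd : 0 < d) :
    IsDomain (CellRing K d r ⧸ minorI K d r t) ∧ IsIntegrallyClosed (CellRing K d r ⧸ minorI K d r t) := by
  set τ := detIdx d r t ht htd htr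
  haveI := isDomain_sring K hd τ
  haveI := isIntegrallyClosed_sring K hd τ
  set p := Ideal.Quotient.mk (schubertVanishing K d (d + r) τ) (X (botIdx d r)) with hp
  have hbτ : botIdx d r ≤ τ := fun s => Fin.le_def.2 (id_le τ s)
  have hp0 : p ≠ 0 := fun h => X_notMem_schubert K hbτ (Ideal.Quotient.eq_zero_iff_mem.1 h)
  have hM := powers_le_nonZeroDivisors_of_noZeroDivisors hp0
  let Q := Localization.Away p
  haveI : IsDomain Q := IsLocalization.isDomain_localization hM
  haveI : IsIntegrallyClosed Q := isIntegrallyClosed_of_isLocalization Q (Submonoid.powers p) hM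
  let q : Q := IsLocalization.Away.invSelf p
  have hq : q * IsScalarTower.toAlgHom K (SRing K τ) Q p = 1 := by
    rw [mul_comm]; exact IsLocalization.Away.mul_invSelf p
  let ι : (CellRing K d r ⧸ minorI K d r t) →ₐ[K] Q :=
    Ideal.Quotient.liftₐ _ _ fun x hx => minorI_le_ker K ht htd htr hd _ q hq hx
  let π : SRing K τ →ₐ[K] CellRing K d r ⧸ minorI K d r t :=
    Ideal.Quotient.liftₐ _ (toMinorQuot K d r t) fun x hx => toMinorQuot_schubert K ht htd htr hd hx
  have hπp : π.toRingHom p = 1 := by
    show Ideal.Quotient.mk (minorI K d r t) (aeval (fun θ : Idx d (d + r) => cellMinor K d r θ) (X (botIdx d r))) = 1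
    rw [aeval_X, cellMinor_botIdx, map_one]
  let ρ : Q →+* CellRing K d r ⧸ minorI K d r t :=
    IsLocalization.Away.lift p (g := π.toRingHom) (by rw [hπp]; exact isUnit_one)
  have hρ : ∀ x, ρ (algebraMap (SRing K τ) Q x) = π x := fun x => IsLocalization.Away.lift_eq _ _ _
  have hρι : ∀ x, ρ (ι x) = x := by
    have h : (ρ.comp ι.toRingHom).comp (Ideal.Quotient.mk (minorI K d r t)) = Ideal.Quotient.mk _ := by
      refine MvPolynomial.ringHom_ext (fun c => ?_) fun x => ?_
      · show ρ (ι (algebraMap K _ c)) = algebraMap K _ c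
        rw [AlgHom.commutes, IsScalarTower.algebraMap_apply K (SRing K τ) Q, hρ, AlgHom.commutes]
      · show ρ (aeval _ (X x)) = _
        rw [aeval_X, map_mul]
        have h1 : ρ q = 1 := by
          have := congrArg ρ (IsLocalization.Away.mul_invSelf (S := Q) p)
          rwa [map_mul, hρ, show π p = 1 from hπp, one_mul, map_one] at this
        rw [h1, one_mul, IsScalarTower.coe_toAlgHom', hρ]
        exact toMinorQuot_coord K x.1 x.2
    intro x
    obtain ⟨y, rfl⟩ := Ideal.Quotient.mk_surjective x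
    exact DFunLike.congr_fun h y
  have hinj : Function.Injective ι.toRingHom := Function.LeftInverse.injective (g := ρ) hρι
  haveI hdom : IsDomain (CellRing K d r ⧸ minorI K d r t) := hinj.isDomain ι.toRingHom
  refine ⟨hdom, ?_⟩
  let A := CellRing K d r ⧸ minorI K d r t
  rw [isIntegrallyClosed_iff (FractionRing A)]
  intro x hx
  obtain ⟨⟨a, c, hc⟩, rfl⟩ := IsLocalization.mk'_surjective (nonZeroDivisors A) x
  let G : FractionRing A →+* FractionRing Q := IsFractionRing.lift
    (g := (algebraMap Q (FractionRing Q)).comp ι.toRingHom)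
    ((IsFractionRing.injective Q _).comp hinj)
  have hG : ∀ a : A, G (algebraMap A _ a) = algebraMap Q (FractionRing Q) (ι a) :=
    fun a => IsFractionRing.lift_algebraMap _ a
  have hint : IsIntegral Q (G (IsLocalization.mk' (FractionRing A) a ⟨c, hc⟩)) :=
    hx.map_of_comp_eq ι.toRingHom G (RingHom.ext fun a => (hG a).symm)
  obtain ⟨w, hw⟩ := IsIntegrallyClosed.isIntegral_iff.1 hint
  refine ⟨ρ w, ?_⟩
  have h1 : algebraMap Q (FractionRing Q) (w * ι c) = algebraMap Q (FractionRing Q) (ι a) := by
    rw [map_mul, hw, ← hG, ← hG, ← map_mul, IsLocalization.mk'_spec]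
  have h2 : ρ w * c = a := by
    have := congrArg ρ (IsFractionRing.injective Q (FractionRing Q) h1)
    rwa [map_mul, hρι, hρι] at this
  rw [IsLocalization.eq_mk'_iff_mul_eq, ← map_mul, h2]

include ht htd htr in
theorem cm_dim_minor (hd : 0 < d) :
    LocCoh.IsCohenMacaulayRing (CellRing K d r ⧸ minorI K d r t) ∧
      ringKrullDim (CellRing K d r ⧸ minorI K d r t) = (((t - 1) * (d + r - t + 1) : ℕ) : WithBot ℕ∞) := by
  set τ := detIdx d r t ht htd htr
  set e := codeg τ with he
  haveI := isDomain_sring K hd τ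
  let mk := Ideal.Quotient.mk (schubertVanishing K d (d + r) τ)
  have hne : mk (X (botIdx d r) - 1) ≠ 0 := by
    intro h
    have h1 := schubert_le_constantCoeff K hd τ (Ideal.Quotient.eq_zero_iff_mem.1 h)
    simp [RingHom.mem_ker] at h1
  have hreg : IsSMulRegular (SRing K τ) (X (botIdx d r) - 1 : PlRing K d (d + r)) := fun a b hab =>
    mul_left_cancel₀ hne hab
  have hD := ((allDepth_union K hd e τ rfl).1).sup_span (p := X (botIdx d r) - 1) hreg
  let eq := RingEquiv.ofBijective (affToMinor K ht htd htr hd).toRingHom (bijective_affToMinor K ht htd htr hd)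
  haveI := (isDomain_isIntegrallyClosed_minor K ht htd htr hd).1
  have hne' : affI K ht htd htr ≠ ⊤ := fun h => by
    haveI := Ideal.Quotient.subsingleton_iff.2 h
    haveI : Subsingleton (CellRing K d r ⧸ minorI K d r t) := eq.symm.injective.subsingleton
    exact false_of_nontrivial_of_subsingleton (CellRing K d r ⧸ minorI K d r t)
  have hle : ringKrullDim (PlRing K d (d + r) ⧸ affI K ht htd htr) ≤ (e : WithBot ℕ∞) := by
    let eq2 := DoubleQuot.quotQuotEquivQuotSup (schubertVanishing K d (d + r) τ)
      (Ideal.span {X (botIdx d r) - 1})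
    rw [show ringKrullDim (PlRing K d (d + r) ⧸ affI K ht htd htr) = ringKrullDim ((SRing K τ) ⧸
      Ideal.map (Ideal.Quotient.mk (schubertVanishing K d (d + r) τ)) (Ideal.span {X (botIdx d r) - 1})) from
      (RingEquiv.ringKrullDim eq2).symm]
    have h := ringKrullDim_quotient_succ_le_of_nonZeroDivisor (mem_nonZeroDivisors_of_ne_zero hne : _ ∈ nonZeroDivisors (SRing K τ))
    rw [ringKrullDim_sring K hd τ, Nat.cast_succ] at h
    rw [Ideal.map_span, Set.image_singleton]
    exact DepthLib.withBot_add_coe_cancel 1 (by exact_mod_cast h)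
  have hcm := hD.isCM hle
  have hdim : ringKrullDim (PlRing K d (d + r) ⧸ affI K ht htd htr) = (e : WithBot ℕ∞) :=
    le_antisymm hle (hD.le_ringKrullDim hne')
  refine ⟨?_, ?_⟩
  · haveI := isNoetherianRing_of_ringEquiv _ eq
    refine isCM_ring_of_maximal fun m hm => ?_
    exact isCM_of_ringEquiv (IsLocalization.ringEquivOfRingEquiv (Localization.AtPrime (m.comap eq))
      (Localization.AtPrime m) eq (eq.map_primeCompl_comap_eq m)) (hcm.isCohenMacaulayLocalRing_localization _)
  · rw [← ringKrullDim_eq_of_ringEquiv eq, hdim, he, codeg_detIdx]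

end Main

end Groth.Agent.SMT
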