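import Groth.Agent.Lib.SMT.Span
import Mathlib.Algebra.Order.Rearrangement
import Mathlib.Data.Finsupp.Weight
import Mathlib.LinearAlgebra.LinearIndependent.Defs
import Mathlib.Data.List.Sort

/-!
# Diagonal leading terms of minors: standard monomials are independent
-/

namespace Groth.Agent.SMT

open W4bk4grassmannian MvPolynomial

universe u

section top

variable {σ R : Type*} [CommRing R] (w : (σ →₀ ℕ) →+ ℕ)

/-- All monomials of `q` have weight `< N`. -/
def Below' (q : MvPolynomial σ R) (N : ℕ) : Prop := ∀ x ∈ q.support, w x < N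

theorem Below'.mono {q : MvPolynomial σ R} {N N' : ℕ} (h : Below' w q N) (hN : N ≤ N') :
    Below' w q N' := fun x hx => (h x hx).trans_le hN

theorem Below'.add {p q : MvPolynomial σ R} {N : ℕ} (hp : Below' w p N) (hq : Below' w q N) :
    Below' w (p + q) N := fun x hx => by
  classical
  rcases Finset.mem_union.1 (MvPolynomial.support_add hx) with h | h
  exacts [hp x h, hq x h]

theorem Below'.sum {ι : Type*} {s : Finset ι} {p : ι → MvPolynomial σ R} {N : ℕ}
    (h : ∀ i ∈ s, Below' w (p i) N) : Below' w (∑ i ∈ s, p i) N := by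
  classical
  induction s using Finset.induction with
  | empty => intro x hx; simp at hx
  | insert a s ha ih =>
    rw [Finset.sum_insert ha]
    exact (h a (Finset.mem_insert_self a s)).add w (ih fun i hi => h i (Finset.mem_insert_of_mem hi))

/-- `p` has leading monomial `m` with coefficient one. -/
def Top (p : MvPolynomial σ R) (m : σ →₀ ℕ) : Prop :=
  ∃ q, p = monomial m 1 + q ∧ Below' w q (w m)

theorem Top.one : Top w (1 : MvPolynomial σ R) 0 :=
  ⟨0, by simp, fun x hx => by simp at hx⟩

theorem Top.mul {p p' : MvPolynomial σ R} {m m' : σ →₀ ℕ} (hp : Top w p m) (hp' : Top w p' m') :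
    Top w (p * p') (m + m') := by
  classical
  obtain ⟨q, rfl, hq⟩ := hp
  obtain ⟨q', rfl, hq'⟩ := hp'
  refine ⟨monomial m 1 * q' + q * (monomial m' 1 + q'), by
    rw [add_mul, mul_add (monomial m (1 : R)), monomial_mul, mul_one, add_assoc], ?_⟩
  refine Below'.add w (fun x hx => ?_) (fun x hx => ?_)
  · obtain ⟨a, ha, b, hb, rfl⟩ := Finset.mem_add.1 (MvPolynomial.support_mul _ _ hx)
    obtain rfl : a = m := by simpa using (MvPolynomial.support_monomial_subset ha)
    rw [map_add, map_add]
    exact Nat.add_lt_add_left (hq' b hb) _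
  · obtain ⟨a, ha, b, hb, rfl⟩ := Finset.mem_add.1 (MvPolynomial.support_mul _ _ hx)
    rw [map_add, map_add]
    refine Nat.add_lt_add_of_lt_of_le (hq a ha) ?_
    rcases Finset.mem_union.1 (MvPolynomial.support_add hb) with h | h
    · obtain rfl : b = m' := by simpa using (MvPolynomial.support_monomial_subset h)
      exact le_rfl
    · exact (hq' b h).le

theorem Top.prod {ι : Type*} (s : Finset ι) (p : ι → MvPolynomial σ R) (m : ι → σ →₀ ℕ)
    (h : ∀ i ∈ s, Top w (p i) (m i)) : Top w (∏ i ∈ s, p i) (∑ i ∈ s, m i) := by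
  classical
  induction s using Finset.induction with
  | empty => simpa using Top.one w
  | insert a s ha ih =>
    rw [Finset.prod_insert ha, Finset.sum_insert ha]
    exact (h a (Finset.mem_insert_self a s)).mul w (ih fun i hi => h i (Finset.mem_insert_of_mem hi))

theorem Top.coeff_self {p : MvPolynomial σ R} {m : σ →₀ ℕ} (hp : Top w p m) : p.coeff m = 1 := by
  classical
  obtain ⟨q, rfl, hq⟩ := hp
  rw [coeff_add, coeff_monomial, if_pos rfl, notMem_support_iff.1 fun h => lt_irrefl _ (hq m h), add_zero]

theorem Top.coeff_eq_zero {p : MvPolynomial σ R} {m x : σ →₀ ℕ} (hp : Top w p m) (hx : x ≠ m)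
    (hw : w m ≤ w x) : p.coeff x = 0 := by
  classical
  obtain ⟨q, rfl, hq⟩ := hp
  rw [coeff_add, coeff_monomial, if_neg hx.symm, zero_add,
    notMem_support_iff.1 fun h => absurd hw (not_le.2 (hq x h))]

/-- Polynomials with distinct leading monomials are linearly independent. -/
theorem linearIndependent_of_top {ι : Type*} (p : ι → MvPolynomial σ R) (m : ι → σ →₀ ℕ)
    (h : ∀ i, Top w (p i) (m i)) (hm : Function.Injective m) : LinearIndependent R p := by
  classical
  rw [linearIndependent_iff']
  intro s c hsum i hi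
  by_contra hci
  obtain ⟨j, hj, hmax⟩ := (s.filter fun j => c j ≠ 0).exists_max_image (fun j => w (m j))
    ⟨i, Finset.mem_filter.2 ⟨hi, hci⟩⟩
  have h0 := congrArg (coeff (m j)) hsum
  rw [coeff_zero, coeff_sum, Finset.sum_eq_single j] at h0
  · rw [coeff_smul, (h j).coeff_self, smul_eq_mul, mul_one] at h0
    exact (Finset.mem_filter.1 hj).2 h0
  · intro l hl hlj
    by_cases hcl : c l = 0
    · simp [hcl]
    · rw [coeff_smul, (h l).coeff_eq_zero w (fun e => hlj (hm e).symm)
        (hmax l (Finset.mem_filter.2 ⟨hl, hcl⟩)), smul_zero]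
  · intro hn; exact absurd (Finset.mem_filter.1 hj).1 hn

end top

variable (K : Type u) [CommRing K] {d n : ℕ}

/-- The weight `row · column`. -/
noncomputable def wt : (Fin n × Fin d →₀ ℕ) →+ ℕ :=
  Finsupp.weight fun p : Fin n × Fin d => (p.1 : ℕ) * (p.2 : ℕ)

theorem wt_single (p : Fin n × Fin d) : wt (Finsupp.single p 1) = (p.1 : ℕ) * (p.2 : ℕ) := by
  simp [wt, Finsupp.weight_single]

/-- The generic matrix whose `t`-th column lives in the rows `≤ τ t`. -/
noncomputable def echMatrix (τ : Idx d n) : Matrix (Fin n) (Fin d) (MatRing K d n) :=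
  Matrix.of fun s t => if s ≤ τ.1 t then X (s, t) else 0

/-- Plücker polynomials restricted to the matrices in echelon shape `τ`. -/
noncomputable def echMap (τ : Idx d n) : PlRing K d n →ₐ[K] MatRing K d n :=
  MvPolynomial.aeval fun θ : Idx d n => ((echMatrix K τ).submatrix θ.1 id).det

/-- The exponent of the diagonal. -/
noncomputable def diag (θ : Idx d n) : Fin n × Fin d →₀ ℕ := ∑ t, Finsupp.single (θ.1 t, t) 1

theorem echMap_X_of_not_le {τ θ : Idx d n} (h : ¬ θ ≤ τ) : echMap K τ (X θ) = 0 := by
  rw [echMap, aeval_X, Matrix.det_apply]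
  refine Finset.sum_eq_zero fun σ _ => ?_
  obtain ⟨t, ht'⟩ : ∃ t, ¬ θ.1 (σ t) ≤ τ.1 t := by
    by_contra hno
    push Not at hno
    refine h fun t₀ => ?_
    by_contra hlt
    have hmap : ∀ t ∈ Finset.Iic t₀, σ t ∈ Finset.Iio t₀ := by
      intro t ht1
      rw [Finset.mem_Iic] at ht1
      rw [Finset.mem_Iio]
      by_contra hge
      exact hlt ((θ.2.monotone (not_lt.1 hge)).trans ((hno t).trans (τ.2.monotone ht1)))
    have := Finset.card_le_card_of_injOn _ hmap σ.injective.injOn
    rw [Fin.card_Iic, Fin.card_Iio] at this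
    omega
  rw [Finset.prod_eq_zero (Finset.mem_univ t) (by simp [echMatrix, ht']), smul_zero]

theorem perm_eq_one_of_monotone {σ : Equiv.Perm (Fin d)} (h : Monotone σ) : σ = 1 := by
  have hs : StrictMono σ := h.strictMono_of_injective σ.injective
  have hid : (⇑σ : Fin d → Fin d) = id :=
    hs.range_inj (strictMono_id) |>.1 (by simp [Equiv.range_eq_univ])
  exact Equiv.ext fun x => congrFun hid x

theorem top_echMap_X {τ θ : Idx d n} (h : θ ≤ τ) :
    Top wt (echMap K τ (X θ)) (diag θ) := by
  classical
  rw [echMap, aeval_X, Matrix.det_apply, ← Finset.add_sum_erase _ _ (Finset.mem_univ 1)]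
  refine ⟨∑ x ∈ Finset.univ.erase 1, Equiv.Perm.sign x • ∏ i, (echMatrix K τ).submatrix θ.1 id (x i) i, ?_,
    Below'.sum wt fun σ hσ => ?_⟩
  · congr 1
    rw [Equiv.Perm.sign_one, one_smul, diag, monomial_sum_one]
    refine Finset.prod_congr rfl fun t _ => ?_
    simp only [Matrix.submatrix_apply, echMatrix, Matrix.of_apply, Equiv.Perm.one_apply, id]
    rw [if_pos (h t)]
    rfl
  · have hσ1 : σ ≠ 1 := (Finset.mem_erase.1 hσ).1
    intro x hx
    by_cases hall : ∀ t, θ.1 (σ t) ≤ τ.1 t
    · have hprod : (∏ t, (echMatrix K τ).submatrix θ.1 id (σ t) t) =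
          monomial (∑ t, Finsupp.single (θ.1 (σ t), t) 1) (1 : K) := by
        rw [monomial_sum_one]
        refine Finset.prod_congr rfl fun t _ => ?_
        simp only [Matrix.submatrix_apply, echMatrix, Matrix.of_apply, id]
        rw [if_pos (hall t)]
        rfl
      rw [hprod, Units.smul_def, zsmul_eq_mul] at hx
      have hx' : x ∈ (monomial (∑ t, Finsupp.single (θ.1 (σ t), t) 1)
          (((Equiv.Perm.sign σ : ℤˣ) : ℤ) : K)).support := by
        convert hx using 2
        rw [← map_intCast (C : K →+* MatRing K d n), C_mul_monomial, mul_one]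
      obtain rfl := by simpa using (MvPolynomial.support_monomial_subset hx')
      simp only [diag, map_sum, wt_single]
      refine (Monovary.sum_comp_perm_mul_lt_sum_mul_iff (σ := σ) (f := fun t => (θ.1 t : ℕ))
        (g := fun t : Fin d => (t : ℕ)) ?_).2 ?_
      · intro i j hij
        exact θ.2.monotone (le_of_lt (show i < j from hij))
      · intro hmv
        refine hσ1 (perm_eq_one_of_monotone fun i j hij => ?_)
        rcases eq_or_lt_of_le hij with rfl | hlt
        · exact le_rfl
        · exact θ.2.le_iff_le.1 (Fin.le_def.2 (hmv (show (i : ℕ) < j from hlt)))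
    · push Not at hall
      obtain ⟨t, ht'⟩ := hall
      rw [Finset.prod_eq_zero (Finset.mem_univ t) (by simp [echMatrix, not_le.2 ht']), smul_zero] at hx
      simp at hx

/-- Exponent of the leading monomial of a product of minors. -/
noncomputable def chainDiag {m : ℕ} (c : Fin m → Idx d n) : Fin n × Fin d →₀ ℕ := ∑ k, diag (c k)

theorem top_chainMon {τ : Idx d n} {m : ℕ} (c : Fin m → Idx d n) (h : ∀ k, c k ≤ τ) :
    Top wt (echMap K τ (chainMon K c)) (chainDiag c) := by
  rw [chainMon, map_prod]
  exact Top.prod wt _ _ _ fun k _ => top_echMap_X K (h k)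

theorem chainDiag_apply {m : ℕ} (c : Fin m → Idx d n) (s : Fin n) (t : Fin d) :
    chainDiag c (s, t) = (Finset.univ.filter fun k => (c k).1 t = s).card := by
  classical
  rw [chainDiag, Finsupp.finsetSum_apply, Finset.card_filter]
  refine Finset.sum_congr rfl fun k _ => ?_
  rw [diag, Finsupp.finsetSum_apply, Finset.sum_eq_single t]
  · simp [Finsupp.single_apply]
  · intro u _ hu; simp [Finsupp.single_apply, hu]
  · simp

theorem antitone_eq_of_counts {m : ℕ} {f g : Fin m → Fin n} (hf : Antitone f) (hg : Antitone g)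
    (h : ∀ s, (Finset.univ.filter fun k => f k = s).card = (Finset.univ.filter fun k => g k = s).card) :
    f = g := by
  classical
  have hperm : (List.ofFn f).Perm (List.ofFn g) := by
    rw [List.perm_iff_count]
    intro s
    have key : ∀ u : Fin m → Fin n, (List.ofFn u).count s = (Finset.univ.filter fun k => u k = s).card := by
      intro u
      rw [← Multiset.coe_count, ← Fin.univ_val_map, Multiset.count_map, Finset.card_def, Finset.filter_val]
      simp only [eq_comm]
    rw [key, key, h]
  have hsort : ∀ u : Fin m → Fin n, Antitone u → (List.ofFn u).Pairwise (fun a b => b ≤ a) := fun u hu =>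
    List.pairwise_ofFn.2 fun i j hij => hu hij.le
  exact List.ofFn_injective (hperm.eq_of_pairwise (fun a b _ _ h1 h2 => le_antisymm h2 h1) (hsort f hf) (hsort g hg))

theorem chainDiag_injective (hd : 0 < d) :
    Function.Injective (fun c : (Σ m : ℕ, {c : Fin m → Idx d n // Antitone c}) => chainDiag c.2.1) := by
  rintro ⟨m, c, hc⟩ ⟨m', c', hc'⟩ h
  have hval : ∀ s t, (Finset.univ.filter fun k => (c k).1 t = s).card =
      (Finset.univ.filter fun k => (c' k).1 t = s).card := fun s t => by
    rw [← chainDiag_apply, ← chainDiag_apply]; exact DFunLike.congr_fun h (s, t)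
  obtain rfl : m = m' := by
    have hc1 : ∀ (l : ℕ) (u : Fin l → Idx d n),
        ∑ s, (Finset.univ.filter fun k => (u k).1 ⟨0, hd⟩ = s).card = l := fun l u => by
      rw [← Finset.card_eq_sum_card_fiberwise (fun k _ => Finset.mem_univ _), Finset.card_fin]
    rw [← hc1 m c, ← hc1 m' c']
    exact Finset.sum_congr rfl fun s _ => hval s _
  congr 1
  apply Subtype.ext
  funext k
  apply Subtype.ext
  funext t
  exact congrFun (antitone_eq_of_counts (f := fun k => (c k).1 t) (g := fun k => (c' k).1 t)
    (fun a b hab => hc hab t) (fun a b hab => hc' hab t) fun s => hval s t) k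

end Groth.Agent.SMT
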