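import Groth.Agent.Lib.SMT.Basis

/-!
# Schubert divisors
-/

namespace Groth.Agent.SMT

open W4bk4grassmannian MvPolynomial

universe u

variable {d n : ℕ}

theorem ht_eq_codeg (θ : Idx d n) : ht θ = codeg θ + ∑ t : Fin d, (t : ℕ) := by
  rw [ht, codeg, ← Finset.sum_add_distrib]
  exact Finset.sum_congr rfl fun t _ => (Nat.sub_add_cancel (id_le θ t)).symm

theorem exists_divisor_ge {τ w : Idx d n} (h : τ < w) : ∃ φ ∈ divisors w, τ ≤ φ := by
  classical
  obtain ⟨hle, hne⟩ := lt_iff_le_and_ne.1 h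
  have hex : ∃ a : ℕ, ∃ ha : a < d, τ.1 ⟨a, ha⟩ < w.1 ⟨a, ha⟩ := by
    obtain ⟨t, ht'⟩ := Function.ne_iff.1 fun he : τ.1 = w.1 => hne (Subtype.ext he)
    exact ⟨t, t.2, lt_of_le_of_ne (hle t) ht'⟩
  obtain ⟨ha, hlt⟩ := Nat.find_spec hex
  set t₀ : Fin d := ⟨Nat.find hex, ha⟩
  have hpos : 0 < (w.1 t₀ : ℕ) := by rw [Fin.lt_def] at hlt; omega
  let f : Fin d → Fin n := Function.update w.1 t₀ ⟨(w.1 t₀ : ℕ) - 1, by omega⟩
  have hf : StrictMono f := by
    intro a b hab
    simp only [f, Function.update_apply]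
    split_ifs with h1 h2 h2
    · exact absurd (h1.trans h2.symm) hab.ne
    · subst h1
      have := w.2 hab
      rw [Fin.lt_def] at this ⊢
      simp only
      omega
    · subst h2
      have h3 : ¬ τ.1 a < w.1 a := fun hl => Nat.find_min hex (Fin.lt_def.1 hab) ⟨a.2, hl⟩
      have h4 : τ.1 a = w.1 a := le_antisymm (hle a) (not_lt.1 h3)
      have h5 := τ.2 hab
      rw [Fin.lt_def] at hlt h5 ⊢
      rw [h4] at h5
      simp only at hlt ⊢
      omega
    · exact w.2 hab
  refine ⟨⟨f, hf⟩, ⟨?_, ?_⟩, fun t => ?_⟩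
  · refine lt_of_le_of_ne (fun t => ?_) fun he => ?_
    · simp only [f, Function.update_apply]
      split_ifs with ht'
      · subst ht'; rw [Fin.le_def]; simp
      · exact le_rfl
    · have := congrArg (fun θ : Idx d n => (θ.1 t₀ : ℕ)) he
      simp [f] at this
      omega
  · have h1 := ht_eq_codeg (⟨f, hf⟩ : Idx d n)
    have h2 := ht_eq_codeg w
    have h3 : ht (⟨f, hf⟩ : Idx d n) + 1 = ht w := by
      simp only [ht]
      rw [← Finset.add_sum_erase _ _ (Finset.mem_univ t₀), ← Finset.add_sum_erase _ _ (Finset.mem_univ t₀),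
        Finset.sum_congr rfl (g := fun x => ((w.1 x : Fin n) : ℕ)) fun x hx => by
          simp [f, Function.update_of_ne (Finset.mem_erase.1 hx).1]]
      simp [f]
      omega
    omega
  · simp only [f, Function.update_apply]
    split_ifs with ht'
    · subst ht'; rw [Fin.lt_def] at hlt; rw [Fin.le_def]; simp only; omega
    · exact hle t

variable (K : Type u) [CommRing K]

theorem schubert_mono {τ τ' : Idx d n} (h : τ' ≤ τ) :
    schubertVanishing K d n τ ≤ schubertVanishing K d n τ' := fun _ hp =>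
  (mem_schubert K).2 fun A hA => (mem_schubert K).1 hp A fun φ hφ => hA φ fun h' => hφ (h'.trans h)

theorem sup_span_X_eq [IsDomain K] [Infinite K] (hd : 0 < d) (τ : Idx d n) (hτ : ∃ φ, φ < τ) :
    schubertVanishing K d n τ ⊔ Ideal.span {X τ} =
      ⨅ φ ∈ divisors τ, schubertVanishing K d n φ := by
  rw [iInf_subtype']
  refine eq_iInf_of K hd (fun φ : divisors τ => φ.1) _
    (((plIdealTop_le_vanishing K).trans (vanishing_le_schubert K τ)).trans le_sup_left) ?_ ?_
  · intro m c hc hno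
    rcases Nat.eq_zero_or_pos m with hm | hm
    · obtain ⟨φ, hφ⟩ := hτ
      obtain ⟨ψ, hψ, -⟩ := exists_divisor_ge hφ
      exact absurd ⟨⟨ψ, hψ⟩, fun k => absurd k.2 (by omega)⟩ hno
    · let k₀ : Fin m := ⟨0, hm⟩
      refine Ideal.mem_of_dvd _ (Finset.dvd_prod_of_mem _ (Finset.mem_univ k₀)) ?_
      by_cases h : c k₀ ≤ τ
      · rcases eq_or_lt_of_le h with he | hl
        · exact Submodule.mem_sup_right (he ▸ Ideal.mem_span_singleton_self _)
        · obtain ⟨ψ, hψ, hle⟩ := exists_divisor_ge hl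
          exact absurd ⟨⟨ψ, hψ⟩, fun k => (hc (show k₀ ≤ k from Nat.zero_le _)).trans hle⟩ hno
      · exact Submodule.mem_sup_left (X_mem_schubert K h)
  · refine le_iInf fun φ => sup_le (schubert_mono K φ.2.1.le) ?_
    rw [Ideal.span_singleton_le_iff_mem]
    exact X_mem_schubert K fun h => (lt_irrefl τ) (h.trans_lt φ.2.1)

end Groth.Agent.SMT
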