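import Groth.Agent.Lib.SMT.Pairing
import Groth.Agent.Lib.SMT.Divisor
import Mathlib.LinearAlgebra.Matrix.GeneralLinearGroup.Defs
import Mathlib.LinearAlgebra.Matrix.NonsingularInverse

/-!
# Invariants of the general linear group on pairs of matrices
-/

namespace Groth.Agent.SMT

open W4bk4grassmannian MvPolynomial

universe u

variable {K : Type u} [Field K] [Infinite K] {m n q : ℕ}

/-- The point of a pair of matrices. -/
def pairPt (U : Matrix (Fin m) (Fin n) K) (W : Matrix (Fin n) (Fin q) K) :
    (Fin m × Fin n) ⊕ (Fin n × Fin q) → K :=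
  Sum.elim (fun p => U p.1 p.2) (fun p => W p.1 p.2)

omit [Infinite K] in
theorem eval_pairingMap (U : Matrix (Fin m) (Fin n) K) (W : Matrix (Fin n) (Fin q) K)
    (p : MvPolynomial (Fin m × Fin q) K) :
    MvPolynomial.eval (pairPt U W) (pairingMap K n m q p) =
      MvPolynomial.eval (fun v : Fin m × Fin q => (U * W) v.1 v.2) p := by
  have h : (MvPolynomial.aeval (pairPt U W)).comp (pairingMap K n m q) =
      MvPolynomial.aeval (fun v : Fin m × Fin q => (U * W) v.1 v.2) := by
    refine MvPolynomial.algHom_ext fun v => ?_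
    simp [pairingMap, pairPt, Matrix.mul_apply]
  exact DFunLike.congr_fun h p

omit [Infinite K] in
theorem eval_glTranslate (A : GL (Fin n) K) (U : Matrix (Fin m) (Fin n) K) (W : Matrix (Fin n) (Fin q) K)
    (f : PairRing K n m q) :
    MvPolynomial.eval (pairPt U W) (glTranslate K n m q A f) =
      MvPolynomial.eval (pairPt (U * ((A⁻¹ : GL (Fin n) K) : Matrix (Fin n) (Fin n) K))
        ((A : Matrix (Fin n) (Fin n) K) * W)) f := by
  have h : (MvPolynomial.aeval (pairPt U W)).comp (glTranslate K n m q A) =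
      MvPolynomial.aeval (pairPt (U * ((A⁻¹ : GL (Fin n) K) : Matrix (Fin n) (Fin n) K))
        ((A : Matrix (Fin n) (Fin n) K) * W)) := by
    refine MvPolynomial.algHom_ext fun v => ?_
    rcases v with v | v <;> simp [glTranslate, pairPt, Matrix.mul_apply]
  exact DFunLike.congr_fun h f

/-- The leading `n × n` minor. -/
noncomputable def lead (hm : n ≤ m) (hq : n ≤ q) : MvPolynomial (Fin m × Fin q) K :=
  ((genMatrix K m q).submatrix (Fin.castLE hm) (Fin.castLE hq)).det

omit [Infinite K] in
theorem eval_lead (hm : n ≤ m) (hq : n ≤ q) (Y : Matrix (Fin m) (Fin q) K) :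
    MvPolynomial.eval (fun v : Fin m × Fin q => Y v.1 v.2) (lead hm hq) =
      (Y.submatrix (Fin.castLE hm) (Fin.castLE hq)).det := by
  rw [lead, RingHom.map_det]
  congr 1
  ext a b
  simp [genMatrix]

theorem pairing_lead_ne_zero (hm : n ≤ m) (hq : n ≤ q) :
    pairingMap K n m q (lead hm hq) ≠ 0 := by
  classical
  intro h0
  let U : Matrix (Fin m) (Fin n) K := Matrix.of fun i l => if i = Fin.castLE hm l then 1 else 0
  let W : Matrix (Fin n) (Fin q) K := Matrix.of fun l j => if j = Fin.castLE hq l then 1 else 0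
  have h := congrArg (MvPolynomial.eval (pairPt U W)) h0
  rw [eval_pairingMap, eval_lead, map_zero,
    show (U * W).submatrix (Fin.castLE hm) (Fin.castLE hq) = 1 by
      ext a b
      simp [U, W, Matrix.mul_apply, Matrix.one_apply, eq_comm], Matrix.det_one] at h
  exact one_ne_zero h

theorem exists_pow_mul_eq_pairing (hm : n ≤ m) (hq : n ≤ q) (f : PairRing K n m q)
    (hf : ∀ A : GL (Fin n) K, glTranslate K n m q A f = f) :
    ∃ (N : ℕ) (G : MvPolynomial (Fin m × Fin q) K),
      pairingMap K n m q (lead hm hq) ^ N * f = pairingMap K n m q G := by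
  classical
  let Y11 : Matrix (Fin n) (Fin n) (MvPolynomial (Fin m × Fin q) K) :=
    (genMatrix K m q).submatrix (Fin.castLE hm) (Fin.castLE hq)
  let e : (Fin m × Fin n) ⊕ (Fin n × Fin q) → MvPolynomial (Fin m × Fin q) K := Sum.elim
    (fun p => X (p.1, Fin.castLE hq p.2) * lead hm hq)
    (fun p => (Y11.adjugate * (genMatrix K m q).submatrix (Fin.castLE hm) id) p.1 p.2)
  refine ⟨f.totalDegree, ∑ x ∈ f.support, C (f.coeff x) *
    ((∏ v ∈ x.support, e v ^ x v) * lead hm hq ^ (f.totalDegree - ∑ v ∈ x.support, x v)),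
    mul_left_cancel₀ (pairing_lead_ne_zero hm hq) (MvPolynomial.funext fun a => ?_)⟩
  set U : Matrix (Fin m) (Fin n) K := Matrix.of fun i l => a (Sum.inl (i, l))
  set W : Matrix (Fin n) (Fin q) K := Matrix.of fun l j => a (Sum.inr (l, j))
  have ha : a = pairPt U W := funext fun v => by rcases v with v | v <;> rfl
  rw [ha, map_mul, map_mul, map_mul, map_pow, eval_pairingMap, eval_pairingMap, eval_lead]
  simp only [map_sum, map_mul, map_prod, map_pow, eval_C, eval_lead]
  set U1 : Matrix (Fin n) (Fin n) K := U.submatrix (Fin.castLE hm) id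
  set W1 : Matrix (Fin n) (Fin n) K := W.submatrix id (Fin.castLE hq)
  have hY : (U * W).submatrix (Fin.castLE hm) (Fin.castLE hq) = U1 * W1 := by
    ext a b; simp [U1, W1, Matrix.mul_apply]
  rw [hY]
  set δ := (U1 * W1).det with hδ
  by_cases h0 : δ = 0
  · rw [h0]; simp
  congr 1
  have hW : IsUnit W1.det := by
    refine isUnit_iff_ne_zero.2 fun h => h0 ?_
    rw [hδ, Matrix.det_mul, h, mul_zero]
  have hU : IsUnit U1.det := by
    refine isUnit_iff_ne_zero.2 fun h => h0 ?_
    rw [hδ, Matrix.det_mul, h, zero_mul]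
  let g : GL (Fin n) K := (Matrix.GeneralLinearGroup.mk'' W1 hW)⁻¹
  have hg : (g : Matrix (Fin n) (Fin n) K) = W1⁻¹ := by
    show ((Matrix.GeneralLinearGroup.mk'' W1 hW)⁻¹ : GL (Fin n) K).val = _
    rw [Matrix.coe_units_inv]
    rfl
  have hg' : ((g⁻¹ : GL (Fin n) K) : Matrix (Fin n) (Fin n) K) = W1 := by
    simp only [g, inv_inv]
    rfl
  have hfA := congrArg (MvPolynomial.eval (pairPt U W)) (hf g)
  rw [eval_glTranslate, hg, hg'] at hfA
  rw [← hfA, MvPolynomial.eval_eq, Finset.mul_sum]
  refine Finset.sum_congr rfl fun x hx => ?_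
  have hentry : ∀ v, MvPolynomial.eval (fun v : Fin m × Fin q => (U * W) v.1 v.2) (e v) =
      δ * pairPt (U * W1) (W1⁻¹ * W) v := by
    intro v
    rcases v with ⟨i, l⟩ | ⟨l, j⟩
    · simp only [e, Sum.elim_inl, map_mul, eval_X, eval_lead, hY, ← hδ, pairPt]
      rw [show (U * W1) i l = (U * W) i (Fin.castLE hq l) by simp [W1, Matrix.mul_apply]]
      ring
    · simp only [e, Sum.elim_inr, pairPt]
      have hadj : (MvPolynomial.eval fun v : Fin m × Fin q => (U * W) v.1 v.2).mapMatrix Y11.adjugate =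
          (U1 * W1).adjugate := by
        rw [RingHom.map_adjugate]
        congr 1
        rw [← hY]
        ext a b
        simp [Y11, genMatrix]
      have hmul : (MvPolynomial.eval fun v : Fin m × Fin q => (U * W) v.1 v.2)
          ((Y11.adjugate * (genMatrix K m q).submatrix (Fin.castLE hm) id) l j) =
          ((U1 * W1).adjugate * (U1 * W)) l j := by
        rw [← hadj]
        simp [Matrix.mul_apply, map_sum, genMatrix, U1]
      rw [hmul]
      have key : (U1 * W1).adjugate * (U1 * W) = δ • (W1⁻¹ * W) := by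
        have h1 : (U1 * W1).adjugate = δ • (U1 * W1)⁻¹ := by
          rw [Matrix.inv_def, smul_smul, Ring.inverse_eq_inv', mul_inv_cancel₀ h0, one_smul]
        rw [h1, Matrix.smul_mul, Matrix.mul_inv_rev, Matrix.mul_assoc, ← Matrix.mul_assoc U1⁻¹,
          Matrix.nonsing_inv_mul _ hU, Matrix.one_mul]
      rw [key, Matrix.smul_apply, smul_eq_mul]
  have hdeg : ∑ v ∈ x.support, x v ≤ f.totalDegree := MvPolynomial.le_totalDegree hx
  simp only [hentry, mul_pow, Finset.prod_mul_distrib, Finset.prod_pow_eq_pow_sum]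
  nth_rw 1 [show f.totalDegree = (∑ v ∈ x.support, x v) + (f.totalDegree - ∑ v ∈ x.support, x v) by omega]
  rw [pow_add]
  ring

/-- Saturation at the leading minor. -/
theorem saturate {k : ℕ} (hm : k + 1 ≤ m) (hq : k + 1 ≤ q) (G : MvPolynomial (Fin m × Fin q) K)
    (h : PairRing K (k + 1) m q)
    (hG : pairingMap K (k + 1) m q G = pairingMap K (k + 1) m q (lead hm hq) * h) :
    ∃ H, pairingMap K (k + 1) m q G =
      pairingMap K (k + 1) m q (lead hm hq) * pairingMap K (k + 1) m q H := by
  classical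
  have hd : 0 < q := by omega
  let M₀ : MinorIdx m q := ⟨k, ⟨Fin.castLE hm, fun _ _ h => h⟩, ⟨Fin.castLE hq, fun _ _ h => h⟩⟩
  set w := wIdx q m (k + 1) hm with hw
  have hbot : botCard (toIdx M₀) = k + 1 := botCard_toIdx M₀
  have hM₀ : toIdx M₀ = w := by
    refine le_antisymm ((le_wIdx_iff hm _).2 hbot.le) ?_
    have hne : w ≠ idIdx q m := fun h => by
      have h' := (le_wIdx_iff hm (toIdx M₀)).2 hbot.le
      rw [← hw, h] at h'
      have := le_antisymm h' (idIdx_le _)
      rw [(botCard_eq_zero_iff _).2 this] at hbot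
      omega
    obtain ⟨M, hM⟩ := exists_toIdx_eq hne
    rw [← hM, toIdx_le_iff]
    have hsz : M.1 ≤ k := by
      have := botCard_toIdx M
      rw [hM] at this
      have h' := (le_wIdx_iff hm w).1 le_rfl
      omega
    exact ⟨hsz, fun j j' e => ⟨by
      rw [Fin.le_def]
      show (j' : ℕ) ≤ _
      rw [← e]; exact id_le _ j, by
      rw [Fin.le_def]
      show (j' : ℕ) ≤ _
      rw [← e]; exact id_le _ j⟩⟩
  obtain ⟨u, hu⟩ := dehom_X_toIdx K M₀
  rw [hM₀] at hu
  have hlead : minorOf K M₀ = lead hm hq := rfl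
  rw [hlead] at hu
  -- linear preimages of the variables
  let Mv : Fin m × Fin q → MinorIdx m q := fun v => ⟨0, ⟨fun _ => v.1, fun a b h => absurd h (by omega)⟩,
    ⟨fun _ => v.2, fun a b h => absurd h (by omega)⟩⟩
  choose uv huv using fun v => dehom_X_toIdx K (Mv v)
  let e : Fin m × Fin q → PlRing K q (q + m) := fun v => ((uv v)⁻¹ : Kˣ).val • X (toIdx (Mv v))
  have he : ∀ v, dehom K q m (e v) = X v := fun v => by
    rw [map_smul, huv, ← Units.smul_def, inv_smul_smul, minorOf, Matrix.det_fin_one]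
    rfl
  let p : PlRing K q (q + m) := ∑ x ∈ G.support, C (G.coeff x) *
    ((∏ v ∈ x.support, e v ^ x v) * X (idIdx q m) ^ (G.totalDegree - ∑ v ∈ x.support, x v))
  have hp : dehom K q m p = G := by
    conv_rhs => rw [G.as_sum]
    simp only [p, map_sum, map_mul, map_prod, map_pow, he, dehom_X_id, one_pow, mul_one]
    refine Finset.sum_congr rfl fun x _ => ?_
    rw [monomial_eq, show dehom K q m (C (G.coeff x)) = C (G.coeff x) from (dehom K q m).commutes _]
    rfl
  have hlt : idIdx q m < w := by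
    refine lt_of_le_of_ne (idIdx_le _) fun h => ?_
    rw [← hM₀] at h
    rw [(botCard_eq_zero_iff _).2 h.symm] at hbot
    omega
  have hmem : p ∈ schubertVanishing K q (q + m) w ⊔ Ideal.span {X w} := by
    rw [sup_span_X_eq K hd _ ⟨_, hlt⟩]
    simp only [Submodule.mem_iInf]
    intro φ hφ
    rw [mem_schubert_iff_echMap K hd]
    obtain ⟨ψ, hψ⟩ := exists_factor K hm (le_refl (k + 1)) hφ.1.le
    have hzero : sigma K φ G = 0 := by
      have h1 : sigma K φ (lead hm hq) = 0 := by
        have h2 := sigma_dehom_X K φ w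
        rw [hu, Units.smul_def, map_smul, echMap_X_of_not_le K (fun h => (lt_irrefl φ) (hφ.1.trans_le h)),
          map_zero, zero_mul, smul_eq_zero] at h2
        exact h2.resolve_left u.ne_zero
      rw [hψ, AlgHom.comp_apply, hG, map_mul]
      rw [hψ, AlgHom.comp_apply] at h1
      rw [h1, zero_mul]
    set δ := (topL K (d := q) (r := m) φ).det
    have hδ : δ ≠ 0 := det_topL_ne_zero K φ
    let T := IsScalarTower.toAlgHom K (MatRing K q (q + m)) (FractionRing (MatRing K q (q + m)))
    have hev : ∀ v, T (echMap K φ (e v)) = δ * sigma K φ (X v) := fun v => by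
      rw [← he v, map_smul, map_smul, map_smul, map_smul, sigma_dehom_X, mul_smul_comm]
      congr 1
      show algebraMap _ _ _ = δ * (_ * δ⁻¹)
      field_simp
    have hid : T (echMap K φ (X (idIdx q m))) = δ := (det_genL K φ (idIdx q m)).symm
    have hG' : sigma K φ G = ∑ x ∈ G.support, algebraMap K _ (G.coeff x) *
        ∏ v ∈ x.support, sigma K φ (X v) ^ x v := by
      conv_lhs => rw [G.as_sum, map_sum]
      refine Finset.sum_congr rfl fun x _ => ?_
      rw [monomial_eq, map_mul, Finsupp.prod, map_prod]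
      simp only [map_pow]
      rw [show sigma K φ (C (G.coeff x)) = _ from (sigma K φ).commutes _]
    have hsum : T (echMap K φ p) = δ ^ G.totalDegree * sigma K φ G := by
      rw [hG', Finset.mul_sum]
      simp only [p, map_sum, map_mul, map_prod, map_pow, hev, hid]
      refine Finset.sum_congr rfl fun x hx => ?_
      have hdeg : ∑ v ∈ x.support, x v ≤ G.totalDegree := MvPolynomial.le_totalDegree hx
      rw [show T (echMap K φ (C (G.coeff x))) = algebraMap K _ (G.coeff x) from
        (T.comp (echMap K φ)).commutes _]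
      simp only [mul_pow, Finset.prod_mul_distrib, Finset.prod_pow_eq_pow_sum]
      nth_rw 2 [show G.totalDegree = (∑ v ∈ x.support, x v) + (G.totalDegree - ∑ v ∈ x.support, x v) by omega]
      rw [pow_add]
      ring
    rw [hzero, mul_zero] at hsum
    exact IsFractionRing.injective (MatRing K q (q + m)) (FractionRing (MatRing K q (q + m)))
      (hsum.trans (map_zero _).symm)
  obtain ⟨v, hv, x, hx, hvx⟩ := Submodule.mem_sup.1 hmem
  obtain ⟨a, rfl⟩ := Ideal.mem_span_singleton'.1 hx
  have hv0 : pairingMap K (k + 1) m q (dehom K q m v) = 0 := by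
    refine pairingMap_minorIdeal K m q ?_
    rw [← plIdeal_eq K hd] at hv
    have hle : plIdeal K w ≤
        (CAlgX.minorIdeal (genMatrix K m q) (k + 1 + 1)).comap (dehom K q m) := by
      refine Ideal.span_le.2 ?_
      rintro _ (hf | ⟨φ, hφ, rfl⟩)
      · show dehom K q m _ ∈ CAlgX.minorIdeal (genMatrix K m q) (k + 1 + 1)
        rw [dehom_vanishing K hd (Ideal.subset_span hf)]
        exact zero_mem _
      · refine dehom_X_mem K φ ?_
        rw [le_wIdx_iff] at hφ
        omega
    exact hle hv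
  refine ⟨(u : K) • dehom K q m a, ?_⟩
  rw [← hp, ← hvx, map_add, map_add, hv0, zero_add, map_mul, map_mul, hu, Units.smul_def, map_smul,
    map_smul, mul_smul_comm, mul_smul_comm, mul_comm]

theorem mem_range_pairingMap_of_le {k : ℕ} (hm : k + 1 ≤ m) (hq : k + 1 ≤ q) (f : PairRing K (k + 1) m q)
    (hf : ∀ A : GL (Fin (k + 1)) K, glTranslate K (k + 1) m q A f = f) :
    f ∈ (pairingMap K (k + 1) m q).range := by
  obtain ⟨N, G, hG⟩ := exists_pow_mul_eq_pairing hm hq f hf
  induction N generalizing G with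
  | zero => exact ⟨G, by simpa using hG.symm⟩
  | succ N ih =>
    rw [pow_succ', mul_assoc] at hG
    obtain ⟨H, hH⟩ := saturate hm hq G _ hG.symm
    exact ih H (mul_left_cancel₀ (pairing_lead_ne_zero hm hq) (hG.trans hH))

theorem mem_range_pairingMap (f : PairRing K n m q)
    (hf : ∀ A : GL (Fin n) K, glTranslate K n m q A f = f) :
    f ∈ (pairingMap K n m q).range := by
  classical
  rcases n with _ | k
  · exact ⟨C (f.coeff 0), ((pairingMap K 0 m q).commutes _).trans (MvPolynomial.eq_C_of_isEmpty f).symm⟩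
  have hm : m ≤ max m (k + 1) := le_max_left _ _
  have hq : q ≤ max q (k + 1) := le_max_left _ _
  let ι : (Fin m × Fin (k + 1)) ⊕ (Fin (k + 1) × Fin q) →
      (Fin (max m (k + 1)) × Fin (k + 1)) ⊕ (Fin (k + 1) × Fin (max q (k + 1))) :=
    Sum.map (fun p => (Fin.castLE hm p.1, p.2)) (fun p => (p.1, Fin.castLE hq p.2))
  have hf' : ∀ A : GL (Fin (k + 1)) K,
      glTranslate K (k + 1) (max m (k + 1)) (max q (k + 1)) A (rename ι f) = rename ι f := by
    intro A
    have h : (glTranslate K (k + 1) (max m (k + 1)) (max q (k + 1)) A).comp (rename ι) =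
        (rename ι).comp (glTranslate K (k + 1) m q A) := by
      refine MvPolynomial.algHom_ext fun v => ?_
      rcases v with v | v <;> simp [glTranslate, ι, map_sum]
    exact (DFunLike.congr_fun h f).trans (congrArg (rename ι) (hf A))
  obtain ⟨G, hG⟩ := mem_range_pairingMap_of_le (le_max_right _ _) (le_max_right _ _) (rename ι f) hf'
  let π : PairRing K (k + 1) (max m (k + 1)) (max q (k + 1)) →ₐ[K] PairRing K (k + 1) m q :=
    MvPolynomial.aeval (Sum.elim
      (fun p => if h : p.1.val < m then X (Sum.inl (⟨p.1.val, h⟩, p.2)) else 0)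
      (fun p => if h : p.2.val < q then X (Sum.inr (p.1, ⟨p.2.val, h⟩)) else 0))
  let ρ : MvPolynomial (Fin (max m (k + 1)) × Fin (max q (k + 1))) K →ₐ[K] MvPolynomial (Fin m × Fin q) K :=
    MvPolynomial.aeval fun p => if h : p.1.val < m ∧ p.2.val < q then X (⟨p.1.val, h.1⟩, ⟨p.2.val, h.2⟩) else 0
  have h1 : π (rename ι f) = f := by
    have h : π.comp (rename ι) = AlgHom.id K _ := by
      refine MvPolynomial.algHom_ext fun v => ?_
      rcases v with v | v <;> simp [π, ι]
    exact DFunLike.congr_fun h f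
  have h2 : π.comp (pairingMap K (k + 1) (max m (k + 1)) (max q (k + 1))) =
      (pairingMap K (k + 1) m q).comp ρ := by
    refine MvPolynomial.algHom_ext fun v => ?_
    by_cases h : v.1.val < m <;> by_cases h' : v.2.val < q <;>
      simp [π, ρ, pairingMap, map_sum, h, h']
  exact ⟨ρ G, (DFunLike.congr_fun h2 G).symm.trans ((congrArg π hG).trans h1)⟩

end Groth.Agent.SMT
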