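import Groth.Agent.Lib.SMT.Idx
import Mathlib.LinearAlgebra.Matrix.Rank
import Mathlib.LinearAlgebra.Matrix.NonsingularInverse
import Mathlib.LinearAlgebra.Dimension.StrongRankCondition
import Mathlib.LinearAlgebra.Matrix.ToLin

/-!
# A full rank matrix has a nonzero maximal minor
-/

namespace Groth.Agent.SMT

open W4bk4grassmannian MvPolynomial

universe u

variable {K : Type u} [Field K] {d n : ℕ}

theorem exists_minor_ne_zero {A : Matrix (Fin n) (Fin d) K} (hA : LinearIndependent K A.transpose) :
    ∃ θ : Idx d n, (A.submatrix θ.1 id).det ≠ 0 := by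
  classical
  have hspan : Submodule.span K (Set.range A) = ⊤ := by
    refine Submodule.eq_top_of_finrank_eq ?_
    have h1 := LinearIndependent.rank_matrix (M := A.transpose) hA
    rw [Matrix.rank_transpose] at h1
    change Module.finrank K (Submodule.span K (Set.range A.row)) = _
    rw [← Matrix.rank_eq_finrank_span_row, h1, Fintype.card_fin, Module.finrank_fin_fun]
  obtain ⟨f, hf, -, hli⟩ := Submodule.exists_fun_fin_finrank_span_eq K (Set.range A)
  have hd' : Module.finrank K (Submodule.span K (Set.range A)) = d := by
    rw [hspan, finrank_top, Module.finrank_fin_fun]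
  choose a ha using hf
  let a₀ : Fin d → Fin n := fun i => a (Fin.cast hd'.symm i)
  have hM : (A.submatrix a₀ id).det ≠ 0 := by
    rw [← isUnit_iff_ne_zero, ← Matrix.isUnit_iff_isUnit_det, ← Matrix.linearIndependent_rows_iff_isUnit]
    have : (A.submatrix a₀ id).row = f ∘ Fin.cast hd'.symm := funext fun i => ha _
    rw [this]
    exact hli.comp _ (Fin.cast_injective _)
  by_contra hall
  push Not at hall
  apply hM
  rw [← aeval_coord (K := K) A a₀, coord]
  split_ifs with hc
  · simp [hall]
  · simp

end Groth.Agent.SMT
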