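import Groth.Agent.Lib.SMT.Skew
import Groth.Agent.Lib.SMT.RankMinor
import Mathlib.RingTheory.Adjoin.Basic

/-!
# Invariants of the special linear group on matrices
-/

namespace Groth.Agent.SMT

open W4bk4grassmannian MvPolynomial

universe u

variable {K : Type u} [Field K] [Infinite K] {d n : ℕ}

theorem eval_pluckerMap (A : Matrix (Fin n) (Fin d) K) (p : PlRing K d n) :
    MvPolynomial.eval (fun q : Fin n × Fin d => A q.1 q.2) (pluckerMap K d n p) = evalMinors K d n A p := by
  have : (MvPolynomial.aeval (fun q : Fin n × Fin d => A q.1 q.2)).comp (pluckerMap K d n) =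
      evalMinors K d n A := by
    refine MvPolynomial.algHom_ext fun θ => ?_
    simp only [AlgHom.comp_apply, pluckerMap, evalMinors, aeval_X, minor]
    rw [AlgHom.map_det]
    congr 1
    ext s t
    simp
  exact DFunLike.congr_fun this p

theorem eval_rightTranslate (g : Matrix.SpecialLinearGroup (Fin d) K) (A : Matrix (Fin n) (Fin d) K)
    (f : MatRing K d n) :
    MvPolynomial.eval (fun q : Fin n × Fin d => A q.1 q.2) (rightTranslate K d n g f) =
      MvPolynomial.eval (fun q : Fin n × Fin d => (A * (g : Matrix (Fin d) (Fin d) K)) q.1 q.2) f := by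
  have : (MvPolynomial.aeval (fun q : Fin n × Fin d => A q.1 q.2)).comp (rightTranslate K d n g) =
      MvPolynomial.aeval (fun q : Fin n × Fin d => (A * (g : Matrix (Fin d) (Fin d) K)) q.1 q.2) := by
    refine MvPolynomial.algHom_ext fun q => ?_
    simp [rightTranslate, Matrix.mul_apply]
  exact DFunLike.congr_fun this f

theorem exists_pow_mul_eq (hd : 0 < d) (ρ : Idx d n) (f : MatRing K d n)
    (hf : ∀ g : Matrix.SpecialLinearGroup (Fin d) K, rightTranslate K d n g f = f) :
    ∃ (N : ℕ) (F : PlRing K d n), pluckerMap K d n (X ρ) ^ N * f = pluckerMap K d n F := by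
  classical
  let i₀ : Fin d := ⟨0, hd⟩
  let e : Fin n × Fin d → PlRing K d n := fun q =>
    coord K d n (Function.update ρ.1 q.2 q.1) * if q.2 = i₀ then X ρ else 1
  set N := f.totalDegree
  refine ⟨N, ∑ x ∈ f.support, C (f.coeff x) *
    ((∏ q ∈ x.support, e q ^ x q) * X ρ ^ (N - ∑ q ∈ x.support, x q)), ?_⟩
  have hne : pluckerMap K d n (X ρ) ≠ 0 := by
    intro h0
    have h := congrArg (MvPolynomial.eval
      (fun q : Fin n × Fin d => Matrix.of (fun s t => if s = ρ.1 t then (1 : K) else 0) q.1 q.2)) h0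
    rw [eval_pluckerMap, map_zero, evalMinors, aeval_X] at h
    rw [show (Matrix.of fun s t => if s = ρ.1 t then (1 : K) else 0).submatrix ρ.1 id = 1 by
      ext a b; simp [Matrix.one_apply, ρ.2.injective.eq_iff], Matrix.det_one] at h
    exact one_ne_zero h
  refine mul_left_cancel₀ hne (MvPolynomial.funext fun a => ?_)
  set A : Matrix (Fin n) (Fin d) K := Matrix.of fun s t => a (s, t)
  have ha : a = fun q : Fin n × Fin d => A q.1 q.2 := rfl
  rw [map_mul, map_mul, map_mul, map_pow, ha, eval_pluckerMap, eval_pluckerMap]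
  simp only [map_sum, map_mul, map_prod, map_pow]
  rw [show evalMinors K d n A (X ρ) = (A.submatrix ρ.1 id).det by rw [evalMinors, aeval_X]]
  set δ := (A.submatrix ρ.1 id).det with hδ
  by_cases h0 : δ = 0
  · rw [h0]; simp
  congr 1
  -- move to the normalised matrix
  let D : Matrix (Fin d) (Fin d) K := Matrix.diagonal fun i => if i = i₀ then δ else 1
  let G : Matrix (Fin d) (Fin d) K := (A.submatrix ρ.1 id)⁻¹ * D
  have hG : G.det = 1 := by
    rw [Matrix.det_mul, Matrix.det_nonsing_inv, Ring.inverse_eq_inv', Matrix.det_diagonal,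
      Finset.prod_ite_eq' Finset.univ i₀ (fun _ => δ), if_pos (Finset.mem_univ _), ← hδ, inv_mul_cancel₀ h0]
  have hfA := congrArg (MvPolynomial.eval (fun q : Fin n × Fin d => A q.1 q.2)) (hf ⟨G, hG⟩)
  rw [eval_rightTranslate] at hfA
  rw [← hfA, MvPolynomial.eval_eq, Finset.mul_sum]
  refine Finset.sum_congr rfl fun x hx => ?_
  have hentry : ∀ q : Fin n × Fin d, evalMinors K d n A (e q) = δ * (A * G) q.1 q.2 := by
    intro q
    rw [map_mul]
    have hrow : A.submatrix (Function.update ρ.1 q.2 q.1) id = (A.submatrix ρ.1 id).updateRow q.2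
        (∑ k, (A * (A.submatrix ρ.1 id)⁻¹) q.1 k • (A.submatrix ρ.1 id) k) := by
      ext s t
      by_cases hs : s = q.2
      · subst hs
        rw [Matrix.updateRow_self, Matrix.submatrix_apply, Function.update_self, Finset.sum_apply]
        have : (A * (A.submatrix ρ.1 id)⁻¹ * (A.submatrix ρ.1 id)) q.1 t = A q.1 t := by
          rw [Matrix.mul_assoc, Matrix.nonsing_inv_mul _ (isUnit_iff_ne_zero.2 h0), Matrix.mul_one]
        rw [id, ← this, Matrix.mul_apply]
        rfl
      · rw [Matrix.updateRow_ne hs, Matrix.submatrix_apply, Function.update_of_ne hs]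
        rfl
    rw [show evalMinors K d n A (coord K d n (Function.update ρ.1 q.2 q.1)) =
      (A.submatrix (Function.update ρ.1 q.2 q.1) id).det from aeval_coord A _, hrow,
      Matrix.det_updateRow_sum, smul_eq_mul, ← hδ]
    simp only [G]
    rw [← Matrix.mul_assoc, Matrix.mul_diagonal]
    split_ifs
    · rw [show evalMinors K d n A (X ρ) = δ by rw [evalMinors, aeval_X]]; ring
    · simp; ring
  have hdeg : ∑ q ∈ x.support, x q ≤ N := MvPolynomial.le_totalDegree hx
  simp only [hentry, mul_pow, Finset.prod_mul_distrib, Finset.prod_pow_eq_pow_sum]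
  rw [show evalMinors K d n A (C (f.coeff x)) = f.coeff x from aeval_C _ _]
  nth_rw 1 [show N = (∑ q ∈ x.support, x q) + (N - ∑ q ∈ x.support, x q) by omega]
  rw [pow_add]
  ring

theorem eval_vanishing {p : PlRing K d n} (hp : p ∈ vanishing K d n) : pluckerMap K d n p = 0 :=
  MvPolynomial.funext fun a => by
    rw [show a = fun q : Fin n × Fin d => (Matrix.of fun s t => a (s, t) : Matrix _ _ K) q.1 q.2 from rfl,
      eval_pluckerMap, (mem_vanishing K).1 hp, map_zero]

theorem mem_range_pluckerMap (hd : 0 < d) (hdn : d < n) (f : MatRing K d n)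
    (hf : ∀ g : Matrix.SpecialLinearGroup (Fin d) K, rightTranslate K d n g f = f) :
    f ∈ (pluckerMap K d n).range := by
  obtain ⟨N, F, hF⟩ := exists_pow_mul_eq hd (topIdx hdn.le) f hf
  induction N generalizing F with
  | zero => exact ⟨F, by simpa using hF.symm⟩
  | succ N ih =>
    have hlt : (⟨fun t => ⟨t.val, lt_trans t.isLt hdn⟩, fun a b h => h⟩ : Idx d n) < topIdx hdn.le := by
      refine lt_of_le_of_ne (le_topIdx _ _) fun h => ?_
      have := congrArg (fun θ : Idx d n => (θ.1 ⟨0, hd⟩).val) h
      simp [topIdx] at this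
      omega
    have hF' : F ∈ schubertVanishing K d n (topIdx hdn.le) ⊔ Ideal.span {X (topIdx hdn.le)} := by
      rw [sup_span_X_eq K hd _ ⟨_, hlt⟩]
      simp only [Submodule.mem_iInf]
      intro φ hφ
      refine (mem_schubert K).2 fun A hA => ?_
      rw [← eval_pluckerMap, ← hF, map_mul, map_pow, eval_pluckerMap, evalMinors, aeval_X,
        hA _ (fun h => (lt_irrefl φ) (hφ.1.trans_le h)), zero_pow N.succ_ne_zero, zero_mul]
    obtain ⟨v, hv, u, hu, rfl⟩ := Submodule.mem_sup.1 hF'
    obtain ⟨q, rfl⟩ := Ideal.mem_span_singleton'.1 hu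
    rw [schubert_topIdx] at hv
    rw [map_add, eval_vanishing hv, zero_add, map_mul, pow_succ'] at hF
    refine ih q (mul_left_cancel₀ (a := pluckerMap K d n (X (topIdx hdn.le))) ?_ ?_)
    · intro h0
      have h := congrArg (MvPolynomial.eval (fun p : Fin n × Fin d => Matrix.of
        (fun s t => if s = (topIdx hdn.le).1 t then (1 : K) else 0) p.1 p.2)) h0
      rw [eval_pluckerMap, map_zero, evalMinors, aeval_X] at h
      rw [show (Matrix.of fun s t => if s = (topIdx hdn.le).1 t then (1 : K) else 0).submatrix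
          (topIdx hdn.le).1 id = 1 by
        ext a b; simp [Matrix.one_apply, (topIdx hdn.le).2.injective.eq_iff], Matrix.det_one] at h
      exact one_ne_zero h
    · rw [← mul_assoc, hF, mul_comm]

end Groth.Agent.SMT
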