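import Groth.Agent.Lib.SMT.Degen

/-!
# The two combinatorial degenerations of a Schubert variety
-/

namespace Groth.Agent.SMT

open W4bk4grassmannian

attribute [local instance] Polynomial.algebra

universe u

variable {K : Type u} [Field K] [Infinite K] {d n : ℕ} (hd : 0 < d) (w : Idx d n)

theorem pot_lt_skew {a b : Idx d n} (hab : ¬ a ≤ b) (hba : ¬ b ≤ a) {t : CMS w}
    (ht' : (stdBasis K hd w).repr (Ideal.Quotient.mk _ (mX K {a, b})) t ≠ 0) :
    t.1.card = 2 ∧ ht a ^ 2 + ht b ^ 2 < (t.1.map fun a => ht a ^ 2).sum := by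
  classical
  set q := Ideal.Quotient.mkₐ K (schubertVanishing K d n w)
  have h := hasStraightening_of_shuffle q (fun i j r _ => Ideal.Quotient.eq_zero_iff_mem.2
      (vanishing_le_schubert K w (shuffleRel_mem_vanishing K i j r))) a b hab hba
  have key : Ideal.Quotient.mk (schubertVanishing K d n w) (mX K {a, b}) ∈ Submodule.span K
      (stdBasis K hd w '' {t | t.1.card = 2 ∧ ht a ^ 2 + ht b ^ 2 < (t.1.map fun a => ht a ^ 2).sum}) := by
    have e : Ideal.Quotient.mk (schubertVanishing K d n w) (mX K {a, b}) =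
        q (MvPolynomial.X a) * q (MvPolynomial.X b) := by
      rw [← map_mul]; simp [q, mX]
    rw [e]
    refine Submodule.span_le.2 ?_ h
    rintro _ ⟨c, e, hlt, rfl⟩
    have h' := mk_mX_mem_span K hd w ({c, e} : Multiset (Idx d n))
    rw [show q (MvPolynomial.X c) * q (MvPolynomial.X e) =
        Ideal.Quotient.mk (schubertVanishing K d n w) (mX K {c, e}) by rw [← map_mul]; simp [q, mX]]
    rw [show (stdBasis K hd w : CMS w → _) = fun t => Ideal.Quotient.mk _ (mX K t.1) from
      funext fun t => stdBasis_apply K hd w t]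
    refine Submodule.span_mono (Set.image_mono ?_) h'
    intro t ht''
    obtain ⟨h1, h2⟩ := ht''
    simp at h1 h2
    exact ⟨h1, lt_of_lt_of_le hlt h2⟩
  exact (stdBasis K hd w).mem_span_image.1 key (Finsupp.mem_support_iff.2 ht')

/-- The Stanley–Reisner weight. -/
def srWeight (θ : Idx d n) : ℕ := (Finset.univ.sup (ht : Idx d n → ℕ)) ^ 2 - ht θ ^ 2

theorem vsum_srWeight (t : Multiset (Idx d n)) :
    vsum srWeight t + (t.map fun a => ht a ^ 2).sum =
      t.card * (Finset.univ.sup (ht : Idx d n → ℕ)) ^ 2 := by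
  induction t using Multiset.induction with
  | empty => simp [vsum]
  | cons a t ih =>
    have := Nat.pow_le_pow_left (Finset.le_sup (f := (ht : Idx d n → ℕ)) (Finset.mem_univ a)) 2
    simp only [vsum, srWeight, Multiset.map_cons, Multiset.sum_cons, Multiset.card_cons] at ih ⊢
    rw [Nat.succ_mul]
    omega

theorem weightLE_sr : WeightLE K hd w srWeight := by
  intro s t h
  obtain ⟨h1, h2⟩ := card_eq_and_pot_le K hd w s h
  have hs := vsum_srWeight (d := d) (n := n) s
  have ht' := vsum_srWeight (d := d) (n := n) t.1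
  rw [h1] at ht'
  omega

/-- The Hibi weight. -/
noncomputable def hibiWeight (θ : Idx d n) : ℕ := wt (diag θ)

theorem vsum_hibiWeight (t : Multiset (Idx d n)) : vsum hibiWeight t = wt (mdiag t) := by
  rw [mdiag, map_multiset_sum, Multiset.map_map]
  rfl

theorem weightLE_hibi : WeightLE K hd w hibiWeight := by
  intro s t h
  simp only [vsum_hibiWeight]
  exact wt_le K hd w s h

variable (v : Idx d n → ℕ) (hv : WeightLE K hd w v)

theorem genMap_X_mul_X (a b : Below w) :
    (genMap hd w v hv (MvPolynomial.X a * MvPolynomial.X b) : Polynomial _) =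
      Polynomial.C (Ideal.Quotient.mk (schubertVanishing K d n w) (mX K {a.1, b.1})) *
        Polynomial.X ^ vsum v {a.1, b.1} := by
  have h := genMap_prod hd w v hv {a, b}
  simpa [U] using h

theorem exists_family (I : Ideal (MvPolynomial (Below w) K))
    (hI : ∀ f ∈ I, genMap hd w v hv f ∈
      Ideal.span {algebraMap (Polynomial K) (degRing hd w v hv) Polynomial.X})
    (hst : HasStraightening (fun a : Below w => ht a.1)
      (fun a => Ideal.Quotient.mk I (MvPolynomial.X a)) K) :
    ∃ (R : Type u) (_ : CommRing R) (_ : Algebra K R) (_ : Algebra (Polynomial K) R)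
      (_ : IsScalarTower K (Polynomial K) R),
      Module.Free (Polynomial K) R ∧
      Nonempty ((R ⧸ Ideal.span {algebraMap (Polynomial K) R Polynomial.X}) ≃ₐ[K]
        (MvPolynomial (Below w) K ⧸ I)) ∧
      ∀ c : K, c ≠ 0 →
        Nonempty ((R ⧸ Ideal.span {algebraMap (Polynomial K) R (Polynomial.X - Polynomial.C c)}) ≃ₐ[K]
          (PlRing K d n ⧸ schubertVanishing K d n w)) :=
  ⟨degRing hd w v hv, inferInstance, inferInstance, inferInstance, inferInstance,
    Module.Free.of_basis (degBasis hd w v hv), nonempty_special hd w v hv I hI hst,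
    fun _ hc => nonempty_fibre hd w v hv hc⟩

include hd in
theorem exists_sr_family :
    ∃ (R : Type u) (_ : CommRing R) (_ : Algebra K R) (_ : Algebra (Polynomial K) R)
      (_ : IsScalarTower K (Polynomial K) R),
      Module.Free (Polynomial K) R ∧
      Nonempty ((R ⧸ Ideal.span {algebraMap (Polynomial K) R Polynomial.X}) ≃ₐ[K]
        (MvPolynomial (Below w) K ⧸ srIdeal K w)) ∧
      ∀ c : K, c ≠ 0 →
        Nonempty ((R ⧸ Ideal.span {algebraMap (Polynomial K) R (Polynomial.X - Polynomial.C c)}) ≃ₐ[K]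
          (PlRing K d n ⧸ schubertVanishing K d n w)) := by
  refine exists_family hd w srWeight (weightLE_sr hd w) _ ?_ ?_
  · intro f hf
    refine (Ideal.span_le (I := (Ideal.span {algebraMap (Polynomial K)
      (degRing hd w srWeight (weightLE_sr hd w)) Polynomial.X}).comap
        (genMap hd w srWeight (weightLE_sr hd w)))).2 ?_ hf
    rintro _ ⟨a, b, hab, hba, rfl⟩
    refine sub_mem_span_X hd w _ _ (genMap_X_mul_X hd w _ _ a b) fun t h => ?_
    obtain ⟨h1, h2⟩ := pot_lt_skew hd w (a := a.1) (b := b.1) hab hba h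
    have hs := vsum_srWeight (d := d) (n := n) {a.1, b.1}
    have ht' := vsum_srWeight (d := d) (n := n) t.1
    simp only [Multiset.insert_eq_cons, Multiset.map_cons, Multiset.sum_cons, Multiset.map_singleton,
      Multiset.sum_singleton, Multiset.card_cons, Multiset.card_singleton] at hs ⊢
    rw [h1] at ht'
    omega
  · intro a b hab hba
    have h0 : Ideal.Quotient.mk (srIdeal K w) (MvPolynomial.X a) *
        Ideal.Quotient.mk (srIdeal K w) (MvPolynomial.X b) = 0 := by
      rw [← map_mul, Ideal.Quotient.eq_zero_iff_mem]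
      exact Ideal.subset_span ⟨a, b, hab, hba, rfl⟩
    simp only [h0]
    exact zero_mem _

include hd in
theorem exists_hibi_family :
    ∃ (R : Type u) (_ : CommRing R) (_ : Algebra K R) (_ : Algebra (Polynomial K) R)
      (_ : IsScalarTower K (Polynomial K) R),
      Module.Free (Polynomial K) R ∧
      Nonempty ((R ⧸ Ideal.span {algebraMap (Polynomial K) R Polynomial.X}) ≃ₐ[K]
        (MvPolynomial (Below w) K ⧸ hibiIdeal K w)) ∧
      ∀ c : K, c ≠ 0 →
        Nonempty ((R ⧸ Ideal.span {algebraMap (Polynomial K) R (Polynomial.X - Polynomial.C c)}) ≃ₐ[K]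
          (PlRing K d n ⧸ schubertVanishing K d n w)) := by
  refine exists_family hd w hibiWeight (weightLE_hibi hd w) _ ?_ ?_
  · intro f hf
    refine (Ideal.span_le (I := (Ideal.span {algebraMap (Polynomial K)
      (degRing hd w hibiWeight (weightLE_hibi hd w)) Polynomial.X}).comap
        (genMap hd w hibiWeight (weightLE_hibi hd w)))).2 ?_ hf
    rintro _ ⟨a, b, rfl⟩
    have hdg : vsum hibiWeight ({(Below.sup a b).1, (Below.inf a b).1} : Multiset (Idx d n)) =
        vsum hibiWeight {a.1, b.1} := by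
      simp [vsum_hibiWeight, mdiag, Below.sup, Below.inf, ← diag_sup_add_diag_inf a.1 b.1]
    refine sub_mem_span_X hd w _ _ (y := Ideal.Quotient.mk _ (mX K {a.1, b.1}) -
      Ideal.Quotient.mk _ (mX K {sup a.1 b.1, inf a.1 b.1})) (D := vsum hibiWeight {a.1, b.1})
      ?_ fun t h => ?_
    · rw [map_sub, Subalgebra.coe_sub, genMap_X_mul_X, genMap_X_mul_X, hdg, map_sub, sub_mul]
      rfl
    · rw [vsum_hibiWeight, vsum_hibiWeight]
      exact wt_lt_skew K hd w a.2 b.2 h
  · intro a b hab hba
    have h0 : Ideal.Quotient.mk (hibiIdeal K w) (MvPolynomial.X a) *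
        Ideal.Quotient.mk (hibiIdeal K w) (MvPolynomial.X b) =
        Ideal.Quotient.mk (hibiIdeal K w) (MvPolynomial.X (Below.sup a b)) *
        Ideal.Quotient.mk (hibiIdeal K w) (MvPolynomial.X (Below.inf a b)) := by
      rw [← map_mul, ← map_mul, Ideal.Quotient.eq]
      exact Ideal.subset_span ⟨a, b, rfl⟩
    simp only [h0]
    refine Submodule.subset_span ⟨_, _, ?_, rfl⟩
    show ht a.1 ^ 2 + ht b.1 ^ 2 < ht (sup a.1 b.1) ^ 2 + ht (inf a.1 b.1) ^ 2
    have h1 := ht_strictMono (ne_of_sup (τ := a.1) (φ := b.1) hba)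
    have h2 := ht_strictMono (ne_of_inf (τ := a.1) (φ := b.1) hab)
    have h3 := ht_sup_add_ht_inf a.1 b.1
    have h4 : ht b.1 < ht (sup a.1 b.1) := by omega
    nlinarith

end Groth.Agent.SMT
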