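import Groth.Agent.Lib.SMT.CMBasic
import Mathlib.RingTheory.GradedAlgebra.Radical
import Mathlib.RingTheory.GradedAlgebra.FiniteType
import Mathlib.RingTheory.GradedAlgebra.Noetherian
import Mathlib.RingTheory.Ideal.Quotient.Operations

/-!
# Dimension and depth at the vertex of a cone
-/

namespace Groth.Agent.SMT

open DirectSum

universe u v

variable {K : Type u} [Field K] {A : Type v} [CommRing A] [Algebra K A] (𝒜 : ℕ → Submodule K A) [GradedAlgebra 𝒜]

local notation "M₊" => HomogeneousIdeal.toIdeal (HomogeneousIdeal.irrelevant 𝒜)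

theorem isField_zero [Nontrivial A] (h0 : ∀ a ∈ 𝒜 0, ∃ c : K, algebraMap K A c = a) : IsField (𝒜 0) where
  exists_pair_ne := ⟨0, 1, fun h => zero_ne_one (congrArg Subtype.val h)⟩
  mul_comm := mul_comm
  mul_inv_cancel {a} ha := by
    obtain ⟨c, hc⟩ := h0 a.1 a.2
    have hc0 : c ≠ 0 := fun h => ha (Subtype.ext (by rw [← hc, h, map_zero]; rfl))
    refine ⟨⟨algebraMap K A c⁻¹, SetLike.algebraMap_mem_graded 𝒜 c⁻¹⟩, Subtype.ext ?_⟩
    show a.1 * algebraMap K A c⁻¹ = 1
    rw [← hc, ← map_mul, mul_inv_cancel₀ hc0, map_one]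

theorem finiteType_zero [IsNoetherianRing A] : Algebra.FiniteType (𝒜 0) A := by
  classical
  obtain ⟨s, hs⟩ := IsNoetherian.noetherian (R := A) (M₊ : Ideal A)
  let E : Finset A := s.biUnion fun f => ((decompose 𝒜 f).support.filter (0 < ·)).image
    fun i => (decompose 𝒜 f i : A)
  have hE : ∀ e ∈ (E : Set A), ∃ i, 0 < i ∧ e ∈ 𝒜 i := by
    intro e he
    obtain ⟨f, -, he⟩ := Finset.mem_biUnion.1 he
    obtain ⟨i, hi, rfl⟩ := Finset.mem_image.1 he
    exact ⟨i, (Finset.mem_filter.1 hi).2, (decompose 𝒜 f i).2⟩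
  have hspan : M₊ ≤ Ideal.span (E : Set A) := by
    rw [← hs]
    refine Submodule.span_le.2 fun f hf => ?_
    have hf0 : (decompose 𝒜 f 0 : A) = 0 :=
      (HomogeneousIdeal.mem_irrelevant_iff 𝒜 f).1 (show f ∈ M₊ from hs.le (Submodule.subset_span hf))
    rw [← DirectSum.sum_support_decompose 𝒜 f]
    refine sum_mem fun i hi => ?_
    rcases Nat.eq_zero_or_pos i with rfl | hpos
    · rw [hf0]; exact zero_mem _
    · exact Ideal.subset_span (Finset.mem_biUnion.2 ⟨f, hf,
        Finset.mem_image.2 ⟨i, Finset.mem_filter.2 ⟨hi, hpos⟩, rfl⟩⟩)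
  have key : ∀ n : ℕ, ∀ x ∈ 𝒜 n, x ∈ Algebra.adjoin (𝒜 0) (E : Set A) := by
    intro n
    induction n using Nat.strong_induction_on with
    | _ n ih =>
      intro x hx
      rcases Nat.eq_zero_or_pos n with rfl | hn
      · exact Subalgebra.algebraMap_mem (Algebra.adjoin (𝒜 0) (E : Set A)) (⟨x, hx⟩ : 𝒜 0)
      · have hxs : x ∈ Ideal.span (E : Set A) := hspan (HomogeneousIdeal.mem_irrelevant_of_mem 𝒜 hn hx)
        have main : ∀ y ∈ Ideal.span (E : Set A), ∀ z : A,
            (decompose 𝒜 (z * y) n : A) ∈ Algebra.adjoin (𝒜 0) (E : Set A) := by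
          intro y hy
          induction hy using Submodule.span_induction with
          | mem e he =>
            intro z
            obtain ⟨i, hi, hei⟩ := hE e he
            rw [coe_decompose_mul_of_right_mem 𝒜 n hei]
            split
            · exact mul_mem (ih (n - i) (by omega) _ (decompose 𝒜 z (n - i)).2) (Algebra.subset_adjoin he)
            · exact zero_mem _
          | zero => intro z; simp
          | add a b _ _ ha hb => intro z; simpa [mul_add] using add_mem (ha z) (hb z)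
          | smul c a _ ha => intro z; simpa [smul_eq_mul, mul_assoc] using ha (z * c)
        have := main x hxs 1
        rwa [one_mul, decompose_of_mem_same 𝒜 hx] at this
  refine ⟨E, eq_top_iff.2 fun x _ => ?_⟩
  rw [← DirectSum.sum_support_decompose 𝒜 x]
  exact sum_mem fun n _ => key n _ (decompose 𝒜 x n).2

theorem le_irrelevant (h0 : ∀ a ∈ 𝒜 0, ∃ c : K, algebraMap K A c = a) {P : Ideal A} (hP : P.IsHomogeneous 𝒜)
    (hne : P ≠ ⊤) : P ≤ M₊ := by
  intro f hf
  refine (HomogeneousIdeal.mem_irrelevant_iff 𝒜 f).2 ?_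
  rw [GradedRing.proj_apply]
  by_contra hne0
  obtain ⟨c, hc⟩ := h0 _ (decompose 𝒜 f 0).2
  have hc0 : c ≠ 0 := fun h => hne0 (by rw [← hc, h, map_zero])
  exact hne (Ideal.eq_top_of_isUnit_mem _ (hP 0 hf) (hc ▸ (isUnit_iff_ne_zero.2 hc0).map (algebraMap K A)))

theorem isMaximal_irrelevant [Nontrivial A] (h0 : ∀ a ∈ 𝒜 0, ∃ c : K, algebraMap K A c = a) : M₊.IsMaximal := by
  constructor
  refine ⟨?_, fun J hJ => ?_⟩
  · rw [Ne, Ideal.eq_top_iff_one]
    intro h
    have := (HomogeneousIdeal.mem_irrelevant_iff 𝒜 1).1 h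
    rw [GradedRing.proj_apply, decompose_of_mem_same 𝒜 (SetLike.one_mem_graded 𝒜)] at this
    exact one_ne_zero this
  · obtain ⟨f, hfJ, hf⟩ := SetLike.exists_of_lt hJ
    obtain ⟨c, hc⟩ := h0 _ (decompose 𝒜 f 0).2
    have hsub : f - algebraMap K A c ∈ J := hJ.le ((HomogeneousIdeal.mem_irrelevant_iff 𝒜 _).2 (by
      rw [map_sub, GradedRing.proj_apply, GradedRing.proj_apply,
        decompose_of_mem_same 𝒜 (SetLike.algebraMap_mem_graded 𝒜 c), hc, sub_self]))
    have hc0 : c ≠ 0 := fun h => hf ((HomogeneousIdeal.mem_irrelevant_iff 𝒜 _).2 (by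
      rw [GradedRing.proj_apply, ← hc, h, map_zero]))
    have hmem : algebraMap K A c ∈ J := by simpa using J.sub_mem hfJ hsub
    exact Ideal.eq_top_of_isUnit_mem _ hmem ((isUnit_iff_ne_zero.2 hc0).map _)

theorem ringKrullDim_quotient_le_height [IsNoetherianRing A] (h0 : ∀ a ∈ 𝒜 0, ∃ c : K, algebraMap K A c = a)
    {I : Ideal A} (hI : I.IsHomogeneous 𝒜) (hne : I ≠ ⊤) :
    ringKrullDim (A ⧸ I) ≤ ((M₊.map (Ideal.Quotient.mk I)).height : WithBot ℕ∞) := by
  haveI : Nontrivial A := ⟨⟨0, 1, fun h => hne (Ideal.eq_top_iff_one _ |>.2 (by rw [← h]; exact zero_mem _))⟩⟩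
  letI := (isField_zero 𝒜 h0).toField
  haveI := finiteType_zero 𝒜
  haveI hMmax := isMaximal_irrelevant 𝒜 h0
  rw [ringKrullDim_quotient]
  refine iSup_le fun l => ?_
  haveI := (l 0).1.2
  obtain ⟨q, hq, hql⟩ := Ideal.exists_minimalPrimes_le (I := I) (show I ≤ (l 0).1.asIdeal from (l 0).2)
  haveI := hq.1.1
  have hcore : (q.homogeneousCore 𝒜).toIdeal = q := by
    refine le_antisymm (Ideal.toIdeal_homogeneousCore_le 𝒜 q) (hq.2 ⟨hq.1.1.homogeneousCore, ?_⟩
      (Ideal.toIdeal_homogeneousCore_le 𝒜 q))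
    exact hI.toIdeal_homogeneousCore_eq_self.symm.trans_le (Ideal.homogeneousCore_mono _ hq.1.2)
  have hqM : q ≤ M₊ := le_irrelevant 𝒜 h0 (hcore ▸ HomogeneousIdeal.isHomogeneous _) hq.1.1.ne_top
  let M' : PrimeSpectrum (A ⧸ q) := ⟨M₊.map (Ideal.Quotient.mk q),
    Ideal.map_isPrime_of_surjective Ideal.Quotient.mk_surjective (by rw [Ideal.mk_ker]; exact hqM)⟩
  have hM'max : IsMax M' := by
    intro x hx
    refine le_of_eq (PrimeSpectrum.ext ?_)
    have h1 : M₊ ≤ x.asIdeal.comap (Ideal.Quotient.mk q) := Ideal.map_le_iff_le_comap.1 hx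
    have h2 := hMmax.eq_of_le (Ideal.IsPrime.comap _).ne_top h1
    calc x.asIdeal = (x.asIdeal.comap (Ideal.Quotient.mk q)).map (Ideal.Quotient.mk q) :=
          (Ideal.map_comap_of_surjective _ Ideal.Quotient.mk_surjective _).symm
      _ = M'.asIdeal := by rw [← h2]
  have hdim := VarDim.height_add_coheight (𝒜 0) (A ⧸ q) M'
  rw [Order.coheight_eq_zero.2 hM'max, add_zero] at hdim
  let l' : LTSeries (PrimeSpectrum.zeroLocus (q : Set A)) :=
    { length := l.length
      toFun := fun j => ⟨(l j).1, hql.trans (l.monotone (Fin.zero_le j))⟩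
      step := fun j => l.step j }
  refine (Order.LTSeries.length_le_krullDim l').trans ?_
  rw [← ringKrullDim_quotient, ← hdim]
  refine WithBot.coe_le_coe.2 ?_
  haveI : (M₊.map (Ideal.Quotient.mk I)).IsPrime :=
    Ideal.map_isPrime_of_surjective Ideal.Quotient.mk_surjective (by rw [Ideal.mk_ker]; exact hq.1.2.trans hqM)
  have hsm := RingHom.strictMono_comap_of_surjective (f := Ideal.Quotient.factor hq.1.2)
    (Ideal.Quotient.factor_surjective hq.1.2)
  refine (Order.height_le_height_apply_of_strictMono _ hsm M').trans (le_of_eq ?_)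
  rw [show PrimeSpectrum.comap (Ideal.Quotient.factor hq.1.2) M' = ⟨M₊.map (Ideal.Quotient.mk I), inferInstance⟩ from
    PrimeSpectrum.ext (by
      show (M₊.map (Ideal.Quotient.mk q)).comap (Ideal.Quotient.factor hq.1.2) = M₊.map (Ideal.Quotient.mk I)
      refine Ideal.ext fun x => ?_
      obtain ⟨a, rfl⟩ := Ideal.Quotient.mk_surjective x
      rw [Ideal.mem_comap, Ideal.Quotient.factor_mk, Ideal.mem_quotient_iff_mem hqM,
        Ideal.mem_quotient_iff_mem (hq.1.2.trans hqM)]), ← PrimeSpectrum.height_eq_orderHeight]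

/-- At the vertex a Cohen–Macaulay cone has depth equal to its dimension. -/
theorem le_idealDepth_irrelevant [IsNoetherianRing A] (h0 : ∀ a ∈ 𝒜 0, ∃ c : K, algebraMap K A c = a)
    {I : Ideal A} (hI : I.IsHomogeneous 𝒜) {e : ℕ} (hcm : LocCoh.IsCohenMacaulayRing (A ⧸ I))
    (hdim : ringKrullDim (A ⧸ I) = (e : WithBot ℕ∞)) : (e : ℕ∞) ≤ LocCoh.idealDepth M₊ (A ⧸ I) := by
  by_cases hne : I = ⊤
  · rw [idealDepth_quotient_eq_top (by rw [hne, sup_top_eq])]; exact le_top
  haveI : Nontrivial A := ⟨⟨0, 1, fun h => hne (Ideal.eq_top_iff_one _ |>.2 (by rw [← h]; exact zero_mem _))⟩⟩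
  haveI := isMaximal_irrelevant 𝒜 h0
  have hle := le_irrelevant 𝒜 h0 hI hne
  haveI hmb : (M₊.map (Ideal.Quotient.mk I)).IsMaximal :=
    (Ideal.map_eq_top_or_isMaximal_of_surjective _ Ideal.Quotient.mk_surjective ‹M₊.IsMaximal›).resolve_left fun h => by
      have h2 := congrArg (Ideal.comap (Ideal.Quotient.mk I)) h
      rw [Ideal.comap_map_of_surjective _ Ideal.Quotient.mk_surjective, ← RingHom.ker_eq_comap_bot, Ideal.mk_ker,
        sup_eq_left.2 hle, Ideal.comap_top] at h2
      exact Ideal.IsMaximal.ne_top inferInstance h2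
  rw [← GorenLib.idealDepth_map_of_surjective (A := A) (B := A ⧸ I) Ideal.Quotient.mk_surjective,
    Ideal.Quotient.algebraMap_eq, DepthLib.natCast_le_idealDepth_iff_forall_localized]
  intro q hq
  obtain rfl : q = ⟨M₊.map (Ideal.Quotient.mk I), hmb.isPrime⟩ := PrimeSpectrum.ext (hmb.eq_of_le q.2.ne_top hq).symm
  rw [DepthLib.depth_localizedModule_self, ← WithBot.coe_le_coe,
    ← (hcm.isCohenMacaulayLocalRing_localization _).supportDim_eq_depth, Module.supportDim_self_eq_ringKrullDim,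
    IsLocalization.AtPrime.ringKrullDim_eq_height (M₊.map (Ideal.Quotient.mk I))]
  exact hdim.symm.trans_le (ringKrullDim_quotient_le_height 𝒜 h0 hI hne)

theorem ringKrullDim_quotient_inf_le {R : Type*} [CommRing R] (I J : Ideal R) :
    ringKrullDim (R ⧸ (I ⊓ J)) ≤ max (ringKrullDim (R ⧸ I)) (ringKrullDim (R ⧸ J)) := by
  rw [ringKrullDim_quotient, ringKrullDim_quotient, ringKrullDim_quotient]
  refine iSup_le fun l => ?_
  rcases (Ideal.IsPrime.inf_le (l 0).1.2).1 (show I ⊓ J ≤ (l 0).1.asIdeal from (l 0).2) with h | h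
  · exact (Order.LTSeries.length_le_krullDim
      ({ length := l.length, toFun := fun j => ⟨(l j).1, h.trans (l.monotone (Fin.zero_le j))⟩,
         step := fun j => l.step j } : LTSeries (PrimeSpectrum.zeroLocus (I : Set R)))).trans (le_max_left _ _)
  · exact (Order.LTSeries.length_le_krullDim
      ({ length := l.length, toFun := fun j => ⟨(l j).1, h.trans (l.monotone (Fin.zero_le j))⟩,
         step := fun j => l.step j } : LTSeries (PrimeSpectrum.zeroLocus (J : Set R)))).trans (le_max_right _ _)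

end Groth.Agent.SMT
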