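import Groth.Agent.Lib.SMT.Nagata
import Mathlib.RingTheory.GradedAlgebra.HomogeneousLocalization
import Mathlib.RingTheory.Algebraic.Basic
import Mathlib.RingTheory.Polynomial.UniqueFactorization
import Mathlib.GroupTheory.MonoidLocalization.UniqueFactorization

/-!
# `R[1/s]` over the homogeneous localization `R_(s)`
-/

namespace Groth.Agent.SMT

open Polynomial

universe u v

variable {K : Type u} [Field K] {R : Type v} [CommRing R] [IsDomain R] [Algebra K R]
variable (𝒜 : ℕ → Submodule K R) [GradedAlgebra 𝒜] {e : ℕ} {s : R}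

theorem eq_zero_of_aeval_eq_zero (he : 0 < e) (hs : s ∈ 𝒜 e) (hs0 : s ≠ 0)
    (p : (HomogeneousLocalization.Away 𝒜 s)[X])
    (hp : aeval (algebraMap R (Localization.Away s) s) p = 0) : p = 0 := by
  classical
  set L := Localization.Away s
  have hinj : Function.Injective (algebraMap R L) :=
    IsLocalization.injective L (powers_le_nonZeroDivisors_of_noZeroDivisors hs0)
  have hev : ∀ᶠ N in Filter.atTop, ∀ i ∈ p.support,
      s ^ N • (p.coeff i).val ∈ algebraMap R L '' (𝒜 (N • e) : Set R) :=
    (Filter.eventually_all_finset _).2 fun i _ => HomogeneousLocalization.Away.eventually_smul_mem hs _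
  obtain ⟨N, hN⟩ := hev.exists
  choose f hf hfv using hN
  let g : ℕ → R := fun i => if h : i ∈ p.support then f i h else 0
  have hsum : ∑ i ∈ p.support, g i * s ^ i = 0 := by
    apply hinj
    rw [map_zero, map_sum]
    calc ∑ i ∈ p.support, algebraMap R L (g i * s ^ i)
        = ∑ i ∈ p.support, algebraMap R L (s ^ N) *
            ((p.coeff i).val * algebraMap R L s ^ i) := Finset.sum_congr rfl fun i hi => by
          simp only [g, dif_pos hi]
          rw [map_mul, map_pow, hfv i hi, Algebra.smul_def, mul_assoc]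
      _ = algebraMap R L (s ^ N) * aeval (algebraMap R L s) p := by
          rw [← Finset.mul_sum, aeval_eq_sum_range' (Nat.lt_succ_self _)]
          congr 1
          refine Finset.sum_subset_zero_on_sdiff (fun i hi => Finset.mem_range.2 (Nat.lt_succ_of_le (le_natDegree_of_mem_supp i hi))) (fun i hi => ?_) fun i _ => ?_
          · rw [Finset.mem_sdiff, mem_support_iff, not_not] at hi
            rw [hi.2, Algebra.smul_def, map_zero, zero_mul]
          · rw [Algebra.smul_def, HomogeneousLocalization.algebraMap_apply]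
      _ = 0 := by rw [hp, mul_zero]
  by_contra hne
  obtain ⟨i, hi⟩ := Polynomial.support_nonempty.2 hne
  have hmem : ∀ j ∈ p.support, g j * s ^ j ∈ 𝒜 (N • e + j • e) := fun j hj => by
    simp only [g, dif_pos hj]
    exact SetLike.mul_mem_graded (hf j hj) (SetLike.pow_mem_graded j hs)
  have h1 := congrArg (fun r => (DirectSum.decompose 𝒜 r (N • e + i • e) : R)) hsum
  rw [DirectSum.decompose_sum, DirectSum.decompose_zero] at h1
  rw [show ((∑ j ∈ p.support, DirectSum.decompose 𝒜 (g j * s ^ j)) (N • e + i • e) : R) =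
      ∑ j ∈ p.support, (DirectSum.decompose 𝒜 (g j * s ^ j) (N • e + i • e) : R) by
    rw [DFinsupp.finsetSum_apply, AddSubmonoidClass.coe_finsetSum]] at h1
  rw [Finset.sum_eq_single i (fun j hj hji => DirectSum.decompose_of_mem_ne 𝒜 (hmem j hj) fun h => hji (by
      simp only [smul_eq_mul] at h
      exact Nat.eq_of_mul_eq_mul_right he (by omega))) (fun h => absurd hi h),
    DirectSum.decompose_of_mem_same 𝒜 (hmem i hi)] at h1
  rw [show ((0 : DirectSum ℕ fun i => ↥(𝒜 i)) (N • e + i • e) : R) = 0 from rfl] at h1
  have hg : f i hi = 0 := by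
    have := (mul_eq_zero.1 h1).resolve_right (pow_ne_zero _ hs0)
    simp only [g, dif_pos hi] at this
    exact this
  have h2 := hfv i hi
  rw [hg, map_zero, Algebra.smul_def] at h2
  have hu : IsUnit (algebraMap R L (s ^ N)) := by
    rw [map_pow]; exact (IsLocalization.Away.algebraMap_isUnit s).pow N
  exact mem_support_iff.1 hi (HomogeneousLocalization.val_injective _ (by
    rw [HomogeneousLocalization.val_zero]; exact hu.mul_right_eq_zero.1 h2.symm))

theorem transcendental_away (he : 0 < e) (hs : s ∈ 𝒜 e) :
    Transcendental (HomogeneousLocalization.Away 𝒜 s) (algebraMap R (Localization.Away s) s) := by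
  by_cases hs0 : s = 0
  · haveI : Subsingleton (HomogeneousLocalization.Away 𝒜 s) :=
      HomogeneousLocalization.subsingleton 𝒜 (x := Submonoid.powers s) ⟨1, by simp [hs0]⟩
    rw [transcendental_iff]
    exact fun p _ => Subsingleton.elim _ _
  · rw [transcendental_iff]
    exact eq_zero_of_aeval_eq_zero 𝒜 he hs hs0

theorem ufd_of_homogeneousLocalization [IsNoetherianRing R] (hs : s ∈ 𝒜 1) (hp : Prime s)
    [UniqueFactorizationMonoid (HomogeneousLocalization.Away 𝒜 s)] : UniqueFactorizationMonoid R := by
  classical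
  set L := Localization.Away s
  haveI : IsDomain L :=
    IsLocalization.isDomain_localization (powers_le_nonZeroDivisors_of_noZeroDivisors hp.ne_zero)
  haveI : IsDomain (HomogeneousLocalization.Away 𝒜 s) :=
    (HomogeneousLocalization.val_injective (𝒜 := 𝒜) (x := Submonoid.powers s)).isDomain
      (algebraMap (HomogeneousLocalization.Away 𝒜 s) L)
  let Φ : (HomogeneousLocalization.Away 𝒜 s)[X] →+* L := (aeval (algebraMap R L s)).toRingHom
  letI : Algebra (HomogeneousLocalization.Away 𝒜 s)[X] L := Φ.toAlgebra
  haveI : IsLocalization.Away (X : (HomogeneousLocalization.Away 𝒜 s)[X]) L := by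
    have hX : Φ X = algebraMap R L s := aeval_X _
    refine IsLocalization.Away.mk _ ?_ ?_ ?_
    · show IsUnit (Φ X)
      rw [hX]; exact IsLocalization.Away.algebraMap_isUnit s
    · intro z
      obtain ⟨n, r, hz⟩ := IsLocalization.Away.surj s z
      have hr : algebraMap R L r ∈ Φ.range := by
        rw [← DirectSum.sum_support_decompose 𝒜 r, map_sum]
        refine sum_mem fun i _ => ?_
        refine ⟨C (HomogeneousLocalization.Away.mk 𝒜 hs i _ (by rw [smul_eq_mul, mul_one]; exact (DirectSum.decompose 𝒜 r i).2)) * X ^ i, ?_⟩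
        rw [map_mul, map_pow, hX]
        show aeval (algebraMap R L s) (C _) * _ = _
        rw [aeval_C, HomogeneousLocalization.algebraMap_apply, HomogeneousLocalization.Away.val_mk,
          Localization.mk_eq_mk', ← map_pow]
        exact IsLocalization.mk'_spec (Localization.Away s) _ (⟨s ^ i, i, rfl⟩ : Submonoid.powers s)
      obtain ⟨q, hq⟩ := hr
      exact ⟨n, q, by show z * Φ X ^ n = Φ q; rw [hX, hq]; exact hz⟩
    · intro a b hab
      refine ⟨0, ?_⟩
      have : Φ (a - b) = 0 := by rw [map_sub]; exact sub_eq_zero.2 hab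
      rw [sub_eq_zero.1 (eq_zero_of_aeval_eq_zero 𝒜 Nat.one_pos hs hp.ne_zero _ this)]
  haveI : UniqueFactorizationMonoid L :=
    UniqueFactorizationMonoid.of_isLocalization (Submonoid.powers (X : (HomogeneousLocalization.Away 𝒜 s)[X])) L
  exact ufd_of_away (P := L) s hp

end Groth.Agent.SMT
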