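import Groth.Prelude.Def_W4bk4grassmannianPl
import Mathlib.Algebra.Order.BigOperators.Group.Finset
import Mathlib.GroupTheory.Perm.Fin
import Mathlib.Order.Fin.Basic
import Mathlib.Algebra.BigOperators.Group.Finset.Sigma
import Mathlib.LinearAlgebra.Matrix.Determinant.Basic
import Mathlib.Tactic.Ring

/-!
# The poset `I(d, n)` and signed Plücker coordinates
-/

namespace Groth.Agent.SMT

open W4bk4grassmannian MvPolynomial

universe u

variable {d n : ℕ}

/-- Sum of the entries. -/
def ht (θ : Idx d n) : ℕ := ∑ t, (θ.1 t : ℕ)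

theorem ht_strictMono : StrictMono (ht : Idx d n → ℕ) := by
  intro a b h
  obtain ⟨hle, hne⟩ := lt_iff_le_and_ne.1 h
  obtain ⟨t, ht'⟩ : ∃ t, a.1 t ≠ b.1 t := Function.ne_iff.1 fun h => hne (Subtype.ext h)
  exact Finset.sum_lt_sum (fun t _ => hle t)
    ⟨t, Finset.mem_univ t, lt_of_le_of_ne (hle t) fun h => ht' (Fin.ext h)⟩

theorem le_of_comparable {a b : Idx d n} (h : a ≤ b ∨ b ≤ a) (hh : ht b ≤ ht a) : b ≤ a := by
  rcases h with h | h
  · rcases eq_or_lt_of_le h with h | h
    · exact h ▸ le_rfl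
    · exact absurd (ht_strictMono h) (not_lt.2 hh)
  · exact h

theorem ne_of_sup {τ φ : Idx d n} (h : ¬ φ ≤ τ) : τ < sup τ φ := by
  refine lt_of_le_of_ne (fun t => le_max_left _ _) fun he => h fun t => ?_
  rw [he]; exact le_max_right _ _

theorem ne_of_inf {τ φ : Idx d n} (h : ¬ τ ≤ φ) : inf τ φ < τ := by
  refine lt_of_le_of_ne (fun t => min_le_left _ _) fun he => h fun t => ?_
  rw [← he]; exact min_le_right _ _

theorem ht_sup_add_ht_inf (τ φ : Idx d n) : ht (sup τ φ) + ht (inf τ φ) = ht τ + ht φ := by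
  simp only [ht, ← Finset.sum_add_distrib, sup, inf]
  refine Finset.sum_congr rfl fun t _ => ?_
  rcases le_total (τ.1 t) (φ.1 t) with h | h
  · rw [max_eq_right h, min_eq_left h, add_comm]
  · rw [max_eq_left h, min_eq_right h]

theorem le_inf_iff' {θ τ φ : Idx d n} : θ ≤ inf τ φ ↔ θ ≤ τ ∧ θ ≤ φ :=
  ⟨fun h => ⟨fun t => (h t).trans (min_le_left _ _), fun t => (h t).trans (min_le_right _ _)⟩,
    fun h t => le_min (h.1 t) (h.2 t)⟩

theorem sup_le_iff' {θ τ φ : Idx d n} : sup τ φ ≤ θ ↔ τ ≤ θ ∧ φ ≤ θ :=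
  ⟨fun h => ⟨fun t => (le_max_left _ _).trans (h t), fun t => (le_max_right _ _).trans (h t)⟩,
    fun h t => max_le (h.1 t) (h.2 t)⟩

/-- The identity tuple is least. -/
theorem id_le (θ : Idx d n) (t : Fin d) : (t : ℕ) ≤ (θ.1 t : ℕ) := by
  obtain ⟨t, h⟩ := t
  induction t with
  | zero => exact Nat.zero_le _
  | succ t ih =>
    have := θ.2 (show (⟨t, Nat.lt_of_succ_lt h⟩ : Fin d) < ⟨t + 1, h⟩ from Nat.lt_succ_self t)
    have := ih (Nat.lt_of_succ_lt h)
    simp only [Fin.lt_def] at *
    omega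

section sorting

theorem card_image_iff {a : Fin d → Fin n} :
    (Finset.univ.image a).card = d ↔ Function.Injective a := by
  constructor
  · intro h
    have h' : (Finset.univ.image a).card = (Finset.univ : Finset (Fin d)).card := by
      rw [h, Finset.card_fin]
    intro x y hxy
    exact Finset.card_image_iff.1 h' (Finset.mem_coe.2 (Finset.mem_univ x)) (Finset.mem_coe.2 (Finset.mem_univ y)) hxy
  · intro h
    rw [Finset.card_image_of_injective _ h, Finset.card_fin]

theorem exists_sortIdx_perm {a : Fin d → Fin n} (h : (Finset.univ.image a).card = d) :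
    ∃ π : Equiv.Perm (Fin d), a = (sortIdx d n a h).1 ∘ π := by
  have hinj := card_image_iff.1 h
  have hmem : ∀ t, ∃ u, (sortIdx d n a h).1 u = a t := fun t => by
    have : a t ∈ Finset.univ.image a := Finset.mem_image_of_mem _ (Finset.mem_univ t)
    rw [← Finset.image_orderEmbOfFin_univ _ h] at this
    obtain ⟨u, _, hu⟩ := Finset.mem_image.1 this
    exact ⟨u, hu⟩
  choose p hp using hmem
  have pinj : Function.Injective p := fun x y hxy => hinj (by rw [← hp, ← hp, hxy])
  exact ⟨Equiv.ofBijective p (Finite.injective_iff_bijective.1 pinj), funext fun t => (hp t).symm⟩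

theorem sign_eq_invCount {θ : Fin d → Fin n} (hθ : StrictMono θ) (π : Equiv.Perm (Fin d)) :
    ((Equiv.Perm.sign π : ℤˣ) : ℤ) = (-1) ^ invCount d n (θ ∘ π) := by
  rw [Equiv.Perm.sign_eq_prod_prod_Ioi, Finset.prod_sigma']
  push_cast
  rw [Finset.prod_congr rfl (g := fun x : Σ _ : Fin d, Fin d => if π x.1 < π x.2 then (1 : ℤ) else -1)
    fun x _ => by split_ifs <;> rfl, Finset.prod_ite, Finset.prod_const_one, one_mul, Finset.prod_const]
  congr 1
  refine Finset.card_bij (fun x _ => (x.1, x.2)) ?_ ?_ ?_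
  · intro x hx
    simp only [Finset.mem_filter, Finset.mem_sigma, Finset.mem_univ, Finset.mem_Ioi, true_and,
      not_lt] at hx
    simp only [Finset.mem_filter, Finset.mem_univ, true_and, Function.comp_apply]
    exact ⟨hx.1, hθ (lt_of_le_of_ne hx.2 fun h => hx.1.ne (π.injective h.symm))⟩
  · rintro ⟨a, b⟩ _ ⟨c, e⟩ _ h
    simp only [Prod.mk.injEq] at h
    rw [h.1, h.2]
  · rintro ⟨a, b⟩ hb
    simp only [Finset.mem_filter, Finset.mem_univ, true_and, Function.comp_apply] at hb
    refine ⟨⟨a, b⟩, ?_, rfl⟩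
    simp only [Finset.mem_filter, Finset.mem_sigma, Finset.mem_univ, Finset.mem_Ioi, true_and,
      not_lt]
    exact ⟨hb.1, le_of_lt (hθ.lt_iff_lt.1 hb.2)⟩

/-- The signed coordinate evaluates to the minor. -/
theorem aeval_coord {K : Type u} [CommRing K] {R : Type*} [CommRing R] [Algebra K R]
    (M : Matrix (Fin n) (Fin d) R) (a : Fin d → Fin n) :
    MvPolynomial.aeval (fun θ : Idx d n => (M.submatrix θ.1 id).det) (coord K d n a) =
      (M.submatrix a id).det := by
  unfold coord
  split_ifs with h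
  · obtain ⟨π, hπ⟩ := exists_sortIdx_perm h
    rw [map_mul, map_pow, map_neg, map_one, aeval_X]
    conv_rhs => rw [hπ, ← Function.id_comp (id : Fin d → Fin d), ← Matrix.submatrix_submatrix,
      Matrix.det_permute]
    congr 1
    have hs := sign_eq_invCount (sortIdx d n a h).2 π
    rw [← hπ] at hs
    rw [hs]; simp
  · rw [map_zero]
    have : ¬ Function.Injective a := fun hi => h (card_image_iff.2 hi)
    simp only [Function.Injective, not_forall] at this
    obtain ⟨x, y, hxy, hne⟩ := this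
    exact (Matrix.det_zero_of_row_eq hne (funext fun j => by simp [hxy])).symm

theorem invCount_strictMono {a : Fin d → Fin n} (ha : StrictMono a) : invCount d n a = 0 := by
  rw [invCount, Finset.card_eq_zero, Finset.filter_eq_empty_iff]
  rintro ⟨x, y⟩ _ ⟨h1, h2⟩
  exact absurd (ha h1) (not_lt.2 h2.le)

theorem coord_strictMono {K : Type u} [CommRing K] (θ : Idx d n) : coord K d n θ.1 = X θ := by
  have h : (Finset.univ.image θ.1).card = d := card_image_iff.2 θ.2.injective
  rw [coord, dif_pos h, invCount_strictMono θ.2, pow_zero, one_mul]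
  congr 1
  apply Subtype.ext
  exact (Finset.orderEmbOfFin_unique h (fun x => Finset.mem_image_of_mem _ (Finset.mem_univ x)) θ.2).symm

theorem ht_sortIdx {a : Fin d → Fin n} (h : (Finset.univ.image a).card = d) :
    ht (sortIdx d n a h) = ∑ t, (a t : ℕ) := by
  obtain ⟨π, hπ⟩ := exists_sortIdx_perm h
  conv_rhs => rw [hπ]
  exact (Equiv.sum_comp π fun t => (((sortIdx d n a h).1 t : Fin n) : ℕ)).symm

end sorting

end Groth.Agent.SMT
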