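import Groth.Agent.Lib.SMT.Idx
import Mathlib.Data.Fintype.BigOperators
import Mathlib.Algebra.BigOperators.Field

/-!
# The Plücker quadrics cut out the Grassmannian
-/

namespace Groth.Agent.SMT

open W4bk4grassmannian MvPolynomial

universe u

theorem aeval_quadric {K : Type u} [CommRing K] {e n : ℕ} (M : Matrix (Fin n) (Fin (e + 1)) K)
    (i' : Idx e n) (j' : Idx (e + 2) n) :
    MvPolynomial.aeval (fun θ : Idx (e + 1) n => (M.submatrix θ.1 id).det) (quadric K i' j') = 0 := by
  classical
  simp only [quadric, map_sum, map_mul, map_pow, map_neg, map_one, aeval_coord]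
  have hexp : ∀ h : Fin (e + 2), (M.submatrix (Fin.snoc i'.1 (j'.1 h)) id).det =
      ∑ t : Fin (e + 1), (-1) ^ (e + t : ℕ) * M (j'.1 h) t * (M.submatrix i'.1 t.succAbove).det := by
    intro h
    rw [Matrix.det_succ_row _ (Fin.last e)]
    refine Finset.sum_congr rfl fun t _ => ?_
    congr 2
    · simp [Matrix.submatrix]
    · ext a b
      simp [Matrix.submatrix, Fin.succAbove_last]
  simp only [hexp, Finset.mul_sum, Finset.sum_mul]
  rw [Finset.sum_comm]
  refine Finset.sum_eq_zero fun t _ => ?_
  let N : Matrix (Fin (e + 2)) (Fin (e + 2)) K :=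
    Matrix.of fun h => Fin.cons (M (j'.1 h) t) (M (j'.1 h))
  have hN : N.det = 0 :=
    Matrix.det_zero_of_column_eq (Fin.succ_ne_zero t).symm fun h => by simp [N]
  rw [Matrix.det_succ_column N 0] at hN
  have hterm : ∀ h : Fin (e + 2), (-1 : K) ^ (h.val + 1) *
      ((-1) ^ (e + t : ℕ) * M (j'.1 h) t * (M.submatrix i'.1 t.succAbove).det) *
      (M.submatrix (j'.1 ∘ h.succAbove) id).det =
      -((-1) ^ (e + t : ℕ) * (M.submatrix i'.1 t.succAbove).det) *
        ((-1) ^ (h.val + (0 : Fin (e + 2)).val) * N h 0 * (N.submatrix h.succAbove Fin.succ).det) := by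
    intro h
    have e2 : N.submatrix h.succAbove Fin.succ = M.submatrix (j'.1 ∘ h.succAbove) id := by
      ext a b; simp [N]
    rw [e2, show N h 0 = M (j'.1 h) t by simp [N], Fin.val_zero, add_zero]
    ring
  rw [Finset.sum_congr rfl fun h _ => hterm h, ← Finset.mul_sum]
  simp only [Fin.succAbove_zero] at hN
  rw [hN, mul_zero]

variable {K : Type u} [Field K] {d n : ℕ}

theorem sortIdx_eq {a : Fin d → Fin n} (h : (Finset.univ.image a).card = d) {θ : Idx d n}
    (hr : Set.range a = Set.range θ.1) : sortIdx d n a h = θ := by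
  refine Subtype.ext (((sortIdx d n a h).2.range_inj θ.2).1 ?_)
  rw [← hr]
  show Set.range (Finset.orderEmbOfFin _ h) = _
  rw [Finset.range_orderEmbOfFin]
  simp

theorem eval_coord_congr (p p' : Idx d n → K) (a : Fin d → Fin n)
    (h : ∀ θ : Idx d n, Set.range θ.1 = Set.range a → p θ = p' θ) :
    eval p (coord K d n a) = eval p' (coord K d n a) := by
  unfold coord
  split_ifs with hc
  · simp only [map_mul, map_pow, map_neg, map_one, eval_X]
    rw [h _ (by obtain ⟨π, hπ⟩ := exists_sortIdx_perm hc; conv_rhs => rw [hπ, Set.range_comp,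
                  Equiv.range_eq_univ, Set.image_univ])]
  · simp

theorem eval_coord_of_repeat (p : Idx d n → K) {a : Fin d → Fin n} (h : ¬ Function.Injective a) :
    eval p (coord K d n a) = 0 := by
  rw [coord, dif_neg fun hc => h (card_image_iff.1 hc), map_zero]

theorem eval_coord_perm (p : Idx d n → K) {a : Fin d → Fin n} (hinj : Function.Injective a)
    {θ : Idx d n} (hr : Set.range a = Set.range θ.1) :
    ∃ ε : K, ε ≠ 0 ∧ ∀ p : Idx d n → K, eval p (coord K d n a) = ε * p θ := by
  refine ⟨(-1) ^ invCount d n a, pow_ne_zero _ (neg_ne_zero.2 one_ne_zero), fun p => ?_⟩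
  have hc := card_image_iff.2 hinj
  rw [coord, dif_pos hc, sortIdx_eq hc hr]
  simp

theorem eval_eq_aeval_minors (M : Matrix (Fin n) (Fin d) K) (f : PlRing K d n) :
    eval (fun θ : Idx d n => (M.submatrix θ.1 id).det) f =
      MvPolynomial.aeval (fun θ : Idx d n => (M.submatrix θ.1 id).det) f := by
  rw [aeval_eq_eval]

theorem exists_matrix_of_quadrics {e : ℕ} (q : Idx (e + 1) n → K) (hq : q ≠ 0)
    (hquad : ∀ (i' : Idx e n) (j' : Idx (e + 2) n), eval q (quadric K i' j') = 0) :
    ∃ A : Matrix (Fin n) (Fin (e + 1)) K, ∀ θ : Idx (e + 1) n, q θ = (A.submatrix θ.1 id).det := by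
  classical
  obtain ⟨θ₀, hθ₀⟩ := Function.ne_iff.1 hq
  rw [Pi.zero_apply] at hθ₀
  let c : Fin (e + 1) → K := fun i => if i = 0 then 1 else (q θ₀)⁻¹
  let A : Matrix (Fin n) (Fin (e + 1)) K := Matrix.of fun s i =>
    eval q (coord K (e + 1) n (Function.update θ₀.1 i s)) * c i
  refine ⟨A, ?_⟩
  set p : Idx (e + 1) n → K := fun θ => (A.submatrix θ.1 id).det
  have hA0 : A.submatrix θ₀.1 id = Matrix.diagonal (fun k => q θ₀ * c k) := by
    ext i k
    simp only [Matrix.submatrix_apply, id, A, Matrix.of_apply, Matrix.diagonal_apply]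
    split_ifs with h
    · subst h
      rw [Function.update_eq_self, coord_strictMono, eval_X]
    · rw [eval_coord_of_repeat, zero_mul]
      intro hinj
      exact h (hinj (show Function.update θ₀.1 k (θ₀.1 i) i = Function.update θ₀.1 k (θ₀.1 i) k by
        rw [Function.update_of_ne h, Function.update_self]))
  have hc : ∀ i, c i ≠ 0 := fun i => by
    simp only [c]; split_ifs
    · exact one_ne_zero
    · exact inv_ne_zero hθ₀
  have hdet0 : (A.submatrix θ₀.1 id).det = q θ₀ := by
    rw [hA0, Matrix.det_diagonal, Fin.prod_univ_succ]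
    simp [c, Fin.succ_ne_zero, hθ₀]
  have hupd : ∀ i s, eval p (coord K (e + 1) n (Function.update θ₀.1 i s)) =
      eval q (coord K (e + 1) n (Function.update θ₀.1 i s)) := by
    intro i s
    rw [eval_eq_aeval_minors, aeval_coord]
    have hrow : A.submatrix (Function.update θ₀.1 i s) id =
        (A.submatrix θ₀.1 id).updateRow i (∑ k, (A s k / (q θ₀ * c k)) • (A.submatrix θ₀.1 id) k) := by
      ext a b
      by_cases ha : a = i
      · subst ha
        rw [Matrix.updateRow_self, Matrix.submatrix_apply, Function.update_self, Finset.sum_apply,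
          Finset.sum_eq_single b]
        · rw [hA0, Pi.smul_apply, Matrix.diagonal_apply_eq, smul_eq_mul,
            div_mul_cancel₀ _ (mul_ne_zero hθ₀ (hc b))]
          rfl
        · intro k _ hk
          rw [hA0, Pi.smul_apply, Matrix.diagonal_apply_ne _ hk, smul_zero]
        · exact fun h => absurd (Finset.mem_univ b) h
      · rw [Matrix.updateRow_ne ha, Matrix.submatrix_apply, Function.update_of_ne ha]
        rfl
    rw [hrow, Matrix.det_updateRow_sum, hdet0, smul_eq_mul]
    simp only [A, Matrix.of_apply]
    field_simp [hc i, hθ₀]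
  -- induction on the number of rows outside the base index
  let μ : Idx (e + 1) n → ℕ := fun θ => (Finset.univ.image θ.1 \ Finset.univ.image θ₀.1).card
  suffices H : ∀ N θ, μ θ = N → q θ = p θ from fun θ => H _ θ rfl
  intro N
  induction N using Nat.strong_induction_on with
  | _ N ih =>
    intro θ hN
    rcases Nat.lt_or_ge N 2 with hN2 | hN2
    · rcases Nat.eq_zero_or_pos N with hN0 | hN0
      · have hsub : Finset.univ.image θ.1 ⊆ Finset.univ.image θ₀.1 :=
          Finset.sdiff_eq_empty_iff_subset.1 (Finset.card_eq_zero.1 (hN.trans hN0))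
        have heq := Finset.eq_of_subset_of_card_le hsub
          (by rw [card_image_iff.2 θ.2.injective, card_image_iff.2 θ₀.2.injective])
        have : θ = θ₀ := Subtype.ext ((θ.2.range_inj θ₀.2).1 (by
          simpa using congrArg (fun S : Finset (Fin n) => (↑S : Set (Fin n))) heq))
        subst this
        exact hdet0.symm
      · obtain ⟨s, hs⟩ := Finset.card_eq_one.1 (show μ θ = 1 by omega)
        have hcard : (Finset.univ.image θ₀.1 \ Finset.univ.image θ.1).card = 1 := by
          rw [Finset.card_sdiff_comm, hs, Finset.card_singleton]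
          rw [card_image_iff.2 θ.2.injective, card_image_iff.2 θ₀.2.injective]
        obtain ⟨r, hr⟩ := Finset.card_eq_one.1 hcard
        have hrm : r ∈ Finset.univ.image θ₀.1 \ Finset.univ.image θ.1 := hr ▸ Finset.mem_singleton_self r
        obtain ⟨i, -, hi⟩ := Finset.mem_image.1 (Finset.mem_sdiff.1 hrm).1
        have hsm : s ∈ Finset.univ.image θ.1 \ Finset.univ.image θ₀.1 :=
          hs ▸ Finset.mem_singleton_self s
        have hinj : Function.Injective (Function.update θ₀.1 i s) := by
          intro a b hab
          simp only [Function.update_apply] at hab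
          split_ifs at hab with h1 h2 h2
          · rw [h1, h2]
          · exact absurd (hab ▸ Finset.mem_image_of_mem _ (Finset.mem_univ b)) (Finset.mem_sdiff.1 hsm).2
          · exact absurd (hab ▸ Finset.mem_image_of_mem _ (Finset.mem_univ a)) (Finset.mem_sdiff.1 hsm).2
          · exact θ₀.2.injective hab
        have hrange : Set.range (Function.update θ₀.1 i s) = Set.range θ.1 := by
          have h1 : Finset.univ.image (Function.update θ₀.1 i s) = Finset.univ.image θ.1 := by
            refine Finset.eq_of_subset_of_card_le (fun x hx => ?_) (by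
              rw [card_image_iff.2 θ.2.injective, card_image_iff.2 hinj])
            obtain ⟨a, -, rfl⟩ := Finset.mem_image.1 hx
            by_cases ha : a = i
            · subst ha; rw [Function.update_self]; exact (Finset.mem_sdiff.1 hsm).1
            · rw [Function.update_of_ne ha]
              by_contra hn
              have : θ₀.1 a ∈ ({r} : Finset (Fin n)) :=
                hr ▸ Finset.mem_sdiff.2 ⟨Finset.mem_image_of_mem _ (Finset.mem_univ a), hn⟩
              exact ha (θ₀.2.injective ((Finset.mem_singleton.1 this).trans hi.symm))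
          simpa using congrArg (fun S : Finset (Fin n) => (↑S : Set (Fin n))) h1
        obtain ⟨ε, hε, he⟩ := eval_coord_perm q hinj hrange
        have := hupd i s
        rw [he, he] at this
        exact (mul_left_cancel₀ hε this).symm
    · -- use a quadric
      obtain ⟨s, hs⟩ := Finset.card_pos.1 (show 0 < μ θ by omega)
      rw [Finset.mem_sdiff] at hs
      obtain ⟨k, -, hk⟩ := Finset.mem_image.1 hs.1
      let i' : Idx e n := ⟨θ.1 ∘ k.succAbove, θ.2.comp (Fin.strictMono_succAbove k)⟩
      have hcard : (insert s (Finset.univ.image θ₀.1)).card = e + 2 := by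
        rw [Finset.card_insert_of_notMem hs.2, card_image_iff.2 θ₀.2.injective]
      let j' : Idx (e + 2) n :=
        ⟨fun t => Finset.orderEmbOfFin _ hcard t, (Finset.orderEmbOfFin _ hcard).strictMono⟩
      have hjr : Set.range j'.1 = insert s (Set.range θ₀.1) := by
        show Set.range (Finset.orderEmbOfFin _ hcard) = _
        rw [Finset.range_orderEmbOfFin]; simp
      obtain ⟨h₀, hh₀⟩ : ∃ h, j'.1 h = s := by
        have : s ∈ Set.range j'.1 := hjr ▸ Set.mem_insert _ _
        exact this
      have hmem : ∀ h, h ≠ h₀ → j'.1 h ∈ Finset.univ.image θ₀.1 := by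
        intro h hne
        have : j'.1 h ∈ insert s (Set.range θ₀.1) := hjr ▸ Set.mem_range_self h
        rcases this with h' | ⟨a, ha⟩
        · exact absurd (j'.2.injective (h'.trans hh₀.symm)) hne
        · exact Finset.mem_image.2 ⟨a, Finset.mem_univ a, ha⟩
      have hsnoc : ∀ x, Set.range (Fin.snoc i'.1 x : Fin (e + 1) → Fin n) =
          insert x (θ.1 '' {k}ᶜ) := fun x => by
        rw [Fin.range_snoc, show i'.1 = θ.1 ∘ k.succAbove from rfl, Set.range_comp, Fin.range_succAbove]
      -- terms other than `h₀` agree
      have hterm : ∀ h, h ≠ h₀ →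
          eval q (coord K (e + 1) n (Fin.snoc i'.1 (j'.1 h))) *
            eval q (coord K (e + 1) n (j'.1 ∘ h.succAbove)) =
          eval p (coord K (e + 1) n (Fin.snoc i'.1 (j'.1 h))) *
            eval p (coord K (e + 1) n (j'.1 ∘ h.succAbove)) := by
        intro h hne
        congr 1
        · refine eval_coord_congr q p _ fun ψ hψ => ih (μ ψ) ?_ ψ rfl
          rw [hsnoc] at hψ
          rw [← hN]
          refine Finset.card_lt_card (Finset.ssubset_iff.2 ⟨s, ?_, ?_⟩)
          · simp only [Finset.mem_sdiff, not_and, not_not]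
            intro hsψ
            have : s ∈ Set.range ψ.1 := by simpa using hsψ
            rw [hψ] at this
            rcases this with h' | ⟨a, ha, ha'⟩
            · exact h' ▸ hmem h hne
            · exact absurd (θ.2.injective (ha'.trans hk.symm)) ha
          · intro x hx
            rcases Finset.mem_insert.1 hx with rfl | hx
            · exact Finset.mem_sdiff.2 hs
            · rw [Finset.mem_sdiff] at hx ⊢
              refine ⟨?_, hx.2⟩
              have : x ∈ Set.range ψ.1 := by simpa using hx.1
              rw [hψ] at this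
              rcases this with h' | ⟨a, -, ha'⟩
              · exact absurd (h' ▸ hmem h hne) hx.2
              · exact Finset.mem_image.2 ⟨a, Finset.mem_univ a, ha'⟩
        · refine eval_coord_congr q p _ fun ψ hψ => ih (μ ψ) ?_ ψ rfl
          refine lt_of_le_of_lt (Finset.card_le_card (t := {s}) fun x hx => ?_) (by rw [Finset.card_singleton]; omega)
          rw [Finset.mem_sdiff] at hx
          have : x ∈ Set.range ψ.1 := by simpa using hx.1
          rw [hψ] at this
          obtain ⟨a, ha⟩ := this
          by_cases h' : h.succAbove a = h₀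
          · rw [Function.comp_apply, h', hh₀] at ha; exact Finset.mem_singleton.2 ha.symm
          · exact absurd (ha ▸ hmem _ h') hx.2
      have h1 := hquad i' j'
      have h2 : eval p (quadric K i' j') = 0 := by
        rw [eval_eq_aeval_minors]; exact aeval_quadric A i' j'
      simp only [quadric, map_sum, map_mul, map_pow, map_neg, map_one] at h1 h2
      rw [← Finset.add_sum_erase _ _ (Finset.mem_univ h₀)] at h1 h2
      rw [Finset.sum_congr rfl fun h hh => by rw [mul_assoc, hterm h (Finset.mem_erase.1 hh).1]] at h1
      simp only [← mul_assoc] at h1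
      have h3 := add_right_cancel (h1.trans h2.symm)
      have hj0 : Set.range (j'.1 ∘ h₀.succAbove) = Set.range θ₀.1 := by
        rw [Set.range_comp, Fin.range_succAbove, Set.image_compl_eq_range_diff_image j'.2.injective,
          Set.image_singleton, hh₀, hjr, Set.insert_diff_of_mem _ (Set.mem_singleton s),
          Set.diff_singleton_eq_self fun h => hs.2 (by simpa using h)]
      obtain ⟨ε, hε, he⟩ := eval_coord_perm q (j'.2.injective.comp Fin.succAbove_right_injective) hj0
      have hrange : Set.range (Fin.snoc i'.1 s : Fin (e + 1) → Fin n) = Set.range θ.1 := by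
        rw [hsnoc, ← hk, ← Set.image_insert_eq, Set.insert_eq, Set.union_compl_self, Set.image_univ]
      have hinj' : Function.Injective (Fin.snoc i'.1 s : Fin (e + 1) → Fin n) :=
        Fin.snoc_injective_iff.2 ⟨i'.2.injective, by
          rintro ⟨a, ha⟩; exact Fin.succAbove_ne k a (θ.2.injective (ha.trans hk.symm))⟩
      obtain ⟨ε', hε', he'⟩ := eval_coord_perm q hinj' hrange
      rw [hh₀, he, he, he', he'] at h3
      have hp0 : p θ₀ = q θ₀ := hdet0
      rw [hp0] at h3
      have h4 := mul_right_cancel₀ (mul_ne_zero hε hθ₀) h3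
      exact mul_left_cancel₀ hε' (mul_left_cancel₀ (pow_ne_zero _ (neg_ne_zero.2 one_ne_zero)) h4)

end Groth.Agent.SMT
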