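import Groth.Agent.Lib.SMT.BigCell
import Groth.Agent.Lib.SMT.Nagata
import Groth.Agent.Lib.SMT.Divisor
import Groth.Agent.Lib.VarDim.Alg
import Mathlib.RingTheory.Polynomial.UniqueFactorization
import Mathlib.GroupTheory.MonoidLocalization.UniqueFactorization
import Mathlib.RingTheory.Polynomial.RationalRoot
import Mathlib.RingTheory.FiniteType
import Mathlib.Algebra.MvPolynomial.Nilpotent

/-!
# Normality, dimension and factoriality of Schubert cones
-/

namespace Groth.Agent.SMT

open W4bk4grassmannian MvPolynomial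

universe u

variable (K : Type u) [Field K] [Infinite K] {d n : ℕ}

/-- The coordinate ring of the cone. -/
abbrev SRing (τ : Idx d n) : Type u := PlRing K d n ⧸ schubertVanishing K d n τ

/-- The class of `X τ`. -/
noncomputable abbrev pTau (τ : Idx d n) : SRing K τ := Ideal.Quotient.mk (schubertVanishing K d n τ) (X τ)

omit [Infinite K] in
theorem schubert_le_constantCoeff (hd : 0 < d) (τ : Idx d n) :
    schubertVanishing K d n τ ≤ RingHom.ker (constantCoeff : PlRing K d n →+* K) := by
  intro p hp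
  have h0 : ∀ θ : Idx d n, ((0 : Matrix (Fin n) (Fin d) K).submatrix θ.1 id).det = 0 := fun θ => by
    haveI : Nonempty (Fin d) := ⟨⟨0, hd⟩⟩
    rw [Matrix.submatrix_zero]; exact Matrix.det_zero
  have h := (mem_schubert K).1 hp (0 : Matrix (Fin n) (Fin d) K) fun φ _ => h0 φ
  rw [evalMinors, funext h0, MvPolynomial.aeval_def, MvPolynomial.eval₂_zero'_apply] at h
  simpa [RingHom.mem_ker] using h

theorem X_notMem_schubert {θ τ : Idx d n} (h : θ ≤ τ) : X θ ∉ schubertVanishing K d n τ := fun hm => by
  have := (top_echMap_X K h).coeff_self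
  rw [echMap_eq_zero_of_mem K hm, coeff_zero] at this
  exact zero_ne_one this

theorem isDomain_sring (hd : 0 < d) (τ : Idx d n) : IsDomain (SRing K τ) :=
  haveI := isPrime_schubert K hd τ
  inferInstance

theorem pTau_ne_zero (τ : Idx d n) : pTau K τ ≠ 0 := fun h =>
  X_notMem_schubert K (le_refl τ) (Ideal.Quotient.eq_zero_iff_mem.1 h)

theorem exists_divisor_iff (τ : Idx d n) : (∃ φ, φ < τ) ↔ (divisors τ).Nonempty :=
  ⟨fun ⟨φ, h⟩ => let ⟨ψ, hψ, _⟩ := exists_divisor_ge h; ⟨ψ, hψ⟩, fun ⟨φ, h⟩ => ⟨φ, h.1⟩⟩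

omit [Infinite K] in
theorem span_pTau (τ : Idx d n) : Ideal.span {pTau K τ} =
    (schubertVanishing K d n τ ⊔ Ideal.span {X τ}).map (Ideal.Quotient.mk (schubertVanishing K d n τ)) := by
  rw [Ideal.map_sup, Ideal.map_quotient_self, bot_sup_eq, Ideal.map_span, Set.image_singleton]

theorem sup_span_X_eq_of_minimal (hd : 0 < d) (τ : Idx d n) (hτ : ¬ ∃ φ, φ < τ) :
    schubertVanishing K d n τ ⊔ Ideal.span {X τ} = RingHom.ker (constantCoeff : PlRing K d n →+* K) := by
  refine le_antisymm (sup_le (schubert_le_constantCoeff K hd τ) ?_) ?_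
  · rw [Ideal.span_singleton_le_iff_mem, RingHom.mem_ker, constantCoeff_X]
  · intro p hp
    rw [RingHom.mem_ker, constantCoeff_eq] at hp
    rw [p.as_sum]
    refine sum_mem fun m hm => ?_
    obtain ⟨θ, hθ⟩ : ∃ θ, m θ ≠ 0 := by
      by_contra hcon
      rw [not_exists] at hcon
      rw [show m = 0 from Finsupp.ext fun θ => not_not.1 (hcon θ)] at hm
      exact (mem_support_iff.1 hm) hp
    refine Ideal.mem_of_dvd _ (X_dvd_monomial.2 (Or.inr hθ)) ?_
    by_cases he : θ = τ
    · exact Submodule.mem_sup_right (he ▸ Ideal.mem_span_singleton_self _)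
    · exact Submodule.mem_sup_left (X_mem_schubert K fun hle => hτ ⟨θ, lt_of_le_of_ne hle he⟩)

theorem isRadical_sup_span_X (hd : 0 < d) (τ : Idx d n) :
    (schubertVanishing K d n τ ⊔ Ideal.span {X τ}).IsRadical := by
  by_cases hτ : ∃ φ, φ < τ
  · rw [sup_span_X_eq K hd τ hτ]
    refine Ideal.isRadical_iInf _ fun φ => Ideal.isRadical_iInf _ fun _ => ?_
    exact (isPrime_schubert K hd φ).isRadical
  · rw [sup_span_X_eq_of_minimal K hd τ hτ]
    exact (RingHom.ker_isPrime _).isRadical

theorem isRadical_span_pTau (hd : 0 < d) (τ : Idx d n) : (Ideal.span {pTau K τ}).IsRadical := by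
  intro x hx
  obtain ⟨p, rfl⟩ := Ideal.Quotient.mk_surjective x
  obtain ⟨k, hk⟩ := hx
  rw [span_pTau, ← map_pow, ← Ideal.mem_comap, Ideal.comap_map_of_surjective _ Ideal.Quotient.mk_surjective,
    ← RingHom.ker_eq_comap_bot, Ideal.mk_ker, sup_eq_left.2 le_sup_left] at hk
  rw [span_pTau]
  exact Ideal.mem_map_of_mem _ (isRadical_sup_span_X K hd τ ⟨k, hk⟩)

theorem isDomain_cellLoc (τ : Idx d n) : IsDomain (Localization.Away (scl K τ)) :=
  IsLocalization.isDomain_localization (powers_le_nonZeroDivisors_of_noZeroDivisors (scl_ne_zero τ))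

theorem ufd_cellLoc (τ : Idx d n) : UniqueFactorizationMonoid (Localization.Away (scl K τ)) :=
  UniqueFactorizationMonoid.of_isLocalization (Submonoid.powers (scl K τ)) _

theorem isIntegrallyClosed_sring (hd : 0 < d) (τ : Idx d n) : IsIntegrallyClosed (SRing K τ) := by
  letI := (locHom (K := K) τ).toRingHom.toAlgebra
  haveI := isLocalization_cell (K := K) hd τ
  haveI := isDomain_cellLoc K τ
  haveI := isDomain_sring K hd τ
  haveI := ufd_cellLoc K τ
  haveI : IsIntegrallyClosed (Localization.Away (scl K τ)) := inferInstance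
  exact isIntegrallyClosed_of_away (P := Localization.Away (scl K τ)) (pTau K τ) (pTau_ne_zero K τ) (isRadical_span_pTau K hd τ)

theorem card_freePos (τ : Idx d n) : Fintype.card (FreePos τ) = codeg τ := by
  classical
  rw [Fintype.card_subtype]
  have h : (Finset.univ.filter fun p : Fin n × Fin d => p.1 < τ.1 p.2 ∧ ∀ s, τ.1 s ≠ p.1) =
      Finset.univ.biUnion fun t : Fin d =>
        ((Finset.Iio (τ.1 t)) \ (Finset.Iio t).image τ.1).image fun i => (i, t) := by
    ext ⟨i, t⟩
    simp only [Finset.mem_filter, Finset.mem_univ, true_and, Finset.mem_biUnion, Finset.mem_image,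
      Finset.mem_sdiff, Finset.mem_Iio, Prod.mk.injEq, not_exists, not_and]
    constructor
    · rintro ⟨h1, h2⟩
      exact ⟨t, i, ⟨h1, fun s _ => h2 s⟩, rfl, rfl⟩
    · rintro ⟨t, i, ⟨h1, h2⟩, rfl, rfl⟩
      exact ⟨h1, fun s hs => h2 s (τ.2.lt_iff_lt.1 (hs ▸ h1)) hs⟩
  rw [h, Finset.card_biUnion, codeg]
  · refine Finset.sum_congr rfl fun t _ => ?_
    rw [Finset.card_image_of_injective _ fun a b hab => (Prod.mk.injEq .. ▸ hab).1,
      Finset.card_sdiff_of_subset, Finset.card_image_of_injective _ τ.2.injective, Fin.card_Iio, Fin.card_Iio]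
    intro i hi
    obtain ⟨s, hs, rfl⟩ := Finset.mem_image.1 hi
    exact Finset.mem_Iio.2 (τ.2 (Finset.mem_Iio.1 hs))
  · intro a _ b _ hab
    rw [Function.onFun, Finset.disjoint_left]
    rintro ⟨i, t⟩ h1 h2
    simp only [Finset.mem_image, Prod.mk.injEq] at h1 h2
    obtain ⟨_, _, _, rfl⟩ := h1
    obtain ⟨_, _, _, h2⟩ := h2
    exact hab h2.symm

theorem trdeg_sring (hd : 0 < d) (τ : Idx d n) :
    Algebra.trdeg K (SRing K τ) = ((codeg τ + 1 : ℕ) : Cardinal) := by
  letI := (locHom (K := K) τ).toRingHom.toAlgebra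
  haveI := isLocalization_cell (K := K) hd τ
  haveI := isDomain_cellLoc K τ
  haveI := isDomain_sring K hd τ
  let P := Localization.Away (scl K τ)
  haveI : IsScalarTower K (SRing K τ) P := IsScalarTower.of_algHom (locHom (K := K) τ)
  haveI : FaithfulSMul (SRing K τ) P := (faithfulSMul_iff_algebraMap_injective _ _).2
    (IsLocalization.injective P (powers_le_nonZeroDivisors_of_noZeroDivisors (pTau_ne_zero K τ)))
  haveI : FaithfulSMul (CellPoly K τ) P := (faithfulSMul_iff_algebraMap_injective _ _).2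
    (IsLocalization.injective P (powers_le_nonZeroDivisors_of_noZeroDivisors (scl_ne_zero τ)))
  haveI : Algebra.IsAlgebraic (SRing K τ) P := IsLocalization.isAlgebraic P (Submonoid.powers (pTau K τ))
  haveI : Algebra.IsAlgebraic (CellPoly K τ) P := IsLocalization.isAlgebraic P (Submonoid.powers (scl K τ))
  have h1 := trdeg_add_eq K (SRing K τ) (A := P)
  have h2 := trdeg_add_eq K (CellPoly K τ) (A := P)
  rw [trdeg_eq_zero (R := SRing K τ) (A := P), add_zero] at h1
  rw [trdeg_eq_zero (R := CellPoly K τ) (A := P), add_zero] at h2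
  rw [h1, ← h2, MvPolynomial.trdeg_of_isDomain]
  simp [card_freePos]

theorem ringKrullDim_sring (hd : 0 < d) (τ : Idx d n) :
    ringKrullDim (SRing K τ) = ((codeg τ + 1 : ℕ) : WithBot ℕ∞) := by
  haveI := isDomain_sring K hd τ
  rw [VarDim.ringKrullDim_eq_tdeg K (SRing K τ), VarDim.tdeg, trdeg_sring K hd τ, Cardinal.toNat_natCast]

theorem prime_pTau_iff (hd : 0 < d) (τ : Idx d n) : Prime (pTau K τ) ↔ (divisors τ).Subsingleton := by
  haveI := isDomain_sring K hd τ
  rw [← Ideal.span_singleton_prime (pTau_ne_zero K τ), span_pTau]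
  have hiff : ∀ J : Ideal (PlRing K d n), schubertVanishing K d n τ ≤ J →
      ((J.map (Ideal.Quotient.mk (schubertVanishing K d n τ))).IsPrime ↔ J.IsPrime) := fun J hJ => by
    constructor
    · intro hp
      have := Ideal.comap_isPrime (Ideal.Quotient.mk (schubertVanishing K d n τ))
        (J.map (Ideal.Quotient.mk (schubertVanishing K d n τ))) (H := hp)
      rwa [Ideal.comap_map_of_surjective _ Ideal.Quotient.mk_surjective, ← RingHom.ker_eq_comap_bot,
        Ideal.mk_ker, sup_eq_left.2 hJ] at this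
    · intro hp
      exact Ideal.map_isPrime_of_surjective Ideal.Quotient.mk_surjective (by rw [Ideal.mk_ker]; exact hJ)
  rw [hiff _ le_sup_left]
  by_cases hτ : ∃ φ, φ < τ
  · rw [sup_span_X_eq K hd τ hτ]
    classical
    constructor
    · intro hp φ₁ h₁ φ₂ h₂
      rw [show (⨅ φ ∈ divisors τ, schubertVanishing K d n φ) =
        (Finset.univ.filter (· ∈ divisors τ)).inf (schubertVanishing K d n) by
        rw [Finset.inf_eq_iInf]; simp] at hp
      obtain ⟨ψ, hψ, hle⟩ := (Ideal.IsPrime.inf_le' hp).1 le_rfl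
      simp only [Finset.mem_filter, Finset.mem_univ, true_and] at hψ
      have hall : ∀ φ ∈ divisors τ, φ = ψ := by
        intro φ hφ
        have h3 : schubertVanishing K d n ψ ≤ schubertVanishing K d n φ :=
          hle.trans (Finset.inf_le (Finset.mem_filter.2 ⟨Finset.mem_univ _, hφ⟩))
        have h4 : φ ≤ ψ := by
          by_contra hn
          exact X_notMem_schubert K (le_refl φ) (h3 (X_mem_schubert K hn))
        rcases eq_or_lt_of_le h4 with h4 | h4
        · exact h4
        · have h5 := ht_strictMono h4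
          rw [ht_eq_codeg, ht_eq_codeg] at h5
          have := hφ.2; have := hψ.2
          omega
      rw [hall φ₁ h₁, hall φ₂ h₂]
    · intro hs
      obtain ⟨φ, hφ⟩ := (exists_divisor_iff τ).1 hτ
      rw [hs.eq_singleton_of_mem hφ, iInf_singleton]
      exact isPrime_schubert K hd φ
  · rw [sup_span_X_eq_of_minimal K hd τ hτ]
    refine iff_of_true (RingHom.ker_isPrime _) ?_
    rintro a ha
    exact absurd ⟨a, ha.1⟩ hτ

theorem not_isUnit_pTau (hd : 0 < d) (τ : Idx d n) : ¬ IsUnit (pTau K τ) := fun hu => by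
  let e : SRing K τ →+* K := Ideal.Quotient.lift _ constantCoeff fun a ha =>
    RingHom.mem_ker.1 (schubert_le_constantCoeff K hd τ ha)
  exact not_isUnit_zero (M₀ := K) (by simpa [e] using hu.map e)

theorem irreducible_pTau (hd : 0 < d) (τ : Idx d n) : Irreducible (pTau K τ) := by
  haveI := isDomain_sring K hd τ
  have hp := pTau_ne_zero K τ
  have hnu := not_isUnit_pTau K hd τ
  refine ⟨hnu, fun a b hab => ?_⟩
  have hu : cellHom τ (pTau K τ) = scl K τ := (cellHom_mk τ _).trans (cellMap_X_self K hd τ)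
  have hinj := cellHom_injective (K := K) hd τ
  have hX : Prime (scl K τ) := MvPolynomial.X_prime
  obtain ⟨i, hi, ha⟩ := (dvd_prime_pow hX 1).1
    (show cellHom τ a ∣ scl K τ ^ 1 from ⟨cellHom τ b, by rw [pow_one, ← hu, hab, map_mul]⟩)
  -- units of the cell polynomial ring are constants
  have hsc : ∀ (x : SRing K τ) (m : ℕ), Associated (cellHom τ x) (scl K τ ^ m) →
      Associated x (pTau K τ ^ m) := by
    rintro x m ⟨v, hv⟩
    obtain ⟨k, hk, hkv⟩ := MvPolynomial.isUnit_iff_eq_C_of_isReduced.1 v.isUnit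
    refine ⟨(hk.map (algebraMap K (SRing K τ))).unit, hinj ?_⟩
    rw [map_mul, IsUnit.unit_spec, AlgHom.commutes, map_pow, hu, ← hv, hkv]
    rfl
  have hia := hsc a i ha
  interval_cases i
  · left
    rw [pow_zero] at hia
    exact associated_one_iff_isUnit.1 hia
  · right
    rw [pow_one] at hia
    obtain ⟨v, hv⟩ := hia
    have h1 : a * b = a * (v : SRing K τ) := by rw [hv, ← hab]
    rw [mul_left_cancel₀ (fun h0 => hp (by rw [← hv, h0, zero_mul])) h1]
    exact v.isUnit

theorem ufd_sring_iff (hd : 0 < d) (τ : Idx d n) :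
    UniqueFactorizationMonoid (SRing K τ) ↔ Prime (pTau K τ) := by
  letI := (locHom (K := K) τ).toRingHom.toAlgebra
  haveI := isLocalization_cell (K := K) hd τ
  haveI := isDomain_cellLoc K τ
  haveI := isDomain_sring K hd τ
  haveI := ufd_cellLoc K τ
  exact ⟨fun h => UniqueFactorizationMonoid.irreducible_iff_prime.1 (irreducible_pTau K hd τ),
    fun hp => ufd_of_away (P := Localization.Away (scl K τ)) (pTau K τ) hp⟩

theorem subsingleton_divisors_iff (τ : Idx d n) :
    (divisors τ).Subsingleton ↔ ∃ s : ℕ, (∀ t : Fin d, t.val < s → (τ.1 t).val = t.val) ∧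
      ∀ t t' : Fin d, s ≤ t.val → t.val + 1 = t'.val → (τ.1 t).val + 1 = (τ.1 t').val := by
  classical
  -- lowering the entry at a descendable position
  have low : ∀ t : Fin d, t.val < (τ.1 t).val →
      (∀ t' : Fin d, t'.val + 1 = t.val → (τ.1 t').val + 1 < (τ.1 t).val) →
      ∃ φ ∈ divisors τ, φ.1 t ≠ τ.1 t ∧ ∀ s, s ≠ t → φ.1 s = τ.1 s := by
    intro t hpos hgap
    let f : Fin d → Fin n := Function.update τ.1 t ⟨(τ.1 t : ℕ) - 1, by omega⟩
    have hf : StrictMono f := by
      intro a b hab
      simp only [f, Function.update_apply]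
      split_ifs with h1 h2 h2
      · exact absurd (h1.trans h2.symm) hab.ne
      · subst h1
        have := Fin.lt_def.1 (τ.2 hab)
        rw [Fin.lt_def]; simp only; omega
      · subst h2
        rw [Fin.lt_def]; simp only
        have hab' := Fin.lt_def.1 hab
        rcases eq_or_lt_of_le (Nat.succ_le_of_lt hab') with h | h
        · have := hgap a h; omega
        · have h3 := Fin.lt_def.1 (τ.2 (show a < (⟨b.val - 1, by omega⟩ : Fin d) from Fin.lt_def.2 (by simp only; omega)))
          have h4 := Fin.lt_def.1 (τ.2 (show (⟨b.val - 1, by omega⟩ : Fin d) < b from Fin.lt_def.2 (by simp only; omega)))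
          omega
      · exact τ.2 hab
    have hne : f t ≠ τ.1 t := fun he => by
      have := congrArg Fin.val he
      simp [f] at this; omega
    refine ⟨⟨f, hf⟩, ⟨lt_of_le_of_ne (fun s => ?_) (fun he => hne (congrArg (fun θ : Idx d n => θ.1 t) he)), ?_⟩,
      hne, fun s hs => Function.update_of_ne hs _ _⟩
    · simp only [f, Function.update_apply]
      split_ifs with h
      · subst h; rw [Fin.le_def]; simp
      · exact le_rfl
    · have h1 := ht_eq_codeg (⟨f, hf⟩ : Idx d n)
      have h2 := ht_eq_codeg τ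
      have h3 : ht (⟨f, hf⟩ : Idx d n) + 1 = ht τ := by
        simp only [ht]
        rw [← Finset.add_sum_erase _ _ (Finset.mem_univ t), ← Finset.add_sum_erase _ _ (Finset.mem_univ t),
          Finset.sum_congr rfl (g := fun x => ((τ.1 x : Fin n) : ℕ)) fun x hx => by
            simp [f, Function.update_of_ne (Finset.mem_erase.1 hx).1]]
        simp [f]
        omega
      omega
  constructor
  · intro hsub
    by_cases hex : ∃ t : Fin d, t.val < (τ.1 t).val
    · let S := Finset.univ.filter fun t : Fin d => t.val < (τ.1 t).val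
      obtain ⟨s, hs, hmin⟩ := S.exists_min_image (fun t => t.val) (by
        obtain ⟨t, ht⟩ := hex
        exact ⟨t, Finset.mem_filter.2 ⟨Finset.mem_univ _, ht⟩⟩)
      have hs' := (Finset.mem_filter.1 hs).2
      have hbelow : ∀ t : Fin d, t.val < s.val → (τ.1 t).val = t.val := fun t hts => by
        by_contra hne
        have hlt : t.val < (τ.1 t).val := lt_of_le_of_ne (id_le τ t) (Ne.symm hne)
        have := hmin t (Finset.mem_filter.2 ⟨Finset.mem_univ _, hlt⟩)
        omega
      refine ⟨s.val, hbelow, fun t t' hst htt' => ?_⟩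
      by_contra hne
      have h1 := Fin.lt_def.1 (τ.2 (show t < t' from Fin.lt_def.2 (by omega)))
      have h2 := id_le τ t
      obtain ⟨φ, hφ, hφne, hφeq⟩ := low s hs' fun t'' h'' => by
        rw [hbelow t'' (by omega)]; omega
      obtain ⟨ψ, hψ, hψne, hψeq⟩ := low t' (by omega) fun t'' h'' => by
        obtain rfl : t'' = t := Fin.ext (by omega)
        omega
      rw [hsub hφ hψ] at hφne
      exact hφne (hψeq s fun h => by rw [← h] at htt'; omega)
    · rw [not_exists] at hex
      exact ⟨d, fun t _ => le_antisymm (not_lt.1 (hex t)) (id_le τ t),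
        fun t t' h => absurd t.2 (by omega)⟩
  · rintro ⟨s, hlow, hcons⟩ φ hφ ψ hψ
    have key : ∀ θ ∈ divisors τ, ∃ t : Fin d, t.val = s ∧ (θ.1 t).val + 1 = (τ.1 t).val ∧
        ∀ u, u ≠ t → θ.1 u = τ.1 u := by
      intro θ hθ
      have hle : ∀ u, (θ.1 u).val ≤ (τ.1 u).val := fun u => Fin.le_def.1 (hθ.1.le u)
      obtain ⟨t, ht⟩ : ∃ t, (θ.1 t).val < (τ.1 t).val := by
        by_contra hcon
        rw [not_exists] at hcon
        exact hθ.1.ne (Subtype.ext (funext fun u => le_antisymm (hθ.1.le u) (Fin.le_def.2 (not_lt.1 (hcon u)))))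
      have hsum : ∑ u, (θ.1 u).val + 1 = ∑ u, (τ.1 u).val := by
        have h1 := ht_eq_codeg θ; have h2 := ht_eq_codeg τ; have := hθ.2
        simp only [W4bk4grassmannian.codeg, SMT.ht] at *
        omega
      rw [← Finset.add_sum_erase _ _ (Finset.mem_univ t), ← Finset.add_sum_erase _ (fun u => (τ.1 u).val)
        (Finset.mem_univ t)] at hsum
      have h3 := Finset.sum_le_sum (s := Finset.univ.erase t) fun u _ => hle u
      have hrest : ∀ u, u ≠ t → θ.1 u = τ.1 u := fun u hu => by
        apply Fin.ext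
        by_contra hne
        have := Finset.sum_lt_sum (s := Finset.univ.erase t) (fun v _ => hle v)
          ⟨u, Finset.mem_erase.2 ⟨hu, Finset.mem_univ _⟩, lt_of_le_of_ne (hle u) hne⟩
        omega
      refine ⟨t, ?_, by omega, hrest⟩
      have h5 := id_le θ t
      rcases Nat.lt_trichotomy t.val s with h | h | h
      · have := hlow t h; omega
      · exact h
      · let t₁ : Fin d := ⟨t.val - 1, by omega⟩
        have h6 := hcons t₁ t (by simp [t₁]; omega) (by simp [t₁]; omega)
        have h7 := Fin.lt_def.1 (θ.2 (show t₁ < t from Fin.lt_def.2 (by simp [t₁]; omega)))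
        rw [hrest t₁ (fun he => by have := congrArg Fin.val he; simp [t₁] at this; omega)] at h7
        omega
    obtain ⟨t, ht, h1, h2⟩ := key φ hφ
    obtain ⟨t', ht', h1', h2'⟩ := key ψ hψ
    obtain rfl : t = t' := Fin.ext (by omega)
    refine Subtype.ext (funext fun u => ?_)
    by_cases hu : u = t
    · subst hu; exact Fin.ext (by omega)
    · rw [h2 u hu, h2' u hu]

end Groth.Agent.SMT
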