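import Groth.Agent.Lib.SMT.Schubert
import Groth.Agent.Lib.SMT.CMBasic
import Mathlib.RingTheory.RegularLocalRing.Polynomial

/-!
# Schubert cones and unions of Schubert divisors are Cohen–Macaulay
-/

namespace Groth.Agent.SMT

open W4bk4grassmannian MvPolynomial

universe u

theorem depth_eq_dim_of_maximal {K : Type u} [Field K] {B : Type u} [CommRing B] [IsDomain B] [Algebra K B]
    [Algebra.FiniteType K B] (m : Ideal B) [hm : m.IsMaximal]
    (h : LocCoh.IsCohenMacaulayLocalRing (Localization.AtPrime m)) :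
    ((LocCoh.depth (Localization.AtPrime m) (Localization.AtPrime m) : ℕ∞) : WithBot ℕ∞) = ringKrullDim B := by
  rw [← h.supportDim_eq_depth, Module.supportDim_self_eq_ringKrullDim,
    IsLocalization.AtPrime.ringKrullDim_eq_height m]
  have h1 := VarDim.height_add_coheight K B ⟨m, hm.isPrime⟩
  have h2 : Order.coheight (⟨m, hm.isPrime⟩ : PrimeSpectrum B) = 0 :=
    Order.coheight_eq_zero.2 fun q hq => le_of_eq (PrimeSpectrum.ext (hm.eq_of_le q.2.ne_top hq).symm)
  rw [h2, add_zero, ← PrimeSpectrum.height_eq_orderHeight] at h1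
  exact h1

theorem isCM_atPrime_of_notMem {B : Type u} [CommRing B] (p : B) (P : Type u) [CommRing P] [Algebra B P]
    [IsLocalization.Away p P] [IsNoetherianRing P]
    (hP : ∀ (q : Ideal P) [q.IsPrime], LocCoh.IsCohenMacaulayLocalRing (Localization.AtPrime q))
    (m : Ideal B) [m.IsPrime] (hpm : p ∉ m) : LocCoh.IsCohenMacaulayLocalRing (Localization.AtPrime m) := by
  have hd : Disjoint (Submonoid.powers p : Set B) (m : Set B) := by
    rw [Set.disjoint_left]
    rintro _ ⟨k, rfl⟩ hk
    exact hpm (Ideal.IsPrime.mem_of_pow_mem inferInstance k hk)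
  haveI hq : (m.map (algebraMap B P)).IsPrime :=
    IsLocalization.isPrime_of_isPrime_disjoint (Submonoid.powers p) P m inferInstance hd
  have hc : (m.map (algebraMap B P)).comap (algebraMap B P) = m := by
    rw [← Ideal.under_def]
    exact IsLocalization.under_map_of_isPrime_disjoint (Submonoid.powers p) P inferInstance hd
  haveI : IsLocalization m.primeCompl (Localization.AtPrime (m.map (algebraMap B P))) := by
    have := IsLocalization.isLocalization_isLocalization_atPrime_isLocalization (Submonoid.powers p)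
      (T := Localization.AtPrime (m.map (algebraMap B P))) (m.map (algebraMap B P))
    convert this using 2
    exact hc.symm
  exact isCM_of_ringEquiv (IsLocalization.algEquiv m.primeCompl
    (Localization.AtPrime (m.map (algebraMap B P))) (Localization.AtPrime m)).toRingEquiv (hP _)

theorem isCM_atPrime_of_isLocalization {S : Type u} [CommRing S] [IsRegularRing S] (M : Submonoid S)
    {P : Type u} [CommRing P] [Algebra S P] [IsLocalization M P] (q : Ideal P) [q.IsPrime] :
    LocCoh.IsCohenMacaulayLocalRing (Localization.AtPrime q) := by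
  haveI := IsLocalization.isLocalization_isLocalization_atPrime_isLocalization M (T := Localization.AtPrime q) q
  haveI : IsRegularLocalRing (Localization.AtPrime q) := IsRegularLocalRing.of_ringEquiv
    (IsLocalization.algEquiv (q.comap (algebraMap S P)).primeCompl
      (Localization.AtPrime (q.comap (algebraMap S P))) (Localization.AtPrime q)).toRingEquiv
  exact DepthLib.isCohenMacaulayLocalRing_of_isRegularLocalRing

variable (K : Type u) [Field K] [Infinite K] {d n : ℕ}

theorem isSMulRegular_pTau (hd : 0 < d) (τ : Idx d n) :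
    IsSMulRegular (SRing K τ) (X τ : PlRing K d n) := by
  haveI := isDomain_sring K hd τ
  intro a b hab
  exact mul_left_cancel₀ (pTau_ne_zero K τ) hab

theorem allDepth_minimal (hd : 0 < d) (τ : Idx d n) (hτ : ¬ ∃ φ, φ < τ) :
    codeg τ = 0 := by
  by_contra hne
  obtain ⟨t, ht⟩ : ∃ t : Fin d, t.val < (τ.1 t).val := by
    by_contra hcon
    rw [not_exists] at hcon
    exact hne (Finset.sum_eq_zero fun t _ => Nat.sub_eq_zero_of_le (not_lt.1 (hcon t)))
  let b : Idx d n := ⟨fun t => ⟨t.val, lt_of_le_of_lt (id_le τ t) (τ.1 t).2⟩, fun a c h => h⟩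
  refine hτ ⟨b, lt_of_le_of_ne (fun s => Fin.le_def.2 (id_le τ s)) fun he => ?_⟩
  rw [← he] at ht
  exact lt_irrefl _ ht

theorem allDepth_schubert_of_divisors (hd : 0 < d) (τ : Idx d n)
    (h : AllDepth (schubertVanishing K d n τ ⊔ Ideal.span {X τ}) (codeg τ)) :
    AllDepth (schubertVanishing K d n τ) (codeg τ + 1) := by
  intro m hm
  by_cases hp : (X τ : PlRing K d n) ∈ m
  · rw [← idealDepth_sup_span_add_one hp (isSMulRegular_pTau K hd τ), Nat.cast_succ]
    gcongr
    exact h m hm
  · by_cases hJ : schubertVanishing K d n τ ≤ m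
    · haveI := isDomain_sring K hd τ
      letI := (locHom (K := K) τ).toRingHom.toAlgebra
      haveI := isLocalization_cell (K := K) hd τ
      let mk := Ideal.Quotient.mk (schubertVanishing K d n τ)
      have hmb : (m.map mk).IsMaximal := by
        rcases Ideal.map_eq_top_or_isMaximal_of_surjective mk Ideal.Quotient.mk_surjective hm with h1 | h1
        · exfalso
          have h2 := congrArg (Ideal.comap mk) h1
          rw [Ideal.comap_map_of_surjective _ Ideal.Quotient.mk_surjective, ← RingHom.ker_eq_comap_bot,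
            Ideal.mk_ker, sup_eq_left.2 hJ, Ideal.comap_top] at h2
          exact hm.ne_top h2
        · exact h1
      have hnot : pTau K τ ∉ m.map mk := fun hmem => hp (by
        have h2 : (X τ : PlRing K d n) ∈ (m.map mk).comap mk := hmem
        rwa [Ideal.comap_map_of_surjective _ Ideal.Quotient.mk_surjective, ← RingHom.ker_eq_comap_bot,
          Ideal.mk_ker, sup_eq_left.2 hJ] at h2)
      have hCM := isCM_atPrime_of_notMem (pTau K τ) (Localization.Away (scl K τ))
        (fun q _ => isCM_atPrime_of_isLocalization (Submonoid.powers (scl K τ)) q) (m.map mk) hnot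
      have hdepth := depth_eq_dim_of_maximal (K := K) (m.map mk) hCM
      rw [ringKrullDim_sring K hd τ] at hdepth
      have h3 : ((codeg τ + 1 : ℕ) : ℕ∞) ≤ LocCoh.idealDepth (m.map mk) (SRing K τ) := by
        rw [DepthLib.natCast_le_idealDepth_iff_forall_localized]
        intro q hq
        obtain rfl : q = ⟨m.map mk, hmb.isPrime⟩ := PrimeSpectrum.ext (hmb.eq_of_le q.2.ne_top hq).symm
        rw [DepthLib.depth_localizedModule_self]
        exact (WithBot.coe_injective hdepth).ge
      rwa [← GorenLib.idealDepth_map_of_surjective (A := PlRing K d n) (B := SRing K τ)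
        Ideal.Quotient.mk_surjective, Ideal.Quotient.algebraMap_eq]
    · rw [idealDepth_quotient_eq_top (hm.1.2 _ (lt_of_le_of_ne le_sup_left fun h => hJ (h ▸ le_sup_right)))]
      exact le_top

theorem iInf_sup_schubert (hd : 0 < d) (s : Finset (Idx d n)) (hs : s.Nonempty) (φ : Idx d n) :
    (⨅ ψ ∈ s, schubertVanishing K d n ψ) ⊔ schubertVanishing K d n φ =
      ⨅ θ ∈ s.image (fun ψ => W4bk4grassmannian.inf ψ φ), schubertVanishing K d n θ := by
  classical
  rw [Finset.iInf_finset_image]
  simp only [iInf_subtype']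
  refine eq_iInf_of K hd (fun ψ : s => W4bk4grassmannian.inf ψ.1 φ) _
    (((plIdealTop_le_vanishing K).trans (vanishing_le_schubert K φ)).trans le_sup_right) ?_ ?_
  · intro m c _ hno
    by_cases hφ : ∀ k, c k ≤ φ
    · refine Submodule.mem_sup_left ?_
      rw [Submodule.mem_iInf]
      intro ψ
      obtain ⟨k, hk⟩ : ∃ k, ¬ c k ≤ ψ.1 := by
        by_contra hcon
        rw [not_exists] at hcon
        exact hno ⟨ψ, fun k => le_inf_iff'.2 ⟨not_not.1 (hcon k), hφ k⟩⟩
      exact Ideal.mem_of_dvd _ (Finset.dvd_prod_of_mem _ (Finset.mem_univ k)) (X_mem_schubert K hk)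
    · obtain ⟨k, hk⟩ := not_forall.1 hφ
      exact Submodule.mem_sup_right
        (Ideal.mem_of_dvd _ (Finset.dvd_prod_of_mem _ (Finset.mem_univ k)) (X_mem_schubert K hk))
  · refine le_iInf fun ψ => sup_le ((iInf_le _ ψ).trans ?_) ?_
    · exact schubert_mono K fun t => min_le_left _ _
    · exact schubert_mono K fun t => min_le_right _ _

theorem inf_mem_divisors {τ φ ψ : Idx d n} (hφ : φ ∈ divisors τ) (hψ : ψ ∈ divisors τ) (hne : ψ ≠ φ) :
    W4bk4grassmannian.inf ψ φ ∈ divisors φ := by
  have hlt : ¬ φ ≤ ψ := fun h => by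
    rcases eq_or_lt_of_le h with h | h
    · exact hne h.symm
    · have h5 := ht_strictMono h
      rw [ht_eq_codeg, ht_eq_codeg] at h5
      have := hφ.2; have := hψ.2
      omega
  have hlt' : W4bk4grassmannian.inf ψ φ < φ := by
    refine lt_of_le_of_ne (fun t => min_le_right _ _) fun he => hlt fun t => ?_
    rw [← he]; exact min_le_left _ _
  refine ⟨hlt', ?_⟩
  have h1 := ht_strictMono hlt'
  have h2 := ht_sup_add_ht_inf ψ φ
  have h3 : ht (W4bk4grassmannian.sup ψ φ) ≤ ht τ :=
    ht_strictMono.monotone (sup_le_iff'.2 ⟨hψ.1.le, hφ.1.le⟩)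
  have e1 := ht_eq_codeg φ; have e2 := ht_eq_codeg ψ; have e3 := ht_eq_codeg τ
  have e4 := ht_eq_codeg (W4bk4grassmannian.inf ψ φ)
  have := hφ.2; have := hψ.2
  omega

theorem allDepth_union (hd : 0 < d) : ∀ (c : ℕ) (τ : Idx d n), codeg τ = c →
    AllDepth (schubertVanishing K d n τ) (c + 1) ∧
      ∀ s : Finset (Idx d n), s.Nonempty → (∀ φ ∈ s, φ ∈ divisors τ) →
        AllDepth (⨅ φ ∈ s, schubertVanishing K d n φ) c := by
  classical
  intro c
  induction c using Nat.strong_induction_on with
  | _ c ih =>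
    intro τ hc
    have hU : ∀ s : Finset (Idx d n), s.Nonempty → (∀ φ ∈ s, φ ∈ divisors τ) →
        AllDepth (⨅ φ ∈ s, schubertVanishing K d n φ) c := by
      intro s hs
      induction s using Finset.induction_on with
      | empty => exact absurd hs Finset.not_nonempty_empty
      | insert φ s hφs ihs =>
        intro hdiv
        have hφ := hdiv φ (Finset.mem_insert_self _ _)
        have hcφ : codeg φ + 1 = c := hc ▸ hφ.2
        have h1 : AllDepth (schubertVanishing K d n φ) c :=
          ((ih (codeg φ) (by omega) φ rfl).1).mono (by omega)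
        rcases s.eq_empty_or_nonempty with rfl | hne
        · simpa using h1
        · rw [Finset.iInf_insert, inf_comm]
          refine AllDepth.inf (ihs hne fun ψ hψ => hdiv ψ (Finset.mem_insert_of_mem hψ)) h1 ?_
          rw [iInf_sup_schubert K hd s hne φ, show c - 1 = codeg φ by omega]
          refine (ih (codeg φ) (by omega) φ rfl).2 _ (hne.image _) fun θ hθ => ?_
          obtain ⟨ψ, hψ, rfl⟩ := Finset.mem_image.1 hθ
          exact inf_mem_divisors hφ (hdiv ψ (Finset.mem_insert_of_mem hψ)) fun h => hφs (h ▸ hψ)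
    refine ⟨?_, hU⟩
    subst hc
    refine allDepth_schubert_of_divisors K hd τ ?_
    by_cases hτ : ∃ φ, φ < τ
    · rw [sup_span_X_eq K hd τ hτ,
        show (⨅ φ ∈ divisors τ, schubertVanishing K d n φ) =
          ⨅ φ ∈ (Finset.univ.filter (· ∈ divisors τ)), schubertVanishing K d n φ by simp]
      obtain ⟨φ, hφ⟩ := (exists_divisor_iff τ).1 hτ
      exact hU _ ⟨φ, Finset.mem_filter.2 ⟨Finset.mem_univ _, hφ⟩⟩ fun ψ hψ => (Finset.mem_filter.1 hψ).2
    · rw [allDepth_minimal hd τ hτ]
      exact fun m _ => by simp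

theorem isCM_schubert (hd : 0 < d) (τ : Idx d n) : LocCoh.IsCohenMacaulayRing (SRing K τ) :=
  (allDepth_union K hd (codeg τ) τ rfl).1.isCM (le_of_eq (ringKrullDim_sring K hd τ))

theorem isCM_union (hd : 0 < d) (τ : Idx d n) (s : ℕ) (φ : Fin s → Idx d n) (hφ : ∀ i, φ i ∈ divisors τ) :
    LocCoh.IsCohenMacaulayRing (PlRing K d n ⧸ ⨅ i, schubertVanishing K d n (φ i)) := by
  classical
  rcases Nat.eq_zero_or_pos s with hs | hs
  · refine @LocCoh.IsCohenMacaulayRing.mk _ _ inferInstance fun p hp => absurd ?_ hp.ne_top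
    haveI : IsEmpty (Fin s) := by subst hs; infer_instance
    haveI : Subsingleton (PlRing K d n ⧸ ⨅ i, schubertVanishing K d n (φ i)) :=
      Ideal.Quotient.subsingleton_iff.2 (iInf_of_empty _)
    exact Subsingleton.elim _ _
  have hI : (⨅ i, schubertVanishing K d n (φ i)) = ⨅ θ ∈ Finset.univ.image φ, schubertVanishing K d n θ := by
    rw [Finset.iInf_finset_image]; simp
  have h := (allDepth_union K hd (codeg τ) τ rfl).2 (Finset.univ.image φ)
    ⟨φ ⟨0, hs⟩, Finset.mem_image_of_mem _ (Finset.mem_univ _)⟩ (fun θ hθ => by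
      obtain ⟨i, -, rfl⟩ := Finset.mem_image.1 hθ
      exact hφ i)
  rw [← hI] at h
  refine h.isCM ?_
  refine Order.krullDim_le_of_strictMono (β := PrimeSpectrum (PlRing K d n ⧸ ⨅ i, schubertVanishing K d n (φ i)))
    id strictMono_id |>.trans ?_
  -- every prime contains one of the components
  rw [← ringKrullDim, ringKrullDim_quotient]
  refine iSup_le fun l => ?_
  have hmem : (⨅ i, schubertVanishing K d n (φ i)) ≤ (l 0).1.asIdeal := (l 0).2
  obtain ⟨i, -, hi⟩ := (Ideal.IsPrime.inf_le' (s := (Finset.univ : Finset (Fin s))) (l 0).1.2).1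
    (by rw [Finset.inf_univ_eq_iInf]; exact hmem)
  have hdim := ringKrullDim_sring K hd (φ i)
  replace hdim : ringKrullDim (PlRing K d n ⧸ schubertVanishing K d n (φ i)) = _ := hdim
  rw [ringKrullDim_quotient] at hdim
  let l' : LTSeries (PrimeSpectrum.zeroLocus (schubertVanishing K d n (φ i) : Set (PlRing K d n))) :=
    { length := l.length
      toFun := fun j => ⟨(l j).1, hi.trans (l.monotone (Fin.zero_le j))⟩
      step := fun j => l.step j }
  refine le_trans (Order.LTSeries.length_le_krullDim l') (hdim.le.trans ?_)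
  exact_mod_cast (hφ i).2.le

end Groth.Agent.SMT
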