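import Groth.Agent.Lib.SMT.Expansion
import Mathlib.RingTheory.MvPolynomial.WeightedHomogeneous

/-!
# The shape of the straightening relation of a skew pair
-/

namespace Groth.Agent.SMT

open W4bk4grassmannian MvPolynomial

universe u

variable {d n : ℕ}

/-- Reversal of rows and positions. -/
def revIdx (θ : Idx d n) : Idx d n :=
  ⟨fun t => (θ.1 t.rev).rev, fun _ _ h => Fin.rev_lt_rev.2 (θ.2 (Fin.rev_lt_rev.2 h))⟩

theorem revIdx_revIdx (θ : Idx d n) : revIdx (revIdx θ) = θ :=
  Subtype.ext (funext fun t => by simp [revIdx])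

theorem revIdx_le {θ θ' : Idx d n} (h : θ ≤ θ') : revIdx θ' ≤ revIdx θ :=
  fun t => Fin.rev_le_rev.2 (h t.rev)

theorem revIdx_le_iff {θ θ' : Idx d n} : revIdx θ ≤ revIdx θ' ↔ θ' ≤ θ :=
  ⟨fun h => by simpa [revIdx_revIdx] using revIdx_le h, revIdx_le⟩

theorem revIdx_sup (τ φ : Idx d n) : revIdx (sup τ φ) = inf (revIdx τ) (revIdx φ) := by
  refine le_antisymm (le_inf_iff'.2 ⟨revIdx_le ?_, revIdx_le ?_⟩) ?_
  · exact fun t => le_max_left _ _
  · exact fun t => le_max_right _ _
  · rw [← revIdx_revIdx (inf _ _), revIdx_le_iff, sup_le_iff']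
    constructor
    · rw [← revIdx_revIdx τ, revIdx_le_iff]; simpa [revIdx_revIdx] using (le_inf_iff'.1 le_rfl).1
    · rw [← revIdx_revIdx φ, revIdx_le_iff]; simpa [revIdx_revIdx] using (le_inf_iff'.1 le_rfl).2

theorem revIdx_inf (τ φ : Idx d n) : revIdx (inf τ φ) = sup (revIdx τ) (revIdx φ) := by
  have := revIdx_sup (revIdx τ) (revIdx φ)
  rw [revIdx_revIdx, revIdx_revIdx] at this
  rw [← this, revIdx_revIdx]

/-- The largest index. -/
def topIdx (hdn : d ≤ n) : Idx d n :=
  ⟨fun t => ⟨n - d + t, by omega⟩, fun a b h => Fin.lt_def.2 (by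
    have := Fin.lt_def.1 h; simp only; omega)⟩

theorem le_topIdx (hdn : d ≤ n) (θ : Idx d n) : θ ≤ topIdx hdn := by
  intro t
  have h := id_le (revIdx θ) t.rev
  simp only [revIdx, Fin.rev_rev, Fin.val_rev] at h
  rw [Fin.le_def]
  simp only [topIdx]
  omega

variable (K : Type u) [CommRing K]

theorem schubert_topIdx (hdn : d ≤ n) :
    schubertVanishing K d n (topIdx hdn) = vanishing K d n :=
  le_antisymm (fun p hp => (mem_vanishing K).2 fun A => (mem_schubert K).1 hp A
    fun φ h => absurd (le_topIdx hdn φ) h) (vanishing_le_schubert K _)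

theorem rename_rev_mem {p : PlRing K d n} (hp : p ∈ vanishing K d n) :
    rename revIdx p ∈ vanishing K d n := by
  refine (mem_vanishing K).2 fun A => ?_
  have h := (mem_vanishing K).1 hp (A.submatrix Fin.rev Fin.rev)
  rw [evalMinors, aeval_rename] at *
  rw [← h]
  refine congrArg (fun f => aeval f p) (funext fun θ => ?_)
  simp only [Function.comp_apply]
  rw [← Matrix.det_submatrix_equiv_self (Fin.revPerm : Fin d ≃ Fin d) (A.submatrix (revIdx θ).1 id)]
  refine congrArg Matrix.det ?_
  ext i j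
  simp [revIdx, Matrix.submatrix]

theorem rename_rev_mX (t : Multiset (Idx d n)) : rename revIdx (mX K t) = mX K (t.map revIdx) := by
  rw [map_mX, mX, Multiset.map_map]
  simp [Function.comp_def]

/-- Row content of an exponent. -/
noncomputable def rowc (t : Multiset (Idx d n)) : Fin n →₀ ℕ :=
  (t.map fun θ => ∑ i, Finsupp.single (θ.1 i) 1).sum

theorem eq_of_content {a b : Idx d n}
    (h : ∑ i, Finsupp.single (a.1 i) (1 : ℕ) = ∑ i, Finsupp.single (b.1 i) 1) : a = b := by
  classical
  refine Subtype.ext ((a.2.range_inj b.2).1 ?_)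
  ext s
  have hs := DFunLike.congr_fun h s
  simp only [Finsupp.finsetSum_apply, Finsupp.single_apply, Finset.sum_boole, Nat.cast_id] at hs
  have key : ∀ c : Idx d n, s ∈ Set.range c.1 ↔ 0 < (Finset.univ.filter fun i => c.1 i = s).card :=
    fun c => by simp [Finset.card_pos, Finset.filter_nonempty_iff]
  rw [key, key, hs]

theorem isWeightedHomogeneous_echMap_X (τ θ : Idx d n) :
    IsWeightedHomogeneous (fun p : Fin n × Fin d => Finsupp.single p.1 (1 : ℕ)) (echMap K τ (X θ))
      (∑ i, Finsupp.single (θ.1 i) 1) := by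
  classical
  rw [echMap, aeval_X, Matrix.det_apply]
  refine IsWeightedHomogeneous.sum _ _ _ fun σ _ => ?_
  rw [Units.smul_def, ← Int.cast_smul_eq_zsmul K]
  refine (weightedHomogeneousSubmodule K _ _).smul_mem _ ?_
  rw [mem_weightedHomogeneousSubmodule, ← Equiv.sum_comp σ]
  refine IsWeightedHomogeneous.prod _ _ _ fun i _ => ?_
  simp only [Matrix.submatrix_apply, echMatrix, Matrix.of_apply, id]
  split_ifs with h
  · exact isWeightedHomogeneous_X _ _ _
  · exact isWeightedHomogeneous_zero _ _ _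

theorem isWeightedHomogeneous_echMap_mX (τ : Idx d n) (t : Multiset (Idx d n)) :
    IsWeightedHomogeneous (fun p : Fin n × Fin d => Finsupp.single p.1 (1 : ℕ)) (echMap K τ (mX K t))
      (rowc t) := by
  induction t using Multiset.induction with
  | empty => simpa [mX, rowc] using isWeightedHomogeneous_one K _
  | cons a t ih =>
    rw [mX, Multiset.map_cons, Multiset.prod_cons, map_mul, rowc, Multiset.map_cons, Multiset.sum_cons]
    exact (isWeightedHomogeneous_echMap_X K τ a).mul ih

variable [IsDomain K] [Infinite K]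

theorem exists_ge_sup (hd : 0 < d) (hdn : d ≤ n) {τ φ : Idx d n}
    (l : CMS (topIdx hdn) →₀ K)
    (h : X τ * X φ - X (sup τ φ) * X (inf τ φ) - l.sum (fun t c => c • mX K t.1) ∈ vanishing K d n)
    {t : CMS (topIdx hdn)} (ht' : l t ≠ 0) (hne : t.1 ≠ 0) : ∃ a ∈ t.1, sup τ φ ≤ a := by
  classical
  obtain ⟨α, hα, hmax⟩ := Finset.exists_max_image t.1.toFinset ht
    (Multiset.toFinset_nonempty.2 hne)
  rw [Multiset.mem_toFinset] at hα
  have hall : ∀ b ∈ t.1, b ≤ α := fun b hb =>
    le_of_comparable (t.2.1 α hα b hb) (hmax b (Multiset.mem_toFinset.2 hb))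
  refine ⟨α, hα, ?_⟩
  by_contra hS
  have h0 := echMap_eq_zero_of_mem K (vanishing_le_schubert K α h)
  have h1 : echMap K α (X τ) * echMap K α (X φ) = 0 := by
    rw [sup_le_iff', not_and_or] at hS
    rcases hS with h' | h'
    · rw [echMap_X_of_not_le K h', zero_mul]
    · rw [echMap_X_of_not_le K h', mul_zero]
  rw [map_sub, map_sub, map_mul, map_mul, h1, echMap_X_of_not_le K hS, zero_mul, sub_zero, zero_sub,
    neg_eq_zero, Finsupp.sum, map_sum,
    ← Finset.sum_filter_add_sum_filter_not l.support (fun s => ∀ b ∈ s.1, b ≤ α)] at h0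
  rw [Finset.sum_eq_zero (s := l.support.filter fun s => ¬ ∀ b ∈ s.1, b ≤ α), add_zero] at h0
  swap
  · intro s hs
    obtain ⟨b, hb, hba⟩ : ∃ b ∈ s.1, ¬ b ≤ α := by simpa using (Finset.mem_filter.1 hs).2
    rw [map_smul, map_mX, Multiset.prod_eq_zero, smul_zero]
    exact Multiset.mem_map.2 ⟨b, hb, echMap_X_of_not_le K hba⟩
  simp only [map_smul] at h0
  have hli : LinearIndependent K (fun s : {s : CMS (topIdx hdn) // ∀ b ∈ s.1, b ≤ α} =>
      echMap K α (mX K s.1.1)) :=
    linearIndependent_of_top wt _ (fun s : {s : CMS (topIdx hdn) // ∀ b ∈ s.1, b ≤ α} => mdiag s.1.1)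
      (fun s => top_mX K s.2)
      (fun a b h => Subtype.ext (Subtype.ext (mdiag_injOn_chains hd a.1.2.1 b.1.2.1 h)))
  have := linearIndependent_iff'.1 hli (l.support.subtype fun s : CMS (topIdx hdn) => ∀ b ∈ s.1, b ≤ α)
    (fun s => l s.1) (by
      rw [Finset.sum_subtype_eq_sum_filter (f := fun s : CMS (topIdx hdn) => l s • echMap K α (mX K s.1))]
      exact h0) ⟨t, hall⟩ (Finset.mem_subtype.2 (Finsupp.mem_support_iff.2 ht'))
  exact ht' this


/-- Reversal of chains. -/
def revCMS (hdn : d ≤ n) (t : CMS (topIdx (d := d) hdn)) : CMS (topIdx (d := d) hdn) :=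
  ⟨t.1.map revIdx, fun a ha b hb => by
      obtain ⟨a', ha', rfl⟩ := Multiset.mem_map.1 ha
      obtain ⟨b', hb', rfl⟩ := Multiset.mem_map.1 hb
      exact (t.2.1 a' ha' b' hb').symm.imp revIdx_le revIdx_le,
    fun a _ => le_topIdx hdn a⟩

theorem rowc_sup_inf (τ φ : Idx d n) :
    rowc ({sup τ φ, inf τ φ} : Multiset (Idx d n)) = rowc {τ, φ} := by
  simp only [rowc, Multiset.insert_eq_cons, Multiset.map_cons, Multiset.sum_cons,
    Multiset.map_singleton, Multiset.sum_singleton, ← Finset.sum_add_distrib, sup, inf]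
  refine Finset.sum_congr rfl fun t _ => ?_
  rcases le_total (τ.1 t) (φ.1 t) with h | h
  · rw [max_eq_right h, min_eq_left h, add_comm]
  · rw [max_eq_left h, min_eq_right h]

/-- Shape of the straightening of a skew pair. -/
theorem straightening_shape (hd : 0 < d) (hdn : d ≤ n) {τ φ : Idx d n} (h₁ : ¬ τ ≤ φ) (h₂ : ¬ φ ≤ τ) :
    ∃ g ∈ Submodule.span K {f : PlRing K d n | ∃ α β : Idx d n,
        β ≤ α ∧ sup τ φ < α ∧ β < inf τ φ ∧ f = X α * X β},
      X τ * X φ - X (sup τ φ) * X (inf τ φ) - g ∈ vanishing K d n := by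
  classical
  set w := topIdx (d := d) hdn
  set l := (stdBasis K hd w).repr (Ideal.Quotient.mk _ (mX K {τ, φ}) -
    Ideal.Quotient.mk _ (mX K {sup τ φ, inf τ φ})) with hl
  have hrel : X τ * X φ - X (sup τ φ) * X (inf τ φ) - l.sum (fun t c => c • mX K t.1) ∈
      vanishing K d n := by
    rw [← schubert_topIdx K hdn, ← Ideal.Quotient.eq_zero_iff_mem, map_sub, sub_eq_zero, map_finsuppSum]
    have h := ((stdBasis K hd w).linearCombination_repr (Ideal.Quotient.mk _ (mX K {τ, φ}) -
      Ideal.Quotient.mk _ (mX K {sup τ φ, inf τ φ}))).symm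
    rw [Finsupp.linearCombination_apply, ← hl, ← map_sub] at h
    rw [show ∀ a b : Idx d n, (X a * X b : PlRing K d n) = mX K {a, b} from fun a b => by simp [mX],
      show ∀ a b : Idx d n, (X a * X b : PlRing K d n) = mX K {a, b} from fun a b => by simp [mX]]
    refine h.trans (Finsupp.sum_congr fun t _ => ?_)
    rw [stdBasis_apply]
    exact (map_smul (Ideal.Quotient.mkₐ K _) _ _).symm
  refine ⟨l.sum (fun t c => c • mX K t.1), Submodule.sum_mem _ fun t ht' => Submodule.smul_mem _ _ ?_, hrel⟩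
  have hlt : l t ≠ 0 := Finsupp.mem_support_iff.1 ht'
  have hwt := wt_lt_skew K hd w (le_topIdx hdn τ) (le_topIdx hdn φ) hlt
  have hcard : t.1.card = 2 := by
    have : l t = (stdBasis K hd w).repr (Ideal.Quotient.mk _ (mX K {τ, φ})) t -
        (stdBasis K hd w).repr (Ideal.Quotient.mk _ (mX K {sup τ φ, inf τ φ})) t := by
      rw [hl, map_sub, Finsupp.sub_apply]
    by_cases h : (stdBasis K hd w).repr (Ideal.Quotient.mk _ (mX K {τ, φ})) t = 0
    · have h' : (stdBasis K hd w).repr (Ideal.Quotient.mk _ (mX K {sup τ φ, inf τ φ})) t ≠ 0 :=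
        fun h' => hlt (by rw [this, h, h', sub_zero])
      simpa using (card_eq_and_pot_le K hd w _ h').1
    · simpa using (card_eq_and_pot_le K hd w _ h).1
  -- row content is conserved
  have hrow : rowc t.1 = rowc ({τ, φ} : Multiset (Idx d n)) := by
    by_contra hne
    set ω := fun p : Fin n × Fin d => Finsupp.single p.1 (1 : ℕ)
    have h0 := congrArg (weightedHomogeneousComponent ω (rowc t.1))
      (echMap_eq_zero_of_mem K (vanishing_le_schubert K w hrel))
    have hp : ∀ a b : Idx d n, (X a * X b : PlRing K d n) = mX K {a, b} := fun a b => by simp [mX]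
    rw [map_zero, hp, hp, map_sub, map_sub, map_sub, map_sub,
      weightedHomogeneousComponent_of_mem (isWeightedHomogeneous_echMap_mX K w _), if_neg hne,
      weightedHomogeneousComponent_of_mem (isWeightedHomogeneous_echMap_mX K w _),
      if_neg (by rwa [rowc_sup_inf]), sub_zero, zero_sub, neg_eq_zero, Finsupp.sum, map_sum, map_sum] at h0
    have hcomp : ∀ x : CMS w, weightedHomogeneousComponent ω (rowc t.1) (echMap K w (mX K x.1)) =
        if rowc t.1 = rowc x.1 then echMap K w (mX K x.1) else 0 := fun x =>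
      weightedHomogeneousComponent_of_mem (isWeightedHomogeneous_echMap_mX K w x.1)
    simp only [map_smul, hcomp, smul_ite, smul_zero, ← Finset.sum_filter] at h0
    have hli : LinearIndependent K (fun s : CMS w => echMap K w (mX K s.1)) :=
      linearIndependent_of_top wt _ (fun s : CMS w => mdiag s.1) (fun s => top_mX K s.2.2)
        (fun a b h => Subtype.ext (mdiag_injOn_chains hd a.2.1 b.2.1 h))
    exact hlt (linearIndependent_iff'.1 hli _ l h0 t (Finset.mem_filter.2 ⟨ht', rfl⟩))
  have hne : t.1 ≠ 0 := by rw [← Multiset.card_pos]; omega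
  obtain ⟨a, ha, hSa⟩ := exists_ge_sup K hd hdn l hrel hlt hne
  obtain ⟨b', hb', hSb⟩ := exists_ge_sup K hd hdn (τ := revIdx τ) (φ := revIdx φ)
    (l.mapDomain (revCMS hdn)) (t := revCMS hdn t) (by
      have h := rename_rev_mem K hrel
      rw [map_sub, map_sub, map_mul, map_mul, map_finsuppSum, rename_X, rename_X, rename_X, rename_X,
        revIdx_sup, revIdx_inf, mul_comm (X (inf _ _))] at h
      rw [Finsupp.sum_mapDomain_index (h := fun (t : CMS (topIdx (d := d) hdn)) (c : K) => c • mX K t.1)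
        (fun _ => zero_smul K _) (fun _ _ _ => add_smul _ _ _)]
      simp only [map_smul, rename_rev_mX] at h
      exact h)
    (by
      rwa [Finsupp.mapDomain_apply]
      intro x y hxy
      refine Subtype.ext (Multiset.map_injective (fun a b h => ?_) (congrArg Subtype.val hxy))
      simpa [revIdx_revIdx] using congrArg revIdx h)
    (by simpa [revCMS] using hne)
  obtain ⟨b, hb, rfl⟩ := Multiset.mem_map.1 hb'
  rw [← revIdx_inf, revIdx_le_iff] at hSb
  have hIS : inf τ φ < sup τ φ := (ne_of_inf h₁).trans (ne_of_sup h₂)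
  have hba : b < a := hSb.trans_lt (hIS.trans_le hSa)
  obtain ⟨t', he⟩ := Multiset.exists_cons_of_mem ha
  have hbt : b ∈ t' := (Multiset.mem_cons.1 (he ▸ hb)).resolve_left hba.ne
  obtain ⟨c, rfl⟩ := Multiset.card_eq_one.1 (show t'.card = 1 by
    rw [he, Multiset.card_cons] at hcard; omega)
  obtain rfl := Multiset.mem_singleton.1 hbt
  have hSb' : a ≠ sup τ φ ∧ b ≠ inf τ φ := by
    have hsum : ∀ x y : Idx d n, rowc ({x, y} : Multiset (Idx d n)) =
        (∑ i, Finsupp.single (x.1 i) 1) + ∑ i, Finsupp.single (y.1 i) 1 := fun x y => by simp [rowc]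
    have hc : rowc ({a, b} : Multiset (Idx d n)) = rowc {sup τ φ, inf τ φ} := by
      rw [rowc_sup_inf, ← hrow, he]; rfl
    rw [hsum, hsum] at hc
    have hd1 : mdiag ({sup τ φ, inf τ φ} : Multiset (Idx d n)) = mdiag {τ, φ} := by
      simp [mdiag, diag_sup_add_diag_inf]
    constructor <;> intro hx <;> subst hx
    · obtain rfl := eq_of_content (add_left_cancel hc)
      rw [he, ← hd1] at hwt
      exact lt_irrefl _ hwt
    · obtain rfl := eq_of_content (add_right_cancel hc)
      rw [he, ← hd1] at hwt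
      exact lt_irrefl _ hwt
  refine Submodule.subset_span ⟨a, b, hba.le, lt_of_le_of_ne hSa hSb'.1.symm, lt_of_le_of_ne hSb hSb'.2, ?_⟩
  rw [he]
  simp [mX]

end Groth.Agent.SMT
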