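import Groth.Agent.Lib.SMT.Idx
import Mathlib.LinearAlgebra.Span.Basic
import Mathlib.Data.Fintype.Lattice
import Mathlib.Data.Fintype.Powerset
import Mathlib.Data.Fintype.Sort
import Mathlib.Algebra.MvPolynomial.Basic
import Mathlib.Tactic.Linarith

/-!
# Straightening: standard monomials span
-/

namespace Groth.Agent.SMT

open W4bk4grassmannian MvPolynomial

universe u

/-- A multiset supported on a chain. -/
def IsChainMS {P : Type*} [LE P] (s : Multiset P) : Prop := ∀ a ∈ s, ∀ b ∈ s, a ≤ b ∨ b ≤ a

section abstract_straightening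

variable {R A P : Type*} [CommRing R] [CommRing A] [Algebra R A] [PartialOrder P] [Fintype P]
  (h : P → ℕ) (u : P → A)

/-- Straightening law: incomparable products are combinations of products of larger potential. -/
def HasStraightening (R : Type*) [CommRing R] [Algebra R A] : Prop :=
  ∀ a b : P, ¬ a ≤ b → ¬ b ≤ a →
    u a * u b ∈ Submodule.span R {x | ∃ c e, h a ^ 2 + h b ^ 2 < h c ^ 2 + h e ^ 2 ∧ x = u c * u e}

theorem prod_mem_span_chains (hrel : HasStraightening h u R) (s : Multiset P) :
    (s.map u).prod ∈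
      Submodule.span R {x | ∃ t : Multiset P, IsChainMS t ∧ t.card = s.card ∧
        (s.map fun a => h a ^ 2).sum ≤ (t.map fun a => h a ^ 2).sum ∧ x = (t.map u).prod} := by
  classical
  set H := Finset.univ.sup h with hH
  have hbound : ∀ t : Multiset P, (t.map fun a => h a ^ 2).sum ≤ t.card * H ^ 2 := fun t => by
    have := Multiset.sum_le_card_nsmul (t.map fun a => h a ^ 2) (H ^ 2) (by
      intro x hx
      obtain ⟨a, _, rfl⟩ := Multiset.mem_map.1 hx
      exact Nat.pow_le_pow_left (Finset.le_sup (Finset.mem_univ a)) 2)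
    simpa using this
  induction hN : (s.card * H ^ 2 - (s.map fun a => h a ^ 2).sum) using Nat.strong_induction_on
    generalizing s with
  | _ N ih =>
    by_cases hs : IsChainMS s
    · exact Submodule.subset_span ⟨s, hs, rfl, le_rfl, rfl⟩
    simp only [IsChainMS, not_forall, not_or] at hs
    obtain ⟨a, ha, b, hb, hab, hba⟩ := hs
    have hne : b ≠ a := fun e => hab (e ▸ le_rfl)
    obtain ⟨s₁, rfl⟩ := Multiset.exists_cons_of_mem ha
    obtain ⟨rest, rfl⟩ := Multiset.exists_cons_of_mem ((Multiset.mem_cons.1 hb).resolve_left hne)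
    simp only [Multiset.map_cons, Multiset.prod_cons]
    rw [← mul_assoc]
    have := hrel a b hab hba
    generalize hgen : u a * u b = x at this ⊢
    clear hgen
    induction this using Submodule.span_induction with
    | mem x hx =>
      obtain ⟨c, e, hlt, rfl⟩ := hx
      have hb' := hbound (c ::ₘ e ::ₘ rest)
      have hh := ih ((c ::ₘ e ::ₘ rest).card * H ^ 2 - ((c ::ₘ e ::ₘ rest).map fun a => h a ^ 2).sum)
        (by
          rw [← hN]
          simp only [Multiset.map_cons, Multiset.sum_cons, Multiset.card_cons] at hb' ⊢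
          omega) (c ::ₘ e ::ₘ rest) rfl
      refine Submodule.span_le.2 ?_ (show u c * u e * (rest.map u).prod ∈ _ by
        simpa [mul_assoc] using hh)
      rintro _ ⟨t, hc, hcard, hpot, rfl⟩
      refine Submodule.subset_span ⟨t, hc, by simpa using hcard, le_trans ?_ hpot, rfl⟩
      simp only [Multiset.map_cons, Multiset.sum_cons]
      omega
    | zero => rw [zero_mul]; exact zero_mem _
    | add x y _ _ hx hy => rw [add_mul]; exact add_mem hx hy
    | smul r x _ hx => rw [smul_mul_assoc]; exact Submodule.smul_mem _ r hx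

end abstract_straightening

variable {d n : ℕ}

/-- A chain is the multiset of values of an antitone tuple. -/
theorem exists_antitone_of_chain : ∀ (m : ℕ) (s : Multiset (Idx d n)), s.card = m → IsChainMS s →
    ∃ c : Fin m → Idx d n, Antitone c ∧ (List.ofFn c : Multiset (Idx d n)) = s := by
  classical
  intro m
  induction m with
  | zero =>
    intro s hs _
    exact ⟨Fin.elim0, fun i => i.elim0, by simp [Multiset.card_eq_zero.1 hs]⟩
  | succ m ih =>
    intro s hs hc
    obtain ⟨a, ha, hmax⟩ := Finset.exists_max_image s.toFinset ht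
      ⟨_, Multiset.mem_toFinset.2 (Classical.choose_spec (Multiset.card_pos_iff_exists_mem.1 (by omega : 0 < s.card)))⟩
    rw [Multiset.mem_toFinset] at ha
    obtain ⟨s', rfl⟩ := Multiset.exists_cons_of_mem ha
    obtain ⟨c, hc', hceq⟩ := ih s' (by simpa using hs)
      fun x hx y hy => hc x (Multiset.mem_cons_of_mem hx) y (Multiset.mem_cons_of_mem hy)
    refine ⟨Fin.cons a c, fun i j hij => ?_, ?_⟩
    · cases i using Fin.cases with
      | zero =>
        cases j using Fin.cases with
        | zero => exact le_rfl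
        | succ j =>
          rw [Fin.cons_zero, Fin.cons_succ]
          have hmem : c j ∈ s' := by rw [← hceq]; exact Multiset.mem_coe.2 (List.mem_ofFn.2 ⟨j, rfl⟩)
          exact le_of_comparable (hc a (Multiset.mem_cons_self a s') _ (Multiset.mem_cons_of_mem hmem))
            (hmax _ (Multiset.mem_toFinset.2 (Multiset.mem_cons_of_mem hmem)))
      | succ i =>
        cases j using Fin.cases with
        | zero => exact absurd hij (not_le.2 (Fin.succ_pos i))
        | succ j => simpa using hc' (Fin.succ_le_succ_iff.1 hij)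
    · rw [List.ofFn_cons, ← Multiset.cons_coe, hceq]

theorem isChainMS_ofFn {m : ℕ} {c : Fin m → Idx d n} (hc : Antitone c) :
    IsChainMS (List.ofFn c : Multiset (Idx d n)) := by
  intro a ha b hb
  obtain ⟨i, rfl⟩ := List.mem_ofFn.1 (Multiset.mem_coe.1 ha)
  obtain ⟨j, rfl⟩ := List.mem_ofFn.1 (Multiset.mem_coe.1 hb)
  rcases le_total i j with h | h
  · exact Or.inr (hc h)
  · exact Or.inl (hc h)

variable {K : Type u} [CommRing K]

theorem map_chainMon {A : Type*} [CommRing A] [Algebra K A] (f : PlRing K d n →ₐ[K] A) {m : ℕ}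
    (c : Fin m → Idx d n) :
    f (chainMon K c) = ((List.ofFn c : Multiset (Idx d n)).map fun θ => f (X θ)).prod := by
  rw [chainMon, map_prod, Multiset.map_coe, Multiset.prod_coe, List.map_ofFn, List.prod_ofFn]
  rfl

/-- A homomorphism killing the shuffle relations at pivots satisfies the straightening law. -/
theorem hasStraightening_of_shuffle {T : Type*} [CommRing T] [Algebra K T]
    (f : PlRing K d n →ₐ[K] T)
    (hf : ∀ (i j : Idx d n) (r : Fin d), IsPivot i j r → f (shuffleRel K i j r) = 0) :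
    HasStraightening ht (fun θ => f (X θ)) K := by
  intro a b hab hba
  wlog hh : ht b ≤ ht a generalizing a b
  · have h2 := this b a hba hab (le_of_lt (not_le.1 hh))
    rw [mul_comm (f (X a))]
    convert h2 using 4
    rw [add_comm]
  classical
  have hex : ∃ t : ℕ, ∃ hlt : t < d, a.1 ⟨t, hlt⟩ < b.1 ⟨t, hlt⟩ := by
    by_contra hno
    push Not at hno
    exact hba fun t => hno t.1 t.2
  obtain ⟨hrd, hlt⟩ := Nat.find_spec hex
  set r : Fin d := ⟨Nat.find hex, hrd⟩ with hr
  have hpiv : IsPivot a b r := ⟨fun t ht' => not_lt.1 fun hl => Nat.find_min hex ht' ⟨t.2, hl⟩, hlt⟩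
  have hmove : StrictMono (fun k => (movingRows a b r k : ℕ)) := by
    intro k l hkl
    rw [Fin.lt_def] at hkl
    simp only [movingRows]
    split_ifs with h1 h2 h2
    · exact a.2 (show (⟨k.val, _⟩ : Fin d) < ⟨l.val, _⟩ from hkl)
    · refine lt_of_le_of_lt (a.2.monotone (show (⟨k.val, _⟩ : Fin d) ≤ r from h1)) (lt_of_lt_of_le (show (a.1 r : ℕ) < b.1 r from hlt) ?_)
      exact b.2.monotone (show r ≤ (⟨l.val - 1, _⟩ : Fin d) by simp only [Fin.le_def]; omega)
    · omega
    · exact b.2 (show (⟨k.val - 1, _⟩ : Fin d) < ⟨l.val - 1, _⟩ by simp only [Fin.lt_def]; omega)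
  let A₀ : Finset (Fin (d + 1)) := Finset.univ.filter fun k => k.val ≤ r.val
  have hA₀ : A₀.card = r.val + 1 := by
    rw [show A₀ = Finset.Iic (r.castSucc) by ext k; simp [A₀, Fin.le_def], Fin.card_Iic]
    rfl
  have hC₀ : A₀ᶜ.card = d - r.val := by rw [Finset.card_compl, hA₀, Fintype.card_fin]; omega
  have e₀ : ∀ x : Fin (r.val + 1), (A₀.orderEmbOfFin hA₀ x : ℕ) = x := by
    intro x
    have := Finset.orderEmbOfFin_unique hA₀
      (f := fun y : Fin (r.val + 1) => (⟨y.val, by omega⟩ : Fin (d + 1)))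
      (fun y => by simp [A₀]; omega) (fun y z hyz => hyz)
    rw [← this]
  have c₀ : ∀ x : Fin (d - r.val), (A₀ᶜ.orderEmbOfFin hC₀ x : ℕ) = r.val + 1 + x := by
    intro x
    have := Finset.orderEmbOfFin_unique hC₀
      (f := fun y : Fin (d - r.val) => (⟨r.val + 1 + y.val, by omega⟩ : Fin (d + 1)))
      (fun y => by simp [A₀]; omega) (fun y z hyz => by simp only [Fin.lt_def] at hyz ⊢; omega)
    rw [← this]
  have hI₀ : shuffleI a b r A₀ hA₀ = a.1 := by
    funext t
    unfold shuffleI
    split_ifs with h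
    · simp only [movingRows, e₀]
      rw [dif_pos h]
    · rfl
  have hJ₀ : shuffleJ a b r A₀ hA₀ = b.1 := by
    funext t
    simp only [shuffleJ]
    split_ifs with h
    · rfl
    · simp only [movingRows, c₀]
      rw [dif_neg (by omega)]
      exact congrArg b.1 (Fin.ext (by simp; omega))
  have hsign : shuffleSign r A₀ = 0 := by
    have hs : A₀.sum (fun k => k.val) = r.val * (r.val + 1) / 2 := by
      conv_lhs => rw [← Finset.map_orderEmbOfFin_univ A₀ hA₀, Finset.sum_map]
      refine (Finset.sum_congr rfl (g := fun t : Fin (r.val + 1) => (t : ℕ)) fun x _ => e₀ x).trans ?_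
      rw [Fin.sum_univ_eq_sum_range (fun t => t), Finset.sum_range_id, Nat.add_sub_cancel, mul_comm]
    rw [shuffleSign, hs, Nat.sub_self]
  -- the relation, with the identity shuffle split off
  have hrel := hf a b r hpiv
  rw [shuffleRel, ← Finset.add_sum_erase _ _ (Finset.mem_univ A₀), map_add, shuffleTerm,
    dif_pos hA₀, hI₀, hJ₀, hsign, pow_zero, one_mul, coord_strictMono, coord_strictMono, map_mul] at hrel
  rw [eq_neg_of_add_eq_zero_left hrel, map_sum]
  refine Submodule.neg_mem _ (Submodule.sum_mem _ fun A hA => ?_)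
  rw [shuffleTerm]
  split_ifs with hcard
  swap
  · rw [map_zero]; exact zero_mem _
  have hAne : A ≠ A₀ := (Finset.mem_erase.1 hA).1
  unfold coord
  split_ifs with h1 h2
  rotate_left
  · simp
  · simp
  · simp
  rw [map_mul, map_mul, map_mul, map_mul, map_pow, map_pow, map_pow, map_neg, map_one]
  rw [show ∀ (p q s x y : T) (_ : Unit), p * (q * x) * (s * y) = (p * q * s) * (x * y) from
    fun p q s x y _ => by ring]
  swap
  · exact ()
  have hsmul : ∀ (e₁ e₂ e₃ : ℕ) (z : T), (-1 : T) ^ e₁ * (-1) ^ e₂ * (-1) ^ e₃ * z =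
      ((-1 : K) ^ (e₁ + e₂ + e₃)) • z := fun e₁ e₂ e₃ z => by
    rw [Algebra.smul_def, map_pow, map_neg, map_one, pow_add, pow_add]
  rw [hsmul]
  refine Submodule.smul_mem _ _ (Submodule.subset_span ⟨_, _, ?_, rfl⟩)
  rw [ht_sortIdx h1, ht_sortIdx h2]
  -- sums of the shuffled tuples
  let g : Fin (d + 1) → ℕ := fun k => (movingRows a b r k : ℕ)
  have hCc : Aᶜ.card = d - r.val := by rw [Finset.card_compl, hcard, Fintype.card_fin]; omega
  have splitI : ∀ F : Fin d → ℕ, ∑ t, F t =
      (∑ x : Fin (r.val + 1), F ⟨x.val, by omega⟩) + ∑ t ∈ Finset.univ.filter (fun t : Fin d => ¬ t.val ≤ r.val), F t := by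
    intro F
    rw [← Finset.sum_filter_add_sum_filter_not Finset.univ (fun t : Fin d => t.val ≤ r.val)]
    congr 1
    refine (Finset.sum_bij (fun x _ => (⟨x.val, by omega⟩ : Fin d)) ?_ ?_ ?_ (fun _ _ => rfl)).symm
    · intro x _; exact Finset.mem_filter.2 ⟨Finset.mem_univ _, by show x.val ≤ r.val; omega⟩
    · intro x _ y _ h; simpa [Fin.ext_iff] using h
    · intro t ht'; simp at ht'; rw [Fin.le_def] at ht'; exact ⟨⟨t.val, by omega⟩, Finset.mem_univ _, rfl⟩
  have splitJ : ∀ F : Fin d → ℕ, ∑ t, F t =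
      (∑ t ∈ Finset.univ.filter (fun t : Fin d => t.val < r.val), F t) + ∑ x : Fin (d - r.val), F ⟨r.val + x.val, by omega⟩ := by
    intro F
    rw [← Finset.sum_filter_add_sum_filter_not Finset.univ (fun t : Fin d => t.val < r.val)]
    congr 1
    refine (Finset.sum_bij (fun x _ => (⟨r.val + x.val, by omega⟩ : Fin d)) ?_ ?_ ?_ (fun _ _ => rfl)).symm
    · intro x _; exact Finset.mem_filter.2 ⟨Finset.mem_univ _, by show ¬ (r.val + x.val < r.val); omega⟩
    · intro x _ y _ h; simpa [Fin.ext_iff] using h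
    · intro t ht'; simp at ht'; rw [Fin.le_def] at ht'
      exact ⟨⟨t.val - r.val, by omega⟩, Finset.mem_univ _, Fin.ext (by simp; omega)⟩
  have sI : ∀ (B : Finset (Fin (d + 1))) (hB : B.card = r.val + 1), ∑ t, (shuffleI a b r B hB t : ℕ) =
      (∑ k ∈ B, g k) + ∑ t ∈ Finset.univ.filter (fun t : Fin d => ¬ t.val ≤ r.val), (a.1 t : ℕ) := by
    intro B hB
    rw [splitI]
    congr 1
    · conv_rhs => rw [← Finset.map_orderEmbOfFin_univ B hB, Finset.sum_map]
      refine Finset.sum_congr rfl fun x _ => ?_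
      simp only [shuffleI]
      rw [dif_pos (by omega)]
      rfl
    · refine Finset.sum_congr rfl fun t ht' => ?_
      simp only [Finset.mem_filter] at ht'
      simp only [shuffleI]
      rw [dif_neg ht'.2]
  have sJ : ∀ (B : Finset (Fin (d + 1))) (hB : B.card = r.val + 1), ∑ t, (shuffleJ a b r B hB t : ℕ) =
      (∑ t ∈ Finset.univ.filter (fun t : Fin d => t.val < r.val), (b.1 t : ℕ)) + ∑ k ∈ Bᶜ, g k := by
    intro B hB
    have hB' : Bᶜ.card = d - r.val := by rw [Finset.card_compl, hB, Fintype.card_fin]; omega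
    rw [splitJ]
    congr 1
    · refine Finset.sum_congr rfl fun t ht' => ?_
      simp only [Finset.mem_filter] at ht'
      simp only [shuffleJ]
      rw [dif_pos ht'.2]
    · conv_rhs => rw [← Finset.map_orderEmbOfFin_univ Bᶜ hB', Finset.sum_map]
      refine Finset.sum_congr rfl fun x _ => ?_
      simp only [shuffleJ]
      rw [dif_neg (by simp)]
      simp [g]
  -- moving the rows `A` in place of the first `r + 1` ones strictly increases the sum
  have hlt' : ∑ k ∈ A₀, g k < ∑ k ∈ A, g k := by
    conv_lhs => rw [← Finset.map_orderEmbOfFin_univ A₀ hA₀, Finset.sum_map]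
    conv_rhs => rw [← Finset.map_orderEmbOfFin_univ A hcard, Finset.sum_map]
    have hge : ∀ x : Fin (r.val + 1), x.val ≤ (A.orderEmbOfFin hcard x : ℕ) := by
      intro x
      obtain ⟨x, hx⟩ := x
      induction x with
      | zero => exact Nat.zero_le _
      | succ x ihx =>
        have h' := (A.orderEmbOfFin hcard).strictMono
          (show (⟨x, Nat.lt_of_succ_lt hx⟩ : Fin (r.val + 1)) < ⟨x + 1, hx⟩ from Nat.lt_succ_self x)
        have := ihx (Nat.lt_of_succ_lt hx)
        simp only [Fin.lt_def] at *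
        omega
    refine Finset.sum_lt_sum (fun x _ => hmove.monotone (by rw [Fin.le_def, RelEmbedding.coe_toEmbedding, RelEmbedding.coe_toEmbedding, e₀]; exact hge x)) ?_
    by_contra hno
    push Not at hno
    apply hAne
    rw [← Finset.image_orderEmbOfFin_univ A hcard, ← Finset.image_orderEmbOfFin_univ A₀ hA₀]
    refine Finset.image_congr fun x _ => Fin.ext ?_
    rw [e₀]
    refine le_antisymm ?_ (hge x)
    by_contra hgt
    have := hno x (Finset.mem_univ x)
    have h' := hmove (show A₀.orderEmbOfFin hA₀ x < A.orderEmbOfFin hcard x by rw [Fin.lt_def, e₀]; omega)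
    simp only [RelEmbedding.coe_toEmbedding, g] at this
    exact absurd h' (not_lt.2 this)
  have ha : ht a = ∑ t, (shuffleI a b r A₀ hA₀ t : ℕ) := by rw [hI₀]; rfl
  have hb : ht b = ∑ t, (shuffleJ a b r A₀ hA₀ t : ℕ) := by rw [hJ₀]; rfl
  rw [ha, hb, sI, sI, sJ, sJ]
  rw [ha, hb, sI, sJ] at hh
  have hcons : ∑ k ∈ A, g k + ∑ k ∈ Aᶜ, g k = ∑ k ∈ A₀, g k + ∑ k ∈ A₀ᶜ, g k := by
    rw [Finset.sum_add_sum_compl, Finset.sum_add_sum_compl]
  obtain ⟨δ, hδ⟩ := Nat.exists_eq_add_of_lt hlt'
  have hδ' : ∑ k ∈ A₀ᶜ, g k = ∑ k ∈ Aᶜ, g k + (δ + 1) := by omega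
  rw [hδ]
  rw [hδ'] at hh ⊢
  nlinarith

theorem chains_span {A : Type*} [CommRing A] [Algebra K A] (f : PlRing K d n →ₐ[K] A)
    (hsurj : Function.Surjective f)
    (hf : HasStraightening ht (fun θ => f (X θ)) K) :
    Submodule.span K (Set.range fun c : (Σ m : ℕ, {c : Fin m → Idx d n // Antitone c}) =>
      f (chainMon K c.2.1)) = ⊤ := by
  classical
  rw [eq_top_iff]
  rintro x -
  obtain ⟨p, rfl⟩ := hsurj x
  induction p using MvPolynomial.induction_on' with
  | add p q hp hq => rw [map_add]; exact add_mem hp hq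
  | monomial m r =>
    rw [show monomial m r = r • (monomial m (1 : K)) by rw [smul_monomial, smul_eq_mul, mul_one],
      map_smul]
    refine Submodule.smul_mem _ _ ?_
    have hm : f (monomial m (1 : K)) = ((Finsupp.toMultiset m).map fun θ => f (X θ)).prod := by
      rw [monomial_eq, C_1, one_mul, Finsupp.prod, map_prod, Finset.prod_multiset_map_count,
        Finsupp.toFinset_toMultiset]
      refine Finset.prod_congr rfl fun θ _ => ?_
      rw [map_pow, Finsupp.count_toMultiset]
    rw [hm]
    refine Submodule.span_le.2 ?_ (prod_mem_span_chains ht _ hf (Finsupp.toMultiset m))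
    rintro _ ⟨t, hc, _, _, rfl⟩
    obtain ⟨c, hanti, hceq⟩ := exists_antitone_of_chain _ t rfl hc
    refine Submodule.subset_span ⟨⟨_, c, hanti⟩, ?_⟩
    show f (chainMon K c) = _
    rw [map_chainMon, hceq]

end Groth.Agent.SMT
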